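import Cfsg.Agent.Lib.Recog.JankoThree.Basic
import Cfsg.Agent.Lib.Recog.JankoTwoUnique.TwoClasses
import Mathlib

/-!
Owner: helper29. The hypothesis blocks from the statements.
-/

set_option autoImplicit false
set_option linter.all false

namespace CfsgLib.Recog.J3T

open Subgroup Cfsg CfsgLib.Recog CfsgLib.Recog.HJType

variable {G : Type*} [Group G] [Finite G]

theorem local_of_statement [IsSimpleGroup G] (t : G) (ht : orderOf t = 2)
    (Q : Subgroup (Subgroup.centralizer ({t} : Set G))) [Q.Normal] (hQ : Cfsg.IsExtraspecial 2 Q)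
    (hcard : Nat.card Q = 32)
    (e : (Subgroup.centralizer ({t} : Set G)) ⧸ Q ≃* alternatingGroup (Fin 5)) :
    ∃ Q₀ : Subgroup G, Local t Q₀ := by
  haveI : Fact (Nat.Prime 2) := ⟨Nat.prime_two⟩
  have hmem : ∀ c : (Subgroup.centralizer ({t} : Set G)),
      (c : G) ∈ Q.map (Subgroup.centralizer ({t} : Set G)).subtype ↔ c ∈ Q := fun c =>
    mem_map_iff_mem (Subgroup.centralizer ({t} : Set G)).subtype_injective
  have hX := CfsgLib.Pairs.Cubic.extraspecial_congr hQ
    (Q.equivMapOfInjective _ (Subgroup.centralizer ({t} : Set G)).subtype_injective)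
  have hc : Nat.card ↥(Q.map (Subgroup.centralizer ({t} : Set G)).subtype) = 32 := by
    rw [card_map_of_injective (Subgroup.centralizer ({t} : Set G)).subtype_injective, hcard]
  have hk : ∀ c, (e.toMonoidHom.comp (QuotientGroup.mk' Q)) c = 1 ↔
      (c : G) ∈ Q.map (Subgroup.centralizer ({t} : Set G)).subtype := by
    intro c
    rw [hmem, ← QuotientGroup.eq_one_iff c]
    exact e.map_eq_one_iff
  have hsur : Function.Surjective (e.toMonoidHom.comp (QuotientGroup.mk' Q)) :=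
    e.surjective.comp (QuotientGroup.mk'_surjective Q)
  refine ⟨_, ht, map_subtype_le _, ?_, hX, hc, self_of_simple ht (map_subtype_le _) hX hc _ hsur hk, _, hsur, hk⟩
  rintro c hc' _ ⟨q, hq, rfl⟩
  exact ⟨⟨c, hc'⟩ * q * (⟨c, hc'⟩ : (Subgroup.centralizer ({t} : Set G)))⁻¹,
    (inferInstance : Q.Normal).conj_mem q hq _, rfl⟩

/-- A conjugate of the involution lies in its extraspecial subgroup. -/
theorem fus_of_local [IsSimpleGroup G] {t : G} {Q₀ : Subgroup G} (h : Local t Q₀) :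
    ∃ g : G, g * t * g⁻¹ ∈ Q₀ ∧ g * t * g⁻¹ ≠ t := by
  classical
  by_contra hcon
  push Not at hcon
  obtain ⟨g, hgC, hgt⟩ := CfsgLib.Recog.JTwoU.exists_conj_commuting h
  set v := g * t * g⁻¹ with hv
  have hv2 : v * v = 1 := invol_conj g h.zz
  have hvQ : v ∉ Q₀ := fun hq => hgt (hcon g hq)
  have R := h.conj_local g
  rw [← hv] at R
  set Qv := Q₀.map (MulAut.conj g).toMonoidHom with hQv
  have hRcon : ∀ k : G, k * v * k⁻¹ ∈ Qv → k * v * k⁻¹ = v := by
    rintro k ⟨q, hq, hqe⟩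
    have e1 : q = (g⁻¹ * k * g) * t * (g⁻¹ * k * g)⁻¹ := by
      have : g * q * g⁻¹ = k * v * k⁻¹ := hqe
      calc q = g⁻¹ * (g * q * g⁻¹) * g := by group
        _ = _ := by rw [this, hv]; group
    have e2 := hcon (g⁻¹ * k * g) (e1 ▸ hq)
    calc k * v * k⁻¹ = g * ((g⁻¹ * k * g) * t * (g⁻¹ * k * g)⁻¹) * g⁻¹ := by rw [hv]; group
      _ = v := by rw [e2]
  have htv : t ∈ centralizer ({v} : Set G) := mem_cent.2 (mem_cent.1 hgC).symm
  have htR : t ∉ Qv := by
    intro hq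
    have e1 : g⁻¹ * v * g⁻¹⁻¹ = t := by rw [hv]; group
    exact hgt ((hRcon g⁻¹ (e1.symm ▸ hq)).symm.trans e1)
  obtain ⟨r, hr, hr1, hrv⟩ : ∃ r ∈ Qv ⊓ centralizer ({t} : Set G), r ≠ 1 ∧ r ≠ v := by
    by_contra hcon'
    push Not at hcon'
    have hsub : ((Qv ⊓ centralizer ({t} : Set G) : Subgroup G) : Set G) ⊆ ({1, v} : Set G) := by
      intro r hr
      by_cases h1 : r = 1
      · exact Or.inl h1
      · exact Or.inr (hcon' r hr h1)
    have := (Set.ncard_le_ncard hsub (Set.toFinite _)).trans (Set.ncard_insert_le _ _)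
    rw [Set.ncard_singleton, ← Nat.card_coe_set_eq] at this
    have h4 : Nat.card ↥(Qv ⊓ centralizer ({t} : Set G) : Subgroup G) = 4 := R.card_inf_outer h.zz htv htR
    change Nat.card ↥(Qv ⊓ centralizer ({t} : Set G) : Subgroup G) ≤ 2 at this
    omega
  have hvR : v ∈ Qv := R.z_mem
  have hinner : ∀ s ∈ Qv ⊓ centralizer ({t} : Set G), s ≠ 1 → s ≠ v → s ∈ Q₀ := by
    intro s hs hs1 hsv
    by_contra hsQ
    have hs2 := R.centralizer_inf_sq h.zz htv htR hs.1 hs.2
    obtain ⟨c, -, hc⟩ := h.outer_conj hv2 hgC hvQ hs2 hs.2 hsQ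
    exact hsv (hc ▸ hRcon c (hc.symm ▸ hs.1))
  have hvr : v * r ∈ Qv ⊓ centralizer ({t} : Set G) :=
    ⟨mul_mem hvR hr.1, mul_mem (mem_cent.2 (mem_cent.1 hgC)) hr.2⟩
  have h1 : v * r ≠ 1 := fun e => hrv (by
    rw [← inv_eq_of_mul_eq_one_right e]
    exact inv_eq_of_mul_eq_one_right hv2)
  have h2 : v * r ≠ v := fun e => hr1 (mul_eq_left.1 e)
  have := mul_mem (hinner _ hvr h1 h2) (Subgroup.inv_mem _ (hinner r hr hr1 hrv))
  rw [mul_inv_cancel_right] at this
  exact hvQ this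


end CfsgLib.Recog.J3T
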