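import Cfsg.Agent.Lib.Recog.JankoThree.Self
import Mathlib

/-!
Owner: helper29. Groups of the type of the third Janko group: the hypothesis block.
-/

set_option autoImplicit false
set_option linter.all false

namespace CfsgLib.Recog.J3T

open Subgroup Cfsg CfsgLib.Recog CfsgLib.Recog.HJType

local notation "A5" => alternatingGroup (Fin 5)

variable {G : Type*} [Group G]

/-- A group of the type of the third Janko group at `z`. -/
structure Hyp (z : G) (Q : Subgroup G) : Prop where
  loc : Local z Q
  one : ∀ x y : G, orderOf x = 2 → orderOf y = 2 → IsConj x y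

variable [Finite G]

/-- Two extraspecial subgroups of centralizers see each other symmetrically. -/
theorem mem_symm {z u : G} {Q Q' : Subgroup G} (hz : Local z Q) (hu : Local u Q') (hmem : u ∈ Q)
    (hne : u ≠ z) : z ∈ Q' := by
  by_contra hzQ
  have h1 := hz.card_inf_centralizer_inner hmem hu.zz ⟨hu.z_ne, hne⟩
  have h2 := hu.card_inf_centralizer_outer hz.zz (mem_cent.2 (mem_cent.1 (hz.le hmem)).symm) hzQ
  rw [inf_comm] at h2
  omega

namespace Hyp

variable {z : G} {Q : Subgroup G} (h : Hyp z Q)
include h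

theorem move (g : G) : Hyp (g * z * g⁻¹) (Q.map (MulAut.conj g).toMonoidHom) := ⟨h.loc.conj_local g, h.one⟩

theorem exists_at {x : G} (hx : orderOf x = 2) : ∃ R : Subgroup G, Hyp x R := by
  obtain ⟨g, rfl⟩ := isConj_iff.1 (h.one z x h.loc.hz hx)
  exact ⟨_, h.move g⟩

theorem exists_inner : ∃ u : G, u ∈ Q ∧ u * u = 1 ∧ u ≠ 1 ∧ u ≠ z := by
  classical
  by_contra hc
  push Not at hc
  have hinj : Function.Injective (fun q : {x : Q // x * x = 1} => decide (((q.1 : Q) : G) = 1)) := by
    intro a b e
    refine Subtype.ext (Subtype.ext ?_)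
    by_cases ha : ((a.1 : Q) : G) = 1 <;> by_cases hb : ((b.1 : Q) : G) = 1
    · rw [ha, hb]
    · simp [ha, hb] at e
    · simp [ha, hb] at e
    · rw [hc _ a.1.2 (congrArg Subtype.val a.2) ha, hc _ b.1.2 (congrArg Subtype.val b.2) hb]
  have := Nat.card_le_card_of_injective _ hinj
  rw [h.loc.minus.1, Nat.card_eq_fintype_card, Fintype.card_bool] at this
  omega

end Hyp

end CfsgLib.Recog.J3T
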