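import Cfsg.Agent.Lib.Recog.JankoTwoUnique.Model
import Cfsg.Agent.Lib.Recog.JankoTwoUnique.Chain
import Cfsg.Agent.Lib.Sporadic.Bits

/-!
Owner: helper29. The centralizer of two commuting unlinked involutions, and the relations of a third
involution, in the model on 32 points: generated data and finite checks.
-/

set_option autoImplicit false
set_option Elab.async false
set_option maxRecDepth 20000

namespace CfsgLib.Recog.J3T.CModel

open CfsgLib.Recog.JTwoU CfsgLib.Sporadic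

/-- The seven letters, packed five bits to a point. -/
def packed : ℕ := 12363980147489933557075735437110239539112973144060309736294463311266532012974508231118691840430123206820336561290423982011377459719683426375247836160987590836732454806889965398902188752262699830078633235345015763983609677246197386217164468328299297770422419442942823957488146325713475498943681091634171105492829131989001560569000544733312

/-- The image of a point under one letter. -/
noncomputable def step (k x : ℕ) : ℕ := Nat.land (Nat.shiftRight packed (Nat.add (Nat.mul 160 k) (Nat.mul 5 x))) 31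

/-- The image of a point under a word. -/
noncomputable def trc (w : List ℕ) (x : ℕ) : ℕ := List.rec x (fun k _ ih => step k ih) w

/-- Two words act alike. -/
noncomputable def same (w w' : List ℕ) : Bool := forallLt 32 fun i => Nat.beq (trc w i) (trc w' i)

theorem step_eq : ∀ k < 7, ∀ i : Fin 32, step k i.1 = (Model.m k i).1 := by decide +kernel

theorem trc_eq : ∀ (w : List ℕ), (∀ k ∈ w, k < 7) → ∀ i : Fin 32, trc w i.1 = (ev Model.m w i).1
  | [], _, i => rfl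
  | k :: w, hw, i => by
    show step k (trc w i.1) = _
    rw [trc_eq w (fun j hj => hw j (List.mem_cons_of_mem _ hj)) i, step_eq k (hw k List.mem_cons_self), ev_cons]
    rfl

theorem key_of_same {w w' : List ℕ} (hw : ∀ k ∈ w, k < 7) (hw' : ∀ k ∈ w', k < 7)
    (h : same w w' = true) : Model.key w = Model.key w' := by
  refine List.map_congr_left fun i _ => ?_
  rw [← trc_eq w hw i, ← trc_eq w' hw' i]
  exact Nat.eq_of_beq_eq_true (forallLt_elim h i.2)

/-- Transversal of the centralizer of the outer involution. -/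
def T : List (List ℕ) := [
  [], [0], [2], [3], [4], [6], [1, 0], [2, 0],
  [6, 0], [1, 2], [3, 2], [4, 2], [6, 2], [0, 3], [1, 3], [2, 3],
  [4, 3], [6, 3], [0, 4], [1, 4], [2, 4], [6, 4], [0, 6], [1, 6],
  [2, 6], [3, 6], [0, 1, 0], [3, 1, 0], [4, 1, 0], [6, 1, 0], [3, 2, 0], [4, 2, 0],
  [6, 2, 0], [0, 6, 0], [1, 6, 0], [2, 6, 0], [4, 1, 2], [6, 1, 2], [4, 3, 2], [6, 3, 2],
  [0, 4, 2], [6, 4, 2], [0, 6, 2], [2, 6, 2], [3, 6, 2], [1, 0, 3], [4, 0, 3], [6, 0, 3],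
  [6, 1, 3], [6, 2, 3], [0, 4, 3], [1, 4, 3], [2, 4, 3], [0, 6, 3], [2, 6, 3], [1, 0, 4],
  [2, 0, 4], [3, 0, 4], [0, 1, 4], [3, 1, 4], [6, 1, 4], [3, 2, 4], [4, 2, 4], [6, 2, 4],
  [2, 6, 4], [1, 0, 6], [2, 0, 6], [3, 0, 6], [3, 1, 6], [4, 1, 6], [6, 1, 6], [3, 2, 6],
  [4, 2, 6], [1, 3, 6], [4, 0, 1, 0], [6, 0, 1, 0], [4, 3, 1, 0], [6, 3, 1, 0], [6, 4, 1, 0], [3, 6, 1, 0],
  [4, 3, 2, 0], [6, 3, 2, 0], [6, 4, 2, 0], [0, 6, 2, 0], [3, 0, 6, 0], [6, 0, 6, 0], [0, 1, 6, 0], [2, 1, 6, 0],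
  [3, 1, 6, 0], [1, 2, 6, 0], [0, 4, 1, 2], [0, 6, 1, 2], [1, 6, 1, 2], [2, 6, 1, 2], [0, 6, 3, 2], [2, 6, 3, 2],
  [1, 0, 4, 2], [3, 0, 4, 2], [4, 0, 4, 2], [6, 0, 4, 2], [1, 6, 4, 2], [2, 0, 6, 2], [1, 2, 6, 2], [3, 2, 6, 2],
  [4, 2, 6, 2], [1, 3, 6, 2], [6, 1, 0, 3], [0, 6, 1, 3], [2, 6, 2, 3], [1, 0, 4, 3], [3, 1, 4, 3], [4, 0, 6, 3],
  [1, 2, 6, 3], [2, 1, 0, 4], [6, 1, 0, 4], [1, 2, 0, 4], [0, 3, 0, 4], [2, 6, 3, 1, 0], [2, 0, 6, 1, 2], [1, 2, 6, 3, 2]]

/-- The subgroup fixing the outer involution. -/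
def E : List (List ℕ) := [
  [], [5], [1], [5, 1], [0, 4, 0], [5, 0, 4, 0], [1, 0, 4, 0], [5, 1, 0, 4, 0],
  [0, 3, 0], [5, 0, 3, 0], [1, 0, 3, 0], [5, 1, 0, 3, 0], [0, 4, 0, 0, 3, 0], [5, 0, 4, 0, 0, 3, 0], [1, 0, 4, 0, 0, 3, 0], [5, 1, 0, 4, 0, 0, 3, 0]]

/-- Cosets of products with letters. -/
def next : List (List (ℕ × ℕ)) := [
  [(1, 0), (0, 0), (7, 0), (13, 0), (18, 0), (22, 0), (26, 0), (2, 0), (33, 0), (9, 8), (10, 2), (40, 0),
  (42, 0), (3, 0), (30, 10), (27, 2), (50, 0), (53, 0), (4, 0), (58, 0), (56, 0), (28, 4), (5, 0), (23, 7),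
  (66, 0), (25, 14), (6, 0), (15, 2), (21, 4), (69, 4), (14, 10), (79, 14), (83, 0), (8, 0), (86, 0), (62, 7),
  (90, 0), (91, 0), (61, 2), (94, 0), (11, 0), (52, 13), (12, 0), (101, 0), (85, 12), (45, 10), (59, 2), (87, 14),
  (107, 0), (67, 11), (16, 0), (64, 12), (41, 13), (17, 0), (109, 12), (74, 0), (20, 0), (116, 0), (19, 0), (46, 2),
  (70, 1), (38, 2), (35, 7), (92, 13), (51, 12), (75, 1), (24, 0), (49, 11), (71, 14), (29, 4), (60, 1), (68, 14),
  (95, 15), (108, 2), (55, 0), (65, 1), (96, 10), (98, 15), (78, 6), (31, 14), (110, 8), (84, 9), (82, 12), (32, 0),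
  (81, 9), (44, 12), (34, 0), (47, 14), (89, 15), (88, 15), (36, 0), (37, 0), (63, 13), (118, 0), (39, 0), (72, 15),
  (76, 10), (113, 2), (77, 15), (99, 9), (115, 13), (43, 0), (102, 11), (103, 13), (106, 7), (117, 0), (104, 7), (48, 0),
  (73, 2), (54, 12), (80, 8), (111, 15), (119, 1), (97, 2), (114, 3), (100, 13), (57, 0), (105, 0), (93, 0), (112, 1)],
  [(0, 2), (6, 0), (9, 0), (14, 0), (19, 0), (23, 0), (1, 0), (15, 8), (34, 0), (2, 0), (26, 8), (32, 12),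
  (12, 13), (45, 0), (3, 0), (7, 8), (51, 0), (46, 14), (55, 0), (4, 0), (36, 0), (61, 12), (65, 0), (5, 0),
  (24, 14), (73, 0), (10, 8), (27, 8), (57, 8), (74, 6), (30, 10), (52, 8), (11, 12), (33, 3), (8, 0), (89, 0),
  (20, 0), (92, 0), (60, 10), (58, 13), (96, 0), (100, 0), (98, 4), (102, 0), (105, 0), (13, 0), (17, 14), (47, 15),
  (101, 6), (71, 2), (109, 0), (16, 0), (31, 8), (104, 12), (112, 0), (18, 0), (115, 0), (28, 8), (39, 13), (110, 0),
  (38, 10), (21, 12), (82, 13), (76, 2), (72, 14), (22, 0), (108, 5), (67, 9), (99, 5), (94, 15), (93, 14), (49, 2),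
  (64, 14), (25, 0), (29, 6), (75, 7), (63, 2), (103, 0), (85, 1), (90, 6), (97, 10), (111, 14), (62, 13), (91, 9),
  (87, 12), (78, 1), (114, 1), (84, 12), (88, 12), (35, 0), (79, 6), (83, 9), (37, 0), (70, 14), (69, 15), (119, 0),
  (40, 0), (80, 10), (42, 4), (68, 5), (41, 0), (48, 6), (43, 0), (77, 0), (53, 12), (44, 0), (113, 7), (107, 11),
  (66, 5), (50, 0), (59, 0), (81, 14), (54, 0), (106, 7), (86, 1), (56, 0), (118, 7), (117, 6), (116, 7), (95, 0)],
  [(2, 0), (7, 0), (0, 0), (15, 0), (20, 0), (24, 0), (14, 8), (1, 0), (35, 0), (9, 2), (10, 10), (19, 2),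
  (43, 0), (27, 2), (6, 8), (3, 0), (52, 0), (54, 0), (56, 0), (11, 2), (4, 0), (64, 0), (66, 0), (23, 14),
  (5, 0), (25, 9), (30, 2), (13, 2), (51, 8), (38, 4), (26, 2), (57, 8), (36, 14), (62, 7), (87, 0), (8, 0),
  (32, 14), (93, 0), (29, 4), (95, 0), (58, 2), (50, 13), (101, 0), (12, 0), (48, 13), (45, 8), (63, 8), (86, 14),
  (44, 13), (108, 0), (41, 13), (28, 8), (16, 0), (109, 12), (17, 0), (113, 0), (18, 0), (31, 8), (40, 2), (92, 7),
  (80, 0), (69, 2), (33, 7), (46, 8), (21, 0), (71, 7), (22, 0), (73, 9), (75, 8), (61, 2), (110, 9), (65, 7),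
  (94, 15), (67, 9), (97, 2), (68, 8), (112, 4), (117, 0), (78, 11), (116, 6), (60, 0), (88, 10), (82, 3), (90, 14),
  (89, 12), (107, 1), (47, 14), (34, 0), (81, 10), (84, 12), (83, 14), (118, 0), (59, 7), (37, 0), (72, 15), (39, 0),
  (119, 15), (74, 2), (105, 15), (99, 7), (104, 13), (42, 0), (102, 13), (103, 6), (100, 13), (98, 15), (115, 7), (85, 1),
  (49, 0), (53, 12), (70, 9), (111, 12), (76, 4), (55, 0), (114, 15), (106, 7), (79, 6), (77, 0), (91, 0), (96, 15)],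
  [(3, 0), (1, 8), (10, 0), (0, 0), (16, 0), (25, 0), (27, 0), (30, 0), (8, 12), (13, 2), (2, 0), (38, 0),
  (44, 0), (9, 2), (14, 2), (15, 10), (4, 0), (21, 0), (57, 0), (59, 0), (61, 0), (17, 0), (67, 0), (68, 0),
  (71, 0), (5, 0), (45, 10), (6, 0), (76, 0), (79, 0), (7, 0), (80, 0), (50, 14), (84, 0), (88, 0), (47, 13),
  (46, 2), (64, 11), (11, 0), (41, 0), (97, 0), (39, 0), (42, 11), (103, 0), (12, 0), (26, 10), (36, 2), (35, 13),
  (48, 6), (49, 14), (32, 14), (110, 0), (96, 2), (94, 1), (74, 12), (63, 10), (72, 2), (18, 0), (93, 7), (19, 0),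
  (109, 8), (20, 0), (114, 10), (55, 10), (37, 11), (65, 9), (66, 7), (22, 0), (23, 0), (91, 5), (100, 4), (24, 0),
  (56, 2), (99, 5), (54, 12), (108, 13), (28, 0), (78, 0), (77, 0), (29, 0), (31, 0), (82, 0), (81, 0), (104, 14),
  (33, 0), (102, 1), (111, 8), (87, 3), (34, 0), (89, 15), (112, 12), (69, 5), (115, 7), (58, 7), (53, 1), (113, 13),
  (52, 2), (40, 0), (107, 4), (73, 5), (70, 4), (117, 6), (85, 1), (43, 0), (83, 14), (105, 13), (116, 7), (98, 4),
  (75, 13), (60, 8), (51, 0), (86, 8), (90, 12), (95, 13), (62, 10), (92, 7), (106, 7), (101, 6), (119, 10), (118, 10)],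
  [(4, 0), (1, 4), (11, 0), (16, 0), (0, 0), (21, 0), (28, 0), (31, 0), (8, 4), (36, 0), (38, 0), (2, 0),
  (41, 0), (46, 0), (14, 4), (15, 4), (3, 0), (25, 0), (18, 5), (33, 4), (62, 0), (5, 0), (55, 5), (69, 0),
  (72, 0), (17, 0), (74, 0), (76, 0), (6, 0), (78, 0), (80, 0), (7, 0), (82, 0), (19, 4), (70, 1), (37, 15),
  (9, 0), (35, 15), (10, 0), (44, 0), (98, 0), (12, 0), (42, 4), (104, 0), (39, 0), (54, 6), (13, 0), (64, 9),
  (48, 4), (49, 4), (81, 14), (51, 5), (52, 5), (111, 0), (45, 6), (22, 5), (71, 2), (57, 5), (58, 5), (84, 4),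
  (85, 4), (114, 10), (20, 0), (67, 15), (47, 9), (65, 4), (66, 4), (63, 15), (91, 5), (23, 0), (34, 1), (56, 2),
  (24, 0), (112, 9), (26, 0), (116, 13), (27, 0), (79, 0), (29, 0), (77, 0), (30, 0), (50, 14), (32, 0), (103, 14),
  (59, 4), (60, 4), (94, 9), (87, 4), (100, 5), (89, 4), (99, 0), (68, 5), (92, 5), (93, 5), (86, 9), (95, 5),
  (96, 5), (107, 4), (40, 0), (90, 0), (88, 5), (119, 11), (109, 13), (83, 14), (43, 0), (105, 4), (108, 7), (97, 4),
  (106, 7), (102, 13), (110, 5), (53, 0), (73, 9), (113, 5), (61, 10), (115, 5), (75, 13), (118, 7), (117, 7), (101, 11)],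
  [(0, 1), (1, 1), (2, 1), (3, 1), (4, 1), (5, 1), (6, 1), (7, 1), (8, 1), (9, 1), (10, 1), (11, 1),
  (12, 1), (13, 1), (14, 1), (15, 1), (16, 1), (17, 1), (18, 1), (19, 1), (20, 1), (21, 1), (22, 1), (23, 1),
  (24, 1), (25, 1), (26, 1), (27, 1), (28, 1), (29, 1), (30, 1), (31, 1), (32, 1), (33, 1), (34, 1), (35, 1),
  (36, 1), (37, 1), (38, 1), (39, 1), (40, 1), (41, 1), (42, 1), (43, 1), (44, 1), (45, 1), (46, 1), (47, 1),
  (48, 1), (49, 1), (50, 1), (51, 1), (52, 1), (53, 1), (54, 1), (55, 1), (56, 1), (57, 1), (58, 1), (59, 1),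
  (60, 1), (61, 1), (62, 1), (63, 1), (64, 1), (65, 1), (66, 1), (67, 1), (68, 1), (69, 1), (70, 1), (71, 1),
  (72, 1), (73, 1), (74, 1), (75, 1), (76, 1), (77, 1), (78, 1), (79, 1), (80, 1), (81, 1), (82, 1), (83, 1),
  (84, 1), (85, 1), (86, 1), (87, 1), (88, 1), (89, 1), (90, 1), (91, 1), (92, 1), (93, 1), (94, 1), (95, 1),
  (96, 1), (97, 1), (98, 1), (99, 1), (100, 1), (101, 1), (102, 1), (103, 1), (104, 1), (105, 1), (106, 1), (107, 1),
  (108, 1), (109, 1), (110, 1), (111, 1), (112, 1), (113, 1), (114, 1), (115, 1), (116, 1), (117, 1), (118, 1), (119, 1)],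
  [(5, 0), (8, 0), (12, 0), (17, 0), (21, 0), (0, 0), (29, 0), (32, 0), (1, 0), (37, 0), (39, 0), (41, 0),
  (2, 0), (47, 0), (48, 0), (49, 0), (25, 0), (3, 0), (18, 7), (60, 0), (63, 0), (4, 0), (61, 15), (70, 0),
  (43, 1), (16, 0), (75, 0), (77, 0), (78, 0), (6, 0), (81, 0), (82, 0), (7, 0), (85, 0), (69, 1), (36, 15),
  (35, 15), (9, 0), (44, 0), (10, 0), (99, 0), (11, 0), (89, 14), (24, 1), (38, 0), (106, 0), (64, 9), (13, 0),
  (14, 0), (15, 0), (80, 14), (51, 10), (52, 8), (101, 3), (108, 1), (114, 0), (103, 3), (57, 2), (58, 6), (102, 5),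
  (19, 0), (22, 15), (67, 15), (20, 0), (46, 9), (105, 8), (87, 13), (62, 15), (88, 1), (34, 1), (23, 0), (83, 15),
  (104, 1), (107, 1), (116, 13), (26, 0), (79, 0), (27, 0), (28, 0), (76, 0), (50, 14), (30, 0), (31, 0), (71, 15),
  (109, 12), (33, 0), (117, 13), (66, 13), (68, 1), (42, 14), (98, 0), (100, 1), (92, 12), (93, 3), (118, 3), (95, 11),
  (96, 13), (112, 12), (90, 0), (40, 0), (91, 1), (53, 3), (59, 5), (56, 3), (72, 1), (65, 8), (45, 0), (73, 1),
  (54, 1), (84, 12), (110, 15), (119, 8), (97, 12), (113, 14), (55, 0), (115, 9), (74, 13), (86, 13), (94, 3), (111, 8)]]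

/-- The conjugate of the outer involution by a transversal element. -/
def cj (t : List ℕ) : List ℕ := t ++ 1 :: t.reverse

/-- The two substitutions induced by the exchanging element on `z c i X`. -/
def maps : List (List (List ℕ)) := [[[1], [5], [0, 3, 0], [0, 4, 0]], [[1], [5], [0, 3, 0, 1], [0, 4, 0, 5]]]

/-- The four words in `z c i X`. -/
def cand : List (List ℕ) := [[3, 2, 0, 1], [3, 2], [2, 1], [2, 0, 1]]

/-- The relations of the first and of the last case. -/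
def caseRels : List (List (List ℕ)) := [
  [[3, 4, 3, 0, 4, 3, 0, 4, 3, 0, 4, 0, 3, 4, 0], [3, 4, 2, 4, 3, 0, 4, 2, 4, 3, 0, 4, 2, 4, 0], [3, 4, 2, 4, 2, 0, 4, 2, 4, 3, 4, 0, 4, 0, 4], [3, 4, 2, 4, 0, 4, 3, 4, 0, 4, 0, 2, 1, 0, 4], [3, 4, 0, 4, 2, 1, 0, 2, 4, 0, 4, 0, 4, 3, 0]], [], [],
  [[3, 2, 4, 2, 4, 0, 4, 2, 3, 0, 4, 0, 4, 2, 4], [3, 2, 4, 2, 0, 4, 2, 3, 0, 4, 3, 4, 3, 4, 0], [3, 4, 3, 0, 4, 3, 0, 4, 3, 0, 4, 0, 3, 4, 0], [3, 4, 1, 2, 4, 3, 0, 4, 3, 4, 0, 3, 4, 2, 4], [3, 4, 1, 4, 0, 3, 4, 0, 4, 0, 4, 0, 4, 0, 4]]]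

/-- Orders below 20, cases from 20 on. -/
def wit : List (List ℕ) := [
  [1, 5, 3, 3, 4, 5, 5, 5, 22, 3, 5, 12, 2, 5, 3, 5, 6, 22, 5, 4,
  12, 5, 21, 5, 2, 21, 5, 2, 21, 5, 2, 20, 12, 2, 22, 23, 12, 5, 23, 22,
  5, 4, 20, 5, 5, 5, 22, 2, 12, 5, 5, 6, 20, 21, 5, 5, 23, 21, 22, 3,
  23, 5, 6, 4, 4, 21, 12, 2, 12, 20, 5, 5, 4, 21, 5, 2, 4, 12, 20, 3,
  4, 22, 6, 6, 6, 20, 23, 6, 2, 23, 3, 6, 5, 5, 20, 12, 5, 4, 20, 12,
  4, 12, 5, 12, 21, 5, 12, 2, 12, 5, 3, 22, 5, 12, 23, 23, 4, 2, 4, 12],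
  [1, 5, 3, 3, 4, 5, 5, 5, 23, 3, 5, 12, 2, 5, 3, 5, 6, 23, 5, 4,
  12, 5, 20, 5, 2, 20, 5, 2, 20, 5, 2, 21, 12, 2, 23, 22, 12, 5, 22, 23,
  5, 4, 21, 5, 5, 5, 23, 2, 12, 5, 5, 6, 21, 20, 5, 5, 22, 20, 23, 3,
  22, 5, 6, 4, 4, 20, 12, 2, 12, 21, 5, 5, 4, 20, 5, 2, 4, 12, 21, 3,
  4, 23, 6, 6, 6, 21, 22, 6, 2, 22, 3, 6, 5, 5, 21, 12, 5, 4, 21, 12,
  4, 12, 5, 12, 20, 5, 12, 2, 12, 5, 3, 23, 5, 12, 22, 22, 4, 2, 4, 12]]

/-- The word in `z c i X k` read in the seven letters. -/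
def ev5 (S : List (List ℕ)) (w : List ℕ) : List ℕ := w.flatMap fun i => S.getD i []

theorem trc_append : ∀ (u v : List ℕ) (x : ℕ), trc (u ++ v) x = trc u (trc v x)
  | [], _, _ => rfl
  | k :: u, v, x => congrArg (step k) (trc_append u v x)

/-- A word in five letters, traced letter by letter. -/
noncomputable def trc5 (S : List (List ℕ)) (w : List ℕ) (x : ℕ) : ℕ :=
  List.rec x (fun k _ ih => trc (S.getD k []) ih) w

theorem trc5_eq (S : List (List ℕ)) : ∀ (w : List ℕ) (x : ℕ), trc5 S w x = trc (ev5 S w) x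
  | [], _ => rfl
  | k :: w, x => by
    show trc (S.getD k []) (trc5 S w x) = _
    rw [trc5_eq S w x, ev5, ev5, List.flatMap_cons, trc_append]

/-- The word to the power `n` fixes all points. -/
noncomputable def powOK (S : List (List ℕ)) (w : List ℕ) (n : ℕ) : Bool :=
  forallLt 32 fun x => Nat.beq (Nat.rec x (fun _ ih => trc5 S w ih) n) x

theorem pow_sound {S : List (List ℕ)} {w : List ℕ} {n : ℕ} (h : powOK S w n = true) :
    same (ev5 S (List.replicate n w).flatten) [] = true := by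
  rw [same, forallLt_iff]
  intro x hx
  have key : ∀ m, trc (ev5 S (List.replicate m w).flatten) x = Nat.rec x (fun _ ih => trc5 S w ih) m := by
    intro m
    induction m with
    | zero => rfl
    | succ m ih =>
      rw [List.replicate_succ, List.flatten_cons, ev5, List.flatMap_append, trc_append, ← ev5, ← ev5, ih,
        ← trc5_eq]
  rw [key]
  exact forallLt_elim h hx

/-- The check of one candidate: `M` gives `z c i X`, the fifth word is the candidate. -/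
noncomputable def caseOK (S : List (List ℕ)) (n : ℕ) : Bool :=
  cond (Nat.blt n 20) ((Nat.beq n 5 || Nat.beq (Nat.mod 24 n) 0) && powOK S [0, 4] n)
    (Nat.blt n 24 && powOK S [0, 4] 10 && powOK S (cand.getD (n - 20) [] ++ [4]) 3 && (caseRels.getD (n - 20) []).all fun r => powOK S r 1)

noncomputable def t (i : ℕ) : List ℕ := T.getD i []

noncomputable def e (i : ℕ) : List ℕ := E.getD i []

noncomputable def nxt (k i : ℕ) : ℕ × ℕ := (next.getD k []).getD i (0, 0)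

noncomputable def nextOK (k i : ℕ) : Bool :=
  Nat.blt (nxt k i).1 120 && Nat.blt (nxt k i).2 16 && same (k :: t i) (t (nxt k i).1 ++ e (nxt k i).2)

noncomputable def commOK (i : ℕ) : Bool :=
  same (e i ++ [1]) (1 :: e i) && same (e i ++ [5]) (5 :: e i) && same (e i ++ [0, 3, 0]) ([0, 3, 0] ++ e i) &&
    same (e i ++ [0, 4, 0]) ([0, 4, 0] ++ e i)

noncomputable def linkedOK (i : ℕ) : Bool :=
  !(same (cj (t i) ++ [1]) (1 :: cj (t i))) || same (cj (t i)) [1] ||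
    (same (cj (t i) ++ [1]) [5] || same (cj (t i) ++ [1]) [0, 4, 0] || same (cj (t i) ++ [1]) [0, 4, 0, 5]) ||
    (same (cj (t i)) [0, 3, 0] || same (cj (t i)) [0, 3, 0, 1]) ||
    (!(same ((t i).reverse ++ 1 :: t i) []) && !(same ((t i).reverse ++ 1 :: t i) [1]) &&
      !(same ((t i).reverse ++ 1 :: t i) (cj (t i))) && !(same ((t i).reverse ++ 1 :: t i) (cj (t i) ++ [1])))

theorem T_spec : T.length = 120 ∧ E.length = 16 ∧ (∀ w ∈ T, ∀ k ∈ w, k < 7) ∧ (∀ w ∈ E, ∀ k ∈ w, k < 7) := by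
  decide +kernel

theorem base_spec : t 0 = [] ∧ e 0 = [] := by decide +kernel

theorem next_spec : (forallLt 7 fun k => forallLt 120 fun i => nextOK k i) = true := by decide +kernel

theorem E_mul : (forallLt 16 fun i => forallLt 16 fun j => same (e i ++ e j) (e (Nat.xor i j))) = true := by
  decide +kernel

theorem E_comm : (forallLt 16 fun i => commOK i) = true := by decide +kernel

theorem T_fix : (forallLt 120 fun i => Nat.beq i 0 || !(same (cj (t i)) [1])) = true := by decide +kernel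

theorem linked : (forallLt 120 fun i => linkedOK i) = true := by decide +kernel

noncomputable def candOK (m i : ℕ) : Bool :=
  caseOK (maps.getD m [] ++ [cj (t i)]) ((wit.getD m []).getD i 0)

theorem cases0_0 : (forallLt 30 fun i => candOK 0 (0 + i)) = true := by decide +kernel

theorem cases0_1 : (forallLt 30 fun i => candOK 0 (30 + i)) = true := by decide +kernel

theorem cases0_2 : (forallLt 30 fun i => candOK 0 (60 + i)) = true := by decide +kernel

theorem cases0_3 : (forallLt 30 fun i => candOK 0 (90 + i)) = true := by decide +kernel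

theorem cases1_0 : (forallLt 30 fun i => candOK 1 (0 + i)) = true := by decide +kernel

theorem cases1_1 : (forallLt 30 fun i => candOK 1 (30 + i)) = true := by decide +kernel

theorem cases1_2 : (forallLt 30 fun i => candOK 1 (60 + i)) = true := by decide +kernel

theorem cases1_3 : (forallLt 30 fun i => candOK 1 (90 + i)) = true := by decide +kernel

theorem cases_spec {m i : ℕ} (hm : m < 2) (hi : i < 120) : candOK m i = true := by
  have key : ∀ a b j, (forallLt 30 fun i => candOK a (b + i)) = true → j < 30 → candOK a (b + j) = true :=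
    fun a b j h hj => forallLt_elim h hj
  obtain ⟨q, r, hq, hr, rfl⟩ : ∃ q r, q < 4 ∧ r < 30 ∧ i = 30 * q + r := ⟨i / 30, i % 30, by omega, by omega, by omega⟩
  interval_cases m <;> interval_cases q
  exacts [key 0 0 r cases0_0 hr, key 0 30 r cases0_1 hr, key 0 60 r cases0_2 hr, key 0 90 r cases0_3 hr,
    key 1 0 r cases1_0 hr, key 1 30 r cases1_1 hr, key 1 60 r cases1_2 hr, key 1 90 r cases1_3 hr]

end CfsgLib.Recog.J3T.CModel
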