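import Mathlib.GroupTheory.SpecificGroups.Alternating
import Mathlib.LinearAlgebra.Matrix.SpecialLinearGroup
import Mathlib.Data.ZMod.Basic
import Mathlib.Tactic.FinCases
import Mathlib.Data.List.GetD

/-!
Owner: helper29. Configurations of involutions in the small groups with an involution centralizer
of order eight, checked on image lists.
-/

set_option autoImplicit false
set_option linter.all false
set_option Elab.async false
set_option maxRecDepth 20000

namespace CfsgLib.Recog.J3T.SmallQuot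

/-- Composition of image lists. -/
def comp (a b : List ℕ) : List ℕ := b.map fun i => a.getD i 0

/-- The power of an image list. -/
def cpow (e a : List ℕ) : ℕ → List ℕ
  | 0 => e
  | n + 1 => comp (cpow e a n) a

/-- The identity and the involutions, as image lists. -/
def invFour : List (List ℕ) := [
  [0, 1, 2, 3], [0, 1, 3, 2], [0, 2, 1, 3], [0, 3, 2, 1], [1, 0, 2, 3], [1, 0, 3, 2],
  [2, 1, 0, 3], [2, 3, 0, 1], [3, 1, 2, 0], [3, 2, 1, 0]]

/-- The identity and the involutions, as image lists. -/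
def invFive : List (List ℕ) := [
  [0, 1, 2, 3, 4], [0, 1, 2, 4, 3], [0, 1, 3, 2, 4], [0, 1, 4, 3, 2], [0, 2, 1, 3, 4], [0, 2, 1, 4, 3],
  [0, 3, 2, 1, 4], [0, 3, 4, 1, 2], [0, 4, 2, 3, 1], [0, 4, 3, 2, 1], [1, 0, 2, 3, 4], [1, 0, 2, 4, 3],
  [1, 0, 3, 2, 4], [1, 0, 4, 3, 2], [2, 1, 0, 3, 4], [2, 1, 0, 4, 3], [2, 3, 0, 1, 4], [2, 4, 0, 3, 1],
  [3, 1, 2, 0, 4], [3, 1, 4, 0, 2], [3, 2, 1, 0, 4], [3, 4, 2, 0, 1], [4, 1, 2, 3, 0], [4, 1, 3, 2, 0],
  [4, 2, 1, 3, 0], [4, 3, 2, 1, 0]]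

/-- The identity and the involutions, as image lists. -/
def invSeven : List (List ℕ) := [
  [0, 1, 2, 3, 4, 5, 6], [0, 1, 2, 4, 3, 6, 5], [0, 1, 2, 5, 6, 3, 4], [0, 1, 2, 6, 5, 4, 3], [0, 2, 1, 3, 4, 6, 5], [0, 2, 1, 4, 3, 5, 6],
  [0, 3, 4, 1, 2, 5, 6], [0, 4, 3, 2, 1, 5, 6], [0, 5, 6, 3, 4, 1, 2], [0, 6, 5, 3, 4, 2, 1], [1, 0, 2, 3, 5, 4, 6], [1, 0, 2, 6, 4, 5, 3],
  [2, 1, 0, 3, 6, 5, 4], [2, 1, 0, 5, 4, 3, 6], [3, 1, 5, 0, 4, 2, 6], [3, 6, 2, 0, 4, 5, 1], [4, 1, 6, 3, 0, 5, 2], [4, 5, 2, 3, 0, 1, 6],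
  [5, 1, 3, 2, 4, 0, 6], [5, 4, 2, 3, 1, 0, 6], [6, 1, 4, 3, 2, 5, 0], [6, 3, 2, 1, 4, 5, 0]]

/-- The identity and the involutions, as image lists. -/
def invSix : List (List ℕ) := [
  [0, 1, 2, 3, 4, 5], [0, 1, 3, 2, 5, 4], [0, 1, 4, 5, 2, 3], [0, 1, 5, 4, 3, 2], [0, 2, 1, 3, 5, 4], [0, 2, 1, 4, 3, 5],
  [0, 2, 1, 5, 4, 3], [0, 3, 2, 1, 5, 4], [0, 3, 4, 1, 2, 5], [0, 3, 5, 1, 4, 2], [0, 4, 2, 5, 1, 3], [0, 4, 3, 2, 1, 5],
  [0, 4, 5, 3, 1, 2], [0, 5, 2, 4, 3, 1], [0, 5, 3, 2, 4, 1], [0, 5, 4, 3, 2, 1], [1, 0, 2, 3, 5, 4], [1, 0, 2, 4, 3, 5],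
  [1, 0, 2, 5, 4, 3], [1, 0, 3, 2, 4, 5], [1, 0, 4, 3, 2, 5], [1, 0, 5, 3, 4, 2], [2, 1, 0, 3, 5, 4], [2, 1, 0, 4, 3, 5],
  [2, 1, 0, 5, 4, 3], [2, 3, 0, 1, 4, 5], [2, 4, 0, 3, 1, 5], [2, 5, 0, 3, 4, 1], [3, 1, 2, 0, 5, 4], [3, 1, 4, 0, 2, 5],
  [3, 1, 5, 0, 4, 2], [3, 2, 1, 0, 4, 5], [3, 4, 2, 0, 1, 5], [3, 5, 2, 0, 4, 1], [4, 1, 2, 5, 0, 3], [4, 1, 3, 2, 0, 5],
  [4, 1, 5, 3, 0, 2], [4, 2, 1, 3, 0, 5], [4, 3, 2, 1, 0, 5], [4, 5, 2, 3, 0, 1], [5, 1, 2, 4, 3, 0], [5, 1, 3, 2, 4, 0],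
  [5, 1, 4, 3, 2, 0], [5, 2, 1, 3, 4, 0], [5, 3, 2, 1, 4, 0], [5, 4, 2, 3, 1, 0]]

/-- The configurations with the four relations pass the test. -/
def check (e : List ℕ) (L : List (List ℕ)) (test : List ℕ → List ℕ → List ℕ → Bool) : Bool :=
  L.all fun z => z == e || (L.all fun u => u == z || comp u z != comp z u ||
    (L.all fun x => comp x z != comp z x || comp (comp x u) x != comp u z ||
      (L.all fun p => comp (comp p u) p != u || comp (comp p z) p != comp z u ||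
        (L.all fun q => comp (comp q x) q != x || comp (comp q z) q != comp z x || test p z q))))

theorem check_four : check [0, 1, 2, 3] invFour (fun _ _ _ => false) = true := by decide +kernel

theorem check_five : check [0, 1, 2, 3, 4] invFive (fun _ _ _ => false) = true := by decide +kernel

theorem check_seven : check [0, 1, 2, 3, 4, 5, 6] invSeven (fun p _ q =>
    cpow [0, 1, 2, 3, 4, 5, 6] (comp p q) 3 == [0, 1, 2, 3, 4, 5, 6] ||
      cpow [0, 1, 2, 3, 4, 5, 6] (comp p q) 4 == [0, 1, 2, 3, 4, 5, 6]) = true := by decide +kernel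

theorem check_six : check [0, 1, 2, 3, 4, 5] invSix (fun p z q =>
    cpow [0, 1, 2, 3, 4, 5] (comp p q) 5 == [0, 1, 2, 3, 4, 5] &&
      cpow [0, 1, 2, 3, 4, 5] (comp (comp p z) q) 4 == [0, 1, 2, 3, 4, 5]) = true := by decide +kernel

/-- A faithful coding of a group by image lists. -/
structure Coding (M : Type*) [Group M] (e : List ℕ) (L : List (List ℕ)) where
  φ : M → List ℕ
  one : φ 1 = e
  mul : ∀ a b, φ (a * b) = comp (φ a) (φ b)
  inj : Function.Injective φ
  inv : ∀ a, a * a = 1 → φ a ∈ L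

variable {M : Type*} [Group M] {e : List ℕ} {L : List (List ℕ)}

theorem Coding.pow (C : Coding M e L) (a : M) : ∀ n : ℕ, C.φ (a ^ n) = cpow e (C.φ a) n
  | 0 => by rw [pow_zero, C.one]; rfl
  | n + 1 => by rw [pow_succ, C.mul, C.pow a n]; rfl

theorem Coding.test_of_check (C : Coding M e L) {test : List ℕ → List ℕ → List ℕ → Bool}
    (h : check e L test = true) {z u x p q : M} (z2 : z * z = 1) (u2 : u * u = 1) (x2 : x * x = 1)
    (p2 : p * p = 1) (q2 : q * q = 1) (z1 : z ≠ 1) (uz : u ≠ z) (huz : u * z = z * u) (hxz : x * z = z * x)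
    (hxu : x * u * x = u * z) (hpu : p * u * p = u) (hpz : p * z * p = z * u) (hqx : q * x * q = x)
    (hqz : q * z * q = z * x) : test (C.φ p) (C.φ z) (C.φ q) = true := by
  simp only [check, List.all_eq_true, Bool.or_eq_true, bne_iff_ne, beq_iff_eq, ne_eq] at h
  have h1 := (h _ (C.inv z z2)).resolve_left fun h' => z1 (C.inj (h'.trans C.one.symm))
  have c2 : ∀ a b c : M, C.φ (a * b * c) = comp (comp (C.φ a) (C.φ b)) (C.φ c) := fun a b c => by
    rw [C.mul, C.mul]
  have h2 := (h1 _ (C.inv u u2)).resolve_left (by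
    rintro (h' | h')
    · exact uz (C.inj h')
    · exact h' (by rw [← C.mul, ← C.mul, huz]))
  have h3 := (h2 _ (C.inv x x2)).resolve_left (by
    rintro (h' | h')
    · exact h' (by rw [← C.mul, ← C.mul, hxz])
    · exact h' (by rw [← c2, ← C.mul, hxu]))
  have h4 := (h3 _ (C.inv p p2)).resolve_left (by
    rintro (h' | h')
    · exact h' (by rw [← c2, hpu])
    · exact h' (by rw [← c2, ← C.mul, hpz]))
  exact (h4 _ (C.inv q q2)).resolve_left (by
    rintro (h' | h')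
    · exact h' (by rw [← c2, hqx])
    · exact h' (by rw [← c2, ← C.mul, hqz]))

/-- The images of a permutation. -/
def permCode {n : ℕ} (σ : Equiv.Perm (Fin n)) : List ℕ := (List.finRange n).map fun i => (σ i).val

theorem permCode_mul {n : ℕ} (a b : Equiv.Perm (Fin n)) : permCode (a * b) = comp (permCode a) (permCode b) := by
  simp only [comp, permCode, List.map_map]
  refine List.map_congr_left fun i _ => ?_
  simp [List.getD_eq_getElem]

theorem permCode_inj {n : ℕ} : Function.Injective (permCode : Equiv.Perm (Fin n) → List ℕ) := fun a b h =>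
  Equiv.ext fun i => Fin.ext ((List.map_inj_left.1 h) i (List.mem_finRange i))

theorem four_inv : ∀ a : Equiv.Perm (Fin 4), a * a = 1 → permCode a ∈ invFour := by decide +kernel

theorem five_inv : ∀ a : Equiv.Perm (Fin 5), a * a = 1 → permCode a ∈ invFive := by decide +kernel

set_option synthInstance.maxSize 5000 in
theorem six_inv : ∀ a : alternatingGroup (Fin 6), a * a = 1 → permCode (a : Equiv.Perm (Fin 6)) ∈ invSix := by
  decide +kernel

/-- The coding of the symmetric group of degree four. -/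
def codeFour : Coding (Equiv.Perm (Fin 4)) [0, 1, 2, 3] invFour :=
  ⟨permCode, rfl, permCode_mul, permCode_inj, four_inv⟩

/-- The coding of the symmetric group of degree five. -/
def codeFive : Coding (Equiv.Perm (Fin 5)) [0, 1, 2, 3, 4] invFive :=
  ⟨permCode, rfl, permCode_mul, permCode_inj, five_inv⟩

/-- The coding of the alternating group of degree six. -/
def codeSix : Coding (alternatingGroup (Fin 6)) [0, 1, 2, 3, 4, 5] invSix :=
  ⟨fun a => permCode (a : Equiv.Perm (Fin 6)), rfl, fun a b => permCode_mul _ _,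
    fun a b h => Subtype.ext (permCode_inj h), six_inv⟩

/-- The nonzero vectors. -/
def vecs (i : Fin 7) : Fin 3 → ZMod 2 :=
  ![(((i.val + 1) / 4 % 2 : ℕ) : ZMod 2), (((i.val + 1) / 2 % 2 : ℕ) : ZMod 2), (((i.val + 1) % 2 : ℕ) : ZMod 2)]

/-- The position of a vector. -/
def vix (v : Fin 3 → ZMod 2) : ℕ := 4 * (v 0).val + 2 * (v 1).val + (v 2).val - 1

theorem vix_vecs : ∀ i, vix (vecs i) = i.val := by decide +kernel

theorem vecs_vix : ∀ v : Fin 3 → ZMod 2, v ≠ 0 → ∃ h : vix v < 7, vecs ⟨vix v, h⟩ = v := by decide +kernel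

theorem vecs_ne : ∀ i, vecs i ≠ 0 := by decide +kernel

/-- The images of the nonzero vectors. -/
def matCode (A : Matrix (Fin 3) (Fin 3) (ZMod 2)) : List ℕ :=
  (List.finRange 7).map fun i => vix (A.mulVec (vecs i))

theorem seven_inv' : ∀ a b c d e f g h i : ZMod 2,
    !![a, b, c; d, e, f; g, h, i] * !![a, b, c; d, e, f; g, h, i] = 1 →
      matCode !![a, b, c; d, e, f; g, h, i] ∈ invSeven := by
  decide +kernel

/-- The coding of the linear group of degree three. -/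
def codeSeven : Coding (Matrix.SpecialLinearGroup (Fin 3) (ZMod 2)) [0, 1, 2, 3, 4, 5, 6] invSeven where
  φ A := matCode A.1
  one := by decide +kernel
  mul A B := by
    simp only [comp, matCode, List.map_map]
    refine List.map_congr_left fun i _ => ?_
    have hne : B.1.mulVec (vecs i) ≠ 0 := fun h => vecs_ne i (by
      have := congrArg (fun C : Matrix.SpecialLinearGroup (Fin 3) (ZMod 2) => C.1.mulVec (vecs i)) (inv_mul_cancel B)
      simp only [Matrix.SpecialLinearGroup.coe_mul, Matrix.SpecialLinearGroup.coe_one, Matrix.one_mulVec,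
        ← Matrix.mulVec_mulVec, h, Matrix.mulVec_zero] at this
      exact this.symm)
    obtain ⟨hlt, hv⟩ := vecs_vix _ hne
    show vix ((A * B).1.mulVec (vecs i)) = _
    rw [Matrix.SpecialLinearGroup.coe_mul, ← Matrix.mulVec_mulVec]
    simp only [Function.comp_apply]
    rw [List.getD_eq_getElem _ _ (by simpa using hlt)]
    simp [hv]
  inj A B h := by
    refine Subtype.ext (Matrix.ext fun r c => ?_)
    have hcol : A.1.mulVec (Pi.single c 1) = B.1.mulVec (Pi.single c 1) := by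
      obtain ⟨hlt, hv⟩ := vecs_vix (Pi.single c (1 : ZMod 2)) (by simp [Pi.single_eq_zero_iff])
      have h' := (List.map_inj_left.1 h) ⟨_, hlt⟩ (List.mem_finRange _)
      rw [hv] at h'
      have ne : ∀ C : Matrix.SpecialLinearGroup (Fin 3) (ZMod 2), C.1.mulVec (Pi.single c 1) ≠ 0 := fun C h0 => by
        have := congrArg (fun D : Matrix.SpecialLinearGroup (Fin 3) (ZMod 2) => D.1.mulVec (Pi.single c 1)) (inv_mul_cancel C)
        simp only [Matrix.SpecialLinearGroup.coe_mul, Matrix.SpecialLinearGroup.coe_one, Matrix.one_mulVec,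
          ← Matrix.mulVec_mulVec, h0, Matrix.mulVec_zero] at this
        exact absurd this.symm (by simp [Pi.single_eq_zero_iff])
      obtain ⟨a1, e1⟩ := vecs_vix _ (ne A)
      obtain ⟨a2, e2⟩ := vecs_vix _ (ne B)
      rw [← e1, ← e2]
      exact congrArg vecs (Fin.ext h')
    simpa using congrFun hcol r
  inv A hA := by
    have h : A.1 * A.1 = 1 := congrArg Subtype.val hA
    rw [Matrix.eta_fin_three A.1] at h ⊢
    exact seven_inv' _ _ _ _ _ _ _ _ _ h

end CfsgLib.Recog.J3T.SmallQuot
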