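import Cfsg.Agent.Lib.Recog.JankoThree.SigmaFix
import Cfsg.Agent.Lib.Recog.JankoThree.SmallQuot
import Mathlib

/-!
Owner: helper29. Words in the centralizer of an element of order three, modulo that element.
-/

set_option autoImplicit false
set_option linter.all false

namespace CfsgLib.Recog.J3T

open Subgroup Cfsg CfsgLib.Recog
open CfsgLib.Recog.HJType (Local mem_cent ord_two inv_pair invol_conj eq_one_of_pow_odd_two five_three_cent quat_two_invol)

namespace Four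

variable {G : Type*} [Group G] [Finite G] {z u σ : G} {Q Q' : Subgroup G} (F : Four z Q u Q')
include F

set_option maxHeartbeats 800000 in
/-- Three possibilities for the products of the two movers. -/
theorem sigma_words (hσ : σ ∈ centralizer ({z} : Set G) ⊓ centralizer ({u} : Set G)) (hσ3 : σ ^ 3 = 1)
    (hσ1 : σ ≠ 1) {x p q' : G} (hxσ : x * σ = σ * x) (hpσ : p * σ = σ * p) (hqσ : q' * σ = σ * q')
    (hx2 : x * x = 1) (hp2 : p * p = 1) (hq2 : q' * q' = 1) (hxz : x * z = z * x) (hxu : x * u * x = u * z)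
    (hpu : p * u * p = u) (hpz : p * z * p = z * u) (hqx : q' * x * q' = x) (hqz : q' * z * q' = z * x) :
    (p * q') ^ 3 ∈ zpowers σ ∨ (p * q') ^ 4 ∈ zpowers σ ∨
      ((p * q') ^ 5 ∈ zpowers σ ∧ (p * z * q') ^ 4 ∈ zpowers σ) := by
  classical
  haveI : Fact (Nat.Prime 2) := ⟨Nat.prime_two⟩
  haveI : Fact (Nat.Prime 3) := ⟨by norm_num⟩
  obtain ⟨eD⟩ := F.fix_iso hσ hσ3 hσ1
  set Y := centralizer ({σ} : Set G) with hY
  set N : Subgroup Y := (zpowers σ).subgroupOf Y with hN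
  haveI hNn : N.Normal := ⟨fun n hn g => by
    refine mem_subgroupOf.2 ?_
    obtain ⟨j, hj⟩ := mem_zpowers_iff.1 (mem_subgroupOf.1 hn)
    show (g : G) * (n : G) * (g : G)⁻¹ ∈ zpowers σ
    rw [← hj, ((show Commute (g : G) σ from mem_cent.1 g.2).zpow_right j).eq, mul_inv_cancel_right]
    exact zpow_mem (mem_zpowers σ) j⟩
  have hq1 : ∀ y : Y, QuotientGroup.mk' N y = 1 ↔ (y : G) ∈ zpowers σ := fun y => by
    rw [show QuotientGroup.mk' N y = 1 ↔ y ∈ N from QuotientGroup.eq_one_iff y, hN, mem_subgroupOf]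
  set q := QuotientGroup.mk' N with hq
  have hzY : z ∈ Y := mem_cent.2 (mem_cent.1 hσ.1).symm
  have huY : u ∈ Y := mem_cent.2 (mem_cent.1 hσ.2).symm
  set zb := q ⟨z, hzY⟩ with hzb
  have hmod : ∀ (v : G) (hv : v ∈ Y) (y : Y), v * v = 1 → q y * q ⟨v, hv⟩ = q ⟨v, hv⟩ * q y →
      v * ((y : G) * v * (y : G)⁻¹) ∈ zpowers σ := by
    intro v hv y hv2 h
    refine (hq1 (⟨v, hv⟩ * (y * ⟨v, hv⟩ * y⁻¹))).1 ?_
    rw [map_mul, map_mul, map_mul, map_inv, h, mul_inv_cancel_right, ← map_mul,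
      show (⟨v, hv⟩ : Y) * ⟨v, hv⟩ = 1 from Subtype.ext hv2, map_one]
  -- the centralizer of the image of `z`
  set D := Q ⊓ centralizer ({σ} : Set G) with hD
  have hDY : D ≤ Y := inf_le_right
  let r : D →* ↥(centralizer ({zb} : Set (Y ⧸ N))) :=
    { toFun := fun d => ⟨q ⟨d, hDY d.2⟩, mem_cent.2 (by
        rw [hzb, ← map_mul, ← map_mul]
        exact congrArg q (Subtype.ext (mem_cent.1 (F.hz.loc.le d.2.1))))⟩
      map_one' := Subtype.ext (map_one q)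
      map_mul' := fun a b => Subtype.ext (map_mul q ⟨a, hDY a.2⟩ ⟨b, hDY b.2⟩) }
  have hri : Function.Injective r := by
    rw [← MonoidHom.ker_eq_bot_iff, eq_bot_iff]
    intro d hd
    have h1 : (d : G) ∈ zpowers σ := (hq1 ⟨d, hDY d.2⟩).1 (congrArg Subtype.val (MonoidHom.mem_ker.1 hd))
    obtain ⟨j, hj⟩ := mem_zpowers_iff.1 h1
    have h8 := pow_card_eq_one' (x := d)
    rw [(F.card_fix hσ hσ3 hσ1).1] at h8
    refine mem_bot.2 (Subtype.ext (eq_one_of_pow_odd_two (k := 3) (n := 3) (congrArg Subtype.val h8) (by decide) ?_))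
    rw [← hj, ← zpow_natCast, ← zpow_mul, mul_comm, zpow_mul, zpow_natCast, hσ3, one_zpow]
  have hrs : Function.Surjective r := by
    rintro ⟨yb, hyb⟩
    obtain ⟨y, rfl⟩ := QuotientGroup.mk'_surjective N yb
    have hyz := F.commute_of_mod hσ hσ3 (mem_cent.1 y.2) (hmod z hzY y F.hz.loc.zz (mem_cent.1 hyb))
    obtain ⟨d, hd, s, hs, hys⟩ := F.mem_fix_mul hσ hσ3 hσ1 hyz (mem_cent.1 y.2)
    refine ⟨⟨d, hd⟩, Subtype.ext (inv_mul_eq_one.1 ?_)⟩
    show (q ⟨d, hDY hd⟩)⁻¹ * q y = 1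
    rw [← map_inv, ← map_mul, hq1]
    show d⁻¹ * (y : G) ∈ zpowers σ
    rw [hys, inv_mul_cancel_left]
    exact hs
  let eC : ↥(centralizer ({zb} : Set (Y ⧸ N))) ≃* DihedralGroup 4 :=
    (MulEquiv.ofBijective r ⟨hri, hrs⟩).symm.trans eD
  have hsqY : ∀ (v : G) (hv : v ∈ Y), v * v = 1 → v ≠ 1 → orderOf (q ⟨v, hv⟩) = 2 := by
    intro v hv hv2 hv1
    refine ord_two (by rw [← map_mul, show (⟨v, hv⟩ : Y) * ⟨v, hv⟩ = 1 from Subtype.ext hv2, map_one]) fun h => hv1 ?_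
    exact F.sq_one_of_three ((hq1 _).1 h) hσ3 hv2
  have hzb2 : orderOf zb = 2 := hsqY z hzY F.hz.loc.zz F.hz.loc.z_ne
  -- the odd core is trivial
  have hpg : ∀ {v : G} {R : Subgroup G} {w : G} {R' : Subgroup G}, Four v R w R' →
      σ ∈ centralizer ({v} : Set G) ⊓ centralizer ({w} : Set G) → ∀ hv : v ∈ Y,
      IsPGroup 2 ↥(centralizer ({q ⟨v, hv⟩} : Set (Y ⧸ N))) := by
    intro v R w R' F' hσ' hv
    rintro ⟨yb, hyb⟩
    obtain ⟨y, rfl⟩ := QuotientGroup.mk'_surjective N yb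
    refine ⟨3, Subtype.ext ?_⟩
    show q y ^ 2 ^ 3 = 1
    rw [← map_pow, hq1]
    exact F'.quot_two_group hσ' hσ3 hσ1 (mem_cent.1 y.2) (hmod v hv y F'.hz.loc.zz (mem_cent.1 hyb))
  obtain ⟨Q'', hF'', hF''u⟩ := F.exists_third
  have huzY : u * z ∈ Y := mul_mem huY hzY
  have hσuz : σ ∈ centralizer ({u * z} : Set G) := mem_cent.2
    ((show Commute σ u from mem_cent.1 hσ.2).mul_right (mem_cent.1 hσ.1)).eq
  have hcore : oddCore (Y ⧸ N) = ⊥ := by
    refine CfsgLib.LocalEvenB.DEight.oddCore_eq_bot (hsqY u huY F.uu F.u_ne) hzb2 ?_ ?_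
      (hpg F.symm ⟨hσ.2, hσ.1⟩ huY) (hpg F hσ hzY) ?_
    · rw [hzb, ← map_mul, ← map_mul]; exact congrArg q (Subtype.ext F.comm.symm)
    · intro h
      refine F.prod_ne.1 (F.sq_one_of_three ((hq1 (⟨u, huY⟩ * ⟨z, hzY⟩)).1 ?_) hσ3 F.prod_sq)
      rw [map_mul, h, hzb, ← map_mul, show (⟨z, hzY⟩ : Y) * ⟨z, hzY⟩ = 1 from Subtype.ext F.hz.loc.zz, map_one]
    · rw [hzb, ← map_mul]
      exact hpg hF''.symm ⟨hσuz, hσ.1⟩ huzY
  have hxY : x ∈ Y := mem_cent.2 hxσ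
  have hpY : p ∈ Y := mem_cent.2 hpσ
  have hqY : q' ∈ Y := mem_cent.2 hqσ
  set Z : Y := ⟨z, hzY⟩
  set U : Y := ⟨u, huY⟩
  set X : Y := ⟨x, hxY⟩
  set P : Y := ⟨p, hpY⟩
  set Q₁ : Y := ⟨q', hqY⟩
  have hz1 : q Z ≠ 1 := fun e => F.hz.loc.z_ne (F.sq_one_of_three ((hq1 Z).1 e) hσ3 F.hz.loc.zz)
  have huz : q U ≠ q Z := fun e => by
    refine F.prod_ne.1 (F.sq_one_of_three ((hq1 (U * Z)).1 ?_) hσ3 F.prod_sq)
    rw [map_mul, e, ← map_mul, show Z * Z = 1 from Subtype.ext F.hz.loc.zz, map_one]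
  rcases CfsgLib.LocalEvenB.DEight.main zb hzb2 ⟨eC⟩ with h | ⟨⟨ψ⟩⟩ | ⟨⟨ψ⟩⟩ | ⟨⟨ψ⟩⟩ | ⟨⟨ψ⟩⟩
  · exfalso
    rw [hcore, sup_bot_eq] at h
    have hp' : q P ∈ centralizer ({zb} : Set (Y ⧸ N)) := h ▸ mem_top _
    have := F.commute_of_mod hσ hσ3 hpσ (hmod z hzY P F.hz.loc.zz (mem_cent.1 hp'))
    refine F.u_ne ((left_eq_mul (a := z)).1 ?_)
    rw [← hpz, mem_cent.1 this, mul_assoc, hp2, mul_one]
  all_goals
    set φ : Y →* _ := ψ.toMonoidHom.comp q with hφ
    have hinj : Function.Injective (ψ : Y ⧸ N → _) := ψ.injective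
    have e1 : ∀ y : Y, φ y = 1 ↔ (y : G) ∈ zpowers σ := fun y => by
      rw [← hq1 y]; exact ψ.map_eq_one_iff
    have r2 : ∀ y : Y, (y : G) * y = 1 → φ y * φ y = 1 := fun y hy => by
      rw [← map_mul, show y * y = 1 from Subtype.ext hy, map_one]
    have rel : ∀ a b : Y, (a : G) = b → φ a = φ b := fun a b e => congrArg φ (Subtype.ext e)
  · have := SmallQuot.codeFour.test_of_check SmallQuot.check_four (z := φ Z) (u := φ U) (x := φ X) (p := φ P) (q := φ Q₁)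
      (r2 Z F.hz.loc.zz) (r2 U F.uu) (r2 X hx2) (r2 P hp2) (r2 Q₁ hq2)
      (fun e => hz1 ((map_eq_one_iff ψ ψ.injective).1 e)) (fun e => huz (hinj e))
      (by rw [← map_mul, ← map_mul]; exact rel _ _ F.comm.symm) (by rw [← map_mul, ← map_mul]; exact rel _ _ hxz)
      (by rw [← map_mul, ← map_mul, ← map_mul]; exact rel _ _ hxu) (by rw [← map_mul, ← map_mul]; exact rel _ _ hpu)
      (by rw [← map_mul, ← map_mul, ← map_mul]; exact rel _ _ hpz) (by rw [← map_mul, ← map_mul]; exact rel _ _ hqx)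
      (by rw [← map_mul, ← map_mul, ← map_mul]; exact rel _ _ hqz)
    exact absurd this Bool.false_ne_true
  · have := SmallQuot.codeFive.test_of_check SmallQuot.check_five (z := φ Z) (u := φ U) (x := φ X) (p := φ P) (q := φ Q₁)
      (r2 Z F.hz.loc.zz) (r2 U F.uu) (r2 X hx2) (r2 P hp2) (r2 Q₁ hq2)
      (fun e => hz1 ((map_eq_one_iff ψ ψ.injective).1 e)) (fun e => huz (hinj e))
      (by rw [← map_mul, ← map_mul]; exact rel _ _ F.comm.symm) (by rw [← map_mul, ← map_mul]; exact rel _ _ hxz)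
      (by rw [← map_mul, ← map_mul, ← map_mul]; exact rel _ _ hxu) (by rw [← map_mul, ← map_mul]; exact rel _ _ hpu)
      (by rw [← map_mul, ← map_mul, ← map_mul]; exact rel _ _ hpz) (by rw [← map_mul, ← map_mul]; exact rel _ _ hqx)
      (by rw [← map_mul, ← map_mul, ← map_mul]; exact rel _ _ hqz)
    exact absurd this Bool.false_ne_true
  · have := SmallQuot.codeSeven.test_of_check SmallQuot.check_seven (z := φ Z) (u := φ U) (x := φ X) (p := φ P) (q := φ Q₁)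
      (r2 Z F.hz.loc.zz) (r2 U F.uu) (r2 X hx2) (r2 P hp2) (r2 Q₁ hq2)
      (fun e => hz1 ((map_eq_one_iff ψ ψ.injective).1 e)) (fun e => huz (hinj e))
      (by rw [← map_mul, ← map_mul]; exact rel _ _ F.comm.symm) (by rw [← map_mul, ← map_mul]; exact rel _ _ hxz)
      (by rw [← map_mul, ← map_mul, ← map_mul]; exact rel _ _ hxu) (by rw [← map_mul, ← map_mul]; exact rel _ _ hpu)
      (by rw [← map_mul, ← map_mul, ← map_mul]; exact rel _ _ hpz) (by rw [← map_mul, ← map_mul]; exact rel _ _ hqx)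
      (by rw [← map_mul, ← map_mul, ← map_mul]; exact rel _ _ hqz)
    simp only [Bool.or_eq_true, beq_iff_eq] at this
    rw [← SmallQuot.codeSeven.mul, ← SmallQuot.codeSeven.pow, ← SmallQuot.codeSeven.pow, ← map_mul, ← map_pow, ← map_pow] at this
    rcases this with h | h
    · exact Or.inl ((e1 ((P * Q₁) ^ 3)).1 (SmallQuot.codeSeven.inj (h.trans SmallQuot.codeSeven.one.symm)))
    · exact Or.inr (Or.inl ((e1 ((P * Q₁) ^ 4)).1 (SmallQuot.codeSeven.inj (h.trans SmallQuot.codeSeven.one.symm))))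
  · have := SmallQuot.codeSix.test_of_check SmallQuot.check_six (z := φ Z) (u := φ U) (x := φ X) (p := φ P) (q := φ Q₁)
      (r2 Z F.hz.loc.zz) (r2 U F.uu) (r2 X hx2) (r2 P hp2) (r2 Q₁ hq2)
      (fun e => hz1 ((map_eq_one_iff ψ ψ.injective).1 e)) (fun e => huz (hinj e))
      (by rw [← map_mul, ← map_mul]; exact rel _ _ F.comm.symm) (by rw [← map_mul, ← map_mul]; exact rel _ _ hxz)
      (by rw [← map_mul, ← map_mul, ← map_mul]; exact rel _ _ hxu) (by rw [← map_mul, ← map_mul]; exact rel _ _ hpu)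
      (by rw [← map_mul, ← map_mul, ← map_mul]; exact rel _ _ hpz) (by rw [← map_mul, ← map_mul]; exact rel _ _ hqx)
      (by rw [← map_mul, ← map_mul, ← map_mul]; exact rel _ _ hqz)
    simp only [Bool.and_eq_true, beq_iff_eq] at this
    rw [← SmallQuot.codeSix.mul, ← SmallQuot.codeSix.mul, ← SmallQuot.codeSix.mul, ← SmallQuot.codeSix.pow,
      ← SmallQuot.codeSix.pow, ← map_mul, ← map_mul, ← map_mul, ← map_pow, ← map_pow] at this
    exact Or.inr (Or.inr ⟨(e1 ((P * Q₁) ^ 5)).1 (SmallQuot.codeSix.inj (this.1.trans SmallQuot.codeSix.one.symm)),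
      (e1 ((P * Z * Q₁) ^ 4)).1 (SmallQuot.codeSix.inj (this.2.trans SmallQuot.codeSix.one.symm))⟩)

end Four

end CfsgLib.Recog.J3T
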