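import Cfsg.Agent.Lib.Recog.JankoThree.Checks
import Cfsg.Agent.Lib.Recog.JankoThree.SigmaWords
import Mathlib

/-!
Owner: helper29. All cases but one collapse.
-/

set_option autoImplicit false
set_option linter.all false
set_option maxRecDepth 8000

namespace CfsgLib.Recog.J3T

open Subgroup Cfsg CfsgLib.Recog CfsgLib.Recog.SporBound
open CfsgLib.Recog.HJType (Local mem_cent ord_two inv_pair)
open CfsgLib.Recog.JTwoU hiding Base exists_base

/-- The relations of the remaining case, besides those of the centralizer and of the point. -/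
def mainRels : List (List ℕ) :=
  [rep 5 [7, 1, 7, 1], rep 4 [7, 5, 1, 7, 1], rep 3 (aW 0), rep 10 (5 :: kW)] ++
    (CModel.caseRels.getD 0 []).map (sub five)

variable {G : Type*} [Group G] [Finite G] {z u v σ : G} {Q Q' : Subgroup G} (B : Base z Q u Q' v σ)
include B

set_option maxHeartbeats 1000000 in
/-- The relations that single out the third Janko group. -/
theorem Base.main_rels {p : G} (hpz : p * z * p = z * u) (hne : p * z ≠ z * p) (hp2 : p * p = 1)
    (hpσ : p * σ = σ * p) (hpu : p * u * p = u)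
    (hrels : ∀ w ∈ J2UC.cert.rels ++ extraP, ev (lett v σ u z p) w = 1) :
    ∀ w ∈ mainRels, ev (lett v σ u z p) w = 1 := by
  classical
  set a := lett v σ u z p with ha
  have hinv : ∀ k, a k * a k = 1 := B.letters_inv hp2
  have hbig : a CfsgLib.ThreeTrans.CosetIndex.eqLetter = 1 := rfl
  have hz := B.four.hz
  -- a collapsed case is absurd
  have close : ∀ (C : Cert) (L : List (List ℕ)) (h : List ℕ) (S : List (List ℕ)) (y : G), C.OK →
      closes C L h S = true → (∀ w ∈ L, ev a w = 1) → y ≠ 1 → (∀ s ∈ S, y * ev a s = ev a s * y) → False := by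
    intro C L h S y hok hc hL hy hS
    simp only [closes, Bool.and_eq_true, beq_iff_eq, List.all_eq_true, List.mem_range, List.any_eq_true] at hc
    obtain ⟨⟨⟨hn, hkl⟩, hR⟩, hSub⟩ := hc
    set x := ev a h * y * (ev a h)⁻¹ with hx
    have hrel : ∀ w ∈ C.rels, (w.map a).prod = 1 := by
      intro w hw
      obtain ⟨w', hw', e⟩ := hR w hw
      show ev a w = 1
      rw [← ev_red hinv, e, ev_red hinv]
      rcases List.mem_append.1 hw' with h' | h'
      · exact hrels w' h'
      · exact hL w' h'
    have hsub : Cert.WordsIn a (centralizer ({x} : Set G)) C.subs := by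
      intro w hw
      obtain ⟨s, hs, e⟩ := hSub w hw
      show ev a w ∈ _
      rw [← ev_red hinv, e, ev_red hinv, ev_append, ev_append, ev_reverse hinv]
      refine mem_cent.2 ?_
      rw [hx, show ev a h * ev a s * (ev a h)⁻¹ * (ev a h * y * (ev a h)⁻¹) =
        ev a h * (ev a s * y) * (ev a h)⁻¹ by group, ← hS s hs]
      group
    obtain ⟨f, hf0, -, horb⟩ := Cert.exists_orbit hinv hbig hok (centralizer ({x} : Set G)) hrel hsub
    have hall : ∀ k < 8, a k * x = x * a k := by
      intro k hk
      obtain ⟨i, hi, he⟩ := horb (a k) (subset_closure ⟨k, List.contains_iff_mem.1 (hkl k hk), rfl⟩)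
      have h0 : C.nodeOf i = 0 := by
        have hi0 : i = 0 := by omega
        have hb := hok.base
        simp only [Bool.and_eq_true, Nat.beq_eq] at hb
        rw [hi0]; exact hb.1.2
      rw [h0, hf0, MulAction.Quotient.smul_coe, smul_eq_mul, mul_one, QuotientGroup.eq, mul_one] at he
      exact mem_cent.1 ((Subgroup.inv_mem_iff _).1 he)
    have hxC : x ∈ centralizer ({z} : Set G) := mem_cent.2 (hall 5 (by norm_num)).symm
    have hcomm : ∀ q ∈ Q, x * q = q * x := by
      intro q hq
      obtain ⟨w, hw, rfl⟩ := B.exists_word (hz.loc.le hq)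
      have hin : ev (lett v σ u z 1) w ∈ centralizer ({x} : Set G) := ev_mem fun k hk => mem_cent.2 (by
        rw [← lett_p v σ u z p (hw k hk)]
        exact hall k (by have := hw k hk; omega))
      exact (mem_cent.1 hin).symm
    rcases hz.loc.self_cases hxC hcomm with e | e
    · exact hy (conj_eq_one_iff.1 (hx ▸ e))
    · exact hne (by simpa [ha, lett, e] using hall 7 (by norm_num))
  set c := wC v σ with hc
  obtain ⟨hcC, hcQ, hc1, hzc⟩ := B.c_facts
  have hS7 : ∀ s ∈ [[0], [1], [2], [3], [4], [5], [6]], z * ev a s = ev a s * z := by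
    intro s hs
    have hlt : ∀ k ∈ s, k < 7 := by
      intro k hk
      simp only [List.mem_cons, List.not_mem_nil, or_false] at hs
      rcases hs with rfl | rfl | rfl | rfl | rfl | rfl | rfl <;> simp at hk <;> omega
    exact (mem_cent.1 (B.mem_C p hlt)).symm
  have hcw : ev a [1] = c := ev_single 1
  have hS4 : ∀ (w : List ℕ), (c * ev a w = ev a w * c) →
      ∀ s ∈ [[5], [1], [0, 4, 0], [0, 3, 0], w], c * ev a s = ev a s * c := by
    intro w hw s hs
    have hmod : ∀ s : List ℕ, (∀ k ∈ s, k < 7) → Model.key (1 :: s) = Model.key (s ++ [1]) →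
        c * ev a s = ev a s * c := by
      intro s hl hkey
      have := B.of_key p (w := 1 :: s) (w' := s ++ [1])
        (fun k hk => (List.mem_cons.1 hk).elim (fun e => by omega) (hl k))
        (fun k hk => (List.mem_append.1 hk).elim (hl k) (fun e => by simp at e; omega)) hkey
      rw [ev_cons, ev_append] at this
      rw [← hcw]
      simpa [ev] using this
    simp only [List.mem_cons, List.not_mem_nil, or_false] at hs
    rcases hs with rfl | rfl | rfl | rfl | rfl
    · exact hmod _ (by decide) (by decide +kernel)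
    · exact hmod _ (by decide) (by decide +kernel)
    · exact hmod _ (by decide) (by decide +kernel)
    · exact hmod _ (by decide) (by decide +kernel)
    · exact hw
  have hpc : ∀ h, ev a (rep (2 * h) [7, 1]) = 1 → c * ev a (rep h [7, 1]) = ev a (rep h [7, 1]) * c := by
    intro h hh
    rw [ev_rep] at hh ⊢
    set g := ev a [7, 1]
    have hcg : c * g * c = g⁻¹ := by
      rw [← ev_reverse hinv, ← hcw, ← ev_append, ← ev_append, ← ev_red hinv]
      rfl
    have h1 : c * g ^ h * c = (g ^ h)⁻¹ := by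
      rw [← inv_pow, ← hcg]
      have := (conj_pow (a := c) (b := g) (i := h)).symm
      rwa [inv_eq_of_mul_eq_one_right B.c2] at this
    have h2 : (g ^ h)⁻¹ = g ^ h := inv_eq_of_mul_eq_one_right (by rw [← pow_add, ← two_mul, hh])
    calc c * g ^ h = c * g ^ h * (c * c) := by rw [B.c2, mul_one]
      _ = c * g ^ h * c * c := by group
      _ = g ^ h * c := by rw [h1, h2]
  have hz1 := hz.loc.z_ne
  have hσw : ev a [1, 2] = σ := by
    rw [show ([1, 2] : List ℕ) = [1] ++ [2] from rfl, ev_append, ev_single, ev_single]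
    exact B.ids.1
  have hσw' : ev a [2, 1] = σ⁻¹ := by
    rw [← hσw, ← ev_reverse hinv]; rfl
  have three : ∀ {g : G}, g ∈ zpowers σ → g = 1 ∨ g = σ ∨ g = σ⁻¹ := by
    intro g hg
    obtain ⟨j, hj⟩ := mem_zpowers_iff.1 hg
    have : g = σ ^ (j % 3) := by
      rw [← hj]; exact zpow_eq_zpow_emod' j B.σ3
    have h0 := Int.emod_nonneg j (show (3 : ℤ) ≠ 0 by norm_num)
    have h3 := Int.emod_lt_of_pos j (show (0 : ℤ) < 3 by norm_num)
    interval_cases hm : j % 3
    · exact Or.inl (by simpa using this)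
    · exact Or.inr (Or.inl (by simpa using this))
    · refine Or.inr (Or.inr (this.trans (eq_inv_of_mul_eq_one_left ?_)))
      rw [show (2 : ℤ) = ((2 : ℕ) : ℤ) from rfl, zpow_natCast, ← pow_succ]
      exact B.σ3
  have tailEq : ∀ {w : List ℕ} {n : ℕ}, ev a w ^ n = 1 ∨ ev a w ^ n = σ ∨ ev a w ^ n = σ⁻¹ →
      ev a (rep n w) = 1 ∨ ev a (rep n w ++ [2, 1]) = 1 ∨ ev a (rep n w ++ [1, 2]) = 1 := by
    intro w n h
    rw [ev_rep, ev_append, ev_append, ev_rep, hσw, hσw']
    rcases h with e | e | e
    · exact Or.inl e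
    · exact Or.inr (Or.inl (by rw [e, mul_inv_cancel]))
    · exact Or.inr (Or.inr (by rw [e, inv_mul_cancel]))
  have cubes : ∀ {w : List ℕ} {n : ℕ}, ev a (rep n w) = 1 ∨ ev a (rep n w ++ [2, 1]) = 1 ∨
      ev a (rep n w ++ [1, 2]) = 1 → ev a (rep (3 * n) w) = 1 := by
    intro w n h
    rw [ev_rep, mul_comm, pow_mul]
    rw [ev_rep, ev_append, ev_append, ev_rep, hσw, hσw'] at h
    rcases h with e | e | e
    · rw [e, one_pow]
    · rw [mul_inv_eq_one.1 e, B.σ3]
    · rw [eq_inv_of_mul_eq_one_left e, inv_pow, B.σ3, inv_one]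
  have single : ∀ {w : List ℕ}, ev a w = 1 → ∀ w' ∈ [w], ev a w' = 1 := fun h w' hw' => by
    rw [List.mem_singleton.1 hw']; exact h
  -- the three products of the movers
  obtain ⟨hwQ, hwσ, hwu⟩ := B.u_move
  set x := c * u * c with hx
  have hci : c⁻¹ = c := inv_eq_of_mul_eq_one_right B.c2
  have hqσ : c * p * c * σ = σ * (c * p * c) := by
    have h1 : c * σ = σ⁻¹ * c := by
      calc c * σ = c * σ * (c * c) := by rw [B.c2, mul_one]
        _ = c * σ * c * c := by group
        _ = σ⁻¹ * c := by rw [B.csc]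
    have h2 : c * σ⁻¹ = σ * c := by
      calc c * σ⁻¹ = c * (c * σ * c) := by rw [B.csc]
        _ = (c * c) * σ * c := by group
        _ = σ * c := by rw [B.c2, one_mul]
    have hpσ' : p * σ⁻¹ = σ⁻¹ * p := (show Commute p σ from hpσ).inv_right
    calc c * p * c * σ = c * p * (c * σ) := by group
      _ = c * (p * σ⁻¹) * c := by rw [h1]; group
      _ = c * σ⁻¹ * p * c := by rw [hpσ']; group
      _ = σ * (c * p * c) := by rw [h2]; group
  have hsplit := B.four.sigma_words B.σK B.σ3 B.σ1 hwσ hpσ hqσ (conj_invol B.c2 B.four.uu) hp2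
    (conj_invol B.c2 hp2) (mem_cent.1 (hz.loc.le hwQ)) hwu hpu hpz
    (by rw [show c * p * c * x * (c * p * c) = c * p * (c * c) * u * (c * c) * p * c by rw [hx]; group, B.c2,
          mul_one, mul_one, show c * p * u * p * c = c * (p * u * p) * c by group, hpu])
    (by
      have hcz : c * z * c = z := by rw [mem_cent.1 hcC, mul_assoc, B.c2, mul_one]
      calc c * p * c * z * (c * p * c) = c * p * (c * z * c) * p * c := by group
        _ = c * (p * z * p) * c := by rw [hcz]; group
        _ = c * (z * u) * c := by rw [hpz]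
        _ = (c * z * c) * (c * u * c) := by
            rw [show c * z * c * (c * u * c) = c * z * (c * c) * u * c by group, B.c2]; group
        _ = z * x := by rw [hcz, hx])
  have e41 : ev a [7, 1, 7, 1] = p * (c * p * c) := by simp [ev, ha, lett, hc, mul_assoc]
  have e51 : ev a [7, 5, 1, 7, 1] = p * z * (c * p * c) := by simp [ev, ha, lett, hc, mul_assoc]
  rcases hsplit with h3 | h4 | ⟨h5, hz4⟩
  · exfalso
    have h := tailEq (w := [7, 1, 7, 1]) (by rw [e41]; exact three h3)
    have h18 : ev a (rep (2 * 9) [7, 1]) = 1 := cubes h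
    rcases h with e | e | e
    · exact close _ _ _ _ z J3TThreeA.ok checkThreeA (single e) hz1 hS7
    · exact close _ _ _ _ c J3TThreeC.ok checkThreeC (single e) hc1 (hS4 _ (hpc 9 h18))
    · exact close _ _ _ _ c J3TThreeB.ok checkThreeB (single e) hc1 (hS4 _ (hpc 9 h18))
  · exfalso
    have h := tailEq (w := [7, 1, 7, 1]) (by rw [e41]; exact three h4)
    have h24 : ev a (rep (2 * 12) [7, 1]) = 1 := cubes h
    rcases h with e | e | e
    · exact close _ _ _ _ z J3TFourA.ok checkFourA (single e) hz1 hS7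
    · exact close _ _ _ _ c J3TFourC.ok checkFourC (single e) hc1 (hS4 _ (hpc 12 h24))
    · exact close _ _ _ _ c J3TFourB.ok checkFourB (single e) hc1 (hS4 _ (hpc 12 h24))
  have hfive := tailEq (w := [7, 1, 7, 1]) (by rw [e41]; exact three h5)
  have h30 : ev a (rep (2 * 15) [7, 1]) = 1 := cubes hfive
  have h5' : ev a (rep 5 [7, 1, 7, 1]) = 1 := by
    rcases hfive with e | e | e
    · exact e
    · exact (close _ _ _ _ c J3TFiveC.ok checkFiveC (single e) hc1 (hS4 _ (hpc 15 h30))).elim
    · exact (close _ _ _ _ c J3TFiveB.ok checkFiveB (single e) hc1 (hS4 _ (hpc 15 h30))).elim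
  set k := ev a kW with hk
  have hk2 : k * k = 1 := by rw [hk, ← ev_append]; exact h5'
  have hkc : c * k = k * c := hpc 5 h5'
  have hSk : ∀ s ∈ five, c * ev a s = ev a s * c := hS4 kW hkc
  have hzk : ev a (5 :: kW) = z * k := by rw [ev_cons]; rfl
  have hkk : ev a (rep 10 [7, 1]) = 1 := h5'
  have hS7k : ∀ L : List ℕ, ∀ w ∈ [rep 5 [7, 1, 7, 1], L], ev a L = 1 → ev a w = 1 := by
    intro L w hw hL
    rcases List.mem_cons.1 hw with rfl | hw
    · exact h5'
    · rw [List.mem_singleton.1 hw]; exact hL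
  have h24 : (z * k) ^ 24 ≠ 1 := fun e => close _ _ _ _ z J3TZkTwentyFour.ok checkZkTwentyFour
    (fun w hw => hS7k _ w hw (by rw [ev_rep, hzk]; exact e)) hz1 hS7
  have h5k : (z * k) ^ 5 ≠ 1 := fun e => close _ _ _ _ c J3TZkFive.ok checkZkFive
    (fun w hw => hS7k _ w hw (by rw [ev_rep, hzk]; exact e)) hc1 hSk
  obtain ⟨h10, i, hi, h3i, hrel5⟩ := B.cc_cases p hk2 hkc.symm h24 h5k
  have hai : ev a (rep 3 (aW i)) = 1 := by
    rw [ev_rep, ← h3i, ← ev_sub, ← ev_red hinv, ← ev_red hinv (sub five _)]
    congr 2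
    interval_cases i <;> rfl
  have hsub5 : ∀ w ∈ (CModel.caseRels.getD i []).map (sub five), ev a w = 1 := by
    intro w hw
    obtain ⟨r, hr, rfl⟩ := List.mem_map.1 hw
    rw [ev_sub]
    exact hrel5 r hr
  have hfour : ev a (rep 4 [7, 5, 1, 7, 1]) = 1 ∨ ev a (rep 4 [7, 5, 1, 7, 1] ++ [2, 1]) = 1 ∨
      ev a (rep 4 [7, 5, 1, 7, 1] ++ [1, 2]) = 1 := tailEq (by rw [e51]; exact three hz4)
  have three' : ∀ L : List ℕ, ev a L = 1 → ∀ w ∈ [rep 5 [7, 1, 7, 1], L, rep 3 (aW i)], ev a w = 1 := by
    intro L hL w hw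
    simp only [List.mem_cons, List.not_mem_nil, or_false] at hw
    rcases hw with rfl | rfl | rfl <;> assumption
  have hnil : ∀ L : List ℕ, L ++ [] = L := List.append_nil
  interval_cases i
  · rcases hfour with e | e | e
    · intro w hw
      rcases List.mem_append.1 hw with h | h
      · simp only [List.mem_cons, List.not_mem_nil, or_false] at h
        rcases h with rfl | rfl | rfl | rfl
        · exact h5'
        · exact e
        · exact hai
        · rw [ev_rep, hzk]; exact h10
      · exact hsub5 w h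
    · exact (close _ _ _ _ z J3TTSi.ok checkTSi (three' _ e) hz1 hS7).elim
    · exact (close _ _ _ _ c J3TTS.ok checkTS (three' _ e) hc1 hSk).elim
  · exfalso
    rcases hfour with e | e | e
    · exact close _ _ _ _ c J3TFJ.ok checkFJ (three' _ ((hnil _).symm ▸ e)) hc1 hSk
    · exact close _ _ _ _ z J3TFSi.ok checkFSi (three' _ e) hz1 hS7
    · exact close _ _ _ _ c J3TFS.ok checkFS (three' _ e) hc1 hSk
  · exfalso
    rcases hfour with e | e | e
    · exact close _ _ _ _ z J3TOneJ.ok checkOneJ (three' _ ((hnil _).symm ▸ e)) hz1 hS7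
    · exact close _ _ _ _ z J3TOneSi.ok checkOneSi (three' _ e) hz1 hS7
    · exact close _ _ _ _ z J3TOneS.ok checkOneS (three' _ e) hz1 hS7
  · exfalso
    rcases hfour with e | e | e
    · exact close _ _ _ _ z J3TTwoJ.ok checkTwoJ (three' _ ((hnil _).symm ▸ e)) hz1 hS7
    · refine close _ _ _ _ z J3TTwoSi.ok checkTwoSi (fun w hw => ?_) hz1 hS7
      rcases List.mem_append.1 hw with h | h
      · exact three' _ e w h
      · exact hsub5 w h
    · exact close _ _ _ _ z J3TTwoS.ok checkTwoS (three' _ e) hz1 hS7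

end CfsgLib.Recog.J3T
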