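import Cfsg.Agent.Lib.Recog.JankoThree.Words
import Cfsg.Agent.Lib.Recog.JankoThree.CModel
import Mathlib

/-!
Owner: helper29. The centralizer of an outer involution: the possible relations of the special element.
-/

set_option autoImplicit false
set_option linter.all false
set_option maxRecDepth 8000

namespace CfsgLib.Recog.J3T

open Subgroup Cfsg CfsgLib.Recog CfsgLib.Recog.SporBound CfsgLib.Sporadic
open CfsgLib.Recog.HJType (Local mem_cent ord_two inv_pair)
open CfsgLib.Recog.JTwoU hiding Base exists_base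

/-- The five letters `z c i X k`. -/
def five : List (List ℕ) := [[5], [1], [0, 4, 0], [0, 3, 0], kW]

theorem five_sub : ∀ j, j < 4 → ∀ x ∈ five.getD j [], x < 7 := by decide

variable {G : Type*} [Group G] [Finite G] {z u v σ : G} {Q Q' : Subgroup G} (B : Base z Q u Q' v σ)
include B

local notation "a₁" => lett v σ u z 1

theorem Base.same_iff {w w' : List ℕ} (hw : ∀ k ∈ w, k < 7) (hw' : ∀ k ∈ w', k < 7) :
    CModel.same w w' = true ↔ ev a₁ w = ev a₁ w' := by
  refine ⟨fun h => B.key_eq hw hw' (CModel.key_of_same hw hw' h), fun h => ?_⟩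
  rw [CModel.same, forallLt_iff]
  intro i hi
  rw [show i = (⟨i, hi⟩ : Fin 32).1 from rfl, CModel.trc_eq w hw, CModel.trc_eq w' hw', (B.word_iff hw hw').1 h]
  exact Nat.beq_refl _

theorem Base.c_facts : wC v σ ∈ centralizer ({z} : Set G) ∧ wC v σ ∉ Q ∧ wC v σ ≠ 1 ∧
    z * wC v σ = wC v σ * z := by
  have hnot : wC v σ ∉ Q := by
    intro hq
    have hu := B.four.mem
    have h := mul_mem hu hq
    have h4 : (u * wC v σ) ^ 4 = 1 := by
      rw [show (4 : ℕ) = 2 * 2 from rfl, pow_mul, pow_two (u * wC v σ)]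
      rcases sq_cases B.four.hz.loc h with e | e <;> rw [e]
      · exact one_pow 2
      · rw [pow_two, B.four.hz.loc.zz]
    exact B.four.hz.loc.z_ne (B.uc4.symm.trans h4)
  exact ⟨B.cC, hnot, fun e => hnot (e ▸ one_mem _), (mem_cent.1 B.cC).symm⟩

/-- An element exchanging `z` and the outer involution. -/
theorem Base.exists_swap : ∃ g : G, g * wC v σ * g⁻¹ = z ∧ g * z * g⁻¹ = wC v σ := by
  obtain ⟨hcC, hcQ, hc1, hzc⟩ := B.c_facts
  set c := wC v σ
  have hz := B.four.hz
  obtain ⟨g₁, hg₁⟩ := isConj_iff.1 (hz.one c z (ord_two B.c2 hc1) hz.loc.hz)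
  set z' := g₁ * z * g₁⁻¹ with hz'
  have hz'2 : z' * z' = 1 := CfsgLib.Recog.HJType.invol_conj g₁ hz.loc.zz
  have hz'C : z' ∈ centralizer ({z} : Set G) := by
    refine mem_cent.2 ?_
    rw [← hg₁, hz', show g₁ * z * g₁⁻¹ * (g₁ * c * g₁⁻¹) = g₁ * (z * c) * g₁⁻¹ by group, hzc]
    group
  have hz'Q : z' ∉ Q := by
    intro hq
    have hne : z' ≠ z := by
      intro e
      have h1 : g₁ * z * g₁⁻¹ = g₁ * c * g₁⁻¹ := hz'.symm.trans (e.trans hg₁.symm)
      exact hcQ ((mul_right_inj g₁).1 (mul_left_injective _ h1) ▸ hz.loc.z_mem)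
    obtain ⟨q, hqQ, hqe⟩ := mem_symm hz.loc (hz.move g₁).loc hq hne
    have : q = c := by
      have h2 : g₁ * q * g₁⁻¹ = g₁ * c * g₁⁻¹ := hqe.trans hg₁.symm
      exact (mul_right_inj g₁).1 (mul_left_injective _ h2)
    exact hcQ (this ▸ hqQ)
  obtain ⟨n, hn, hne⟩ := hz.loc.outer_conj hz'2 hz'C hz'Q B.c2 hcC hcQ
  refine ⟨n * g₁, ?_, ?_⟩
  · rw [show n * g₁ * c * (n * g₁)⁻¹ = n * (g₁ * c * g₁⁻¹) * n⁻¹ by group, hg₁, mem_cent.1 hn,
      mul_inv_cancel_right]
  · rw [show n * g₁ * z * (n * g₁)⁻¹ = n * (g₁ * z * g₁⁻¹) * n⁻¹ by group, ← hz', hne]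

/-- Cosets of the words fixing the outer involution. -/
theorem Base.transversal {x : G} (hx : x ∈ centralizer ({z} : Set G)) :
    ∃ i < 120, ∃ j < 16, x = ev a₁ (CModel.t i) * ev a₁ (CModel.e j) := by
  obtain ⟨hT, hE, hTl, hEl⟩ := CModel.T_spec
  have tl : ∀ i, ∀ k ∈ CModel.t i, k < 7 := fun i k hk => by
    rcases lt_or_ge i CModel.T.length with h | h
    · rw [CModel.t, List.getD_eq_getElem _ _ h] at hk; exact hTl _ (List.getElem_mem _) k hk
    · rw [CModel.t, List.getD_eq_default _ _ h] at hk; simp at hk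
  have el : ∀ i, ∀ k ∈ CModel.e i, k < 7 := fun i k hk => by
    rcases lt_or_ge i CModel.E.length with h | h
    · rw [CModel.e, List.getD_eq_getElem _ _ h] at hk; exact hEl _ (List.getElem_mem _) k hk
    · rw [CModel.e, List.getD_eq_default _ _ h] at hk; simp at hk
  obtain ⟨w, hw, rfl⟩ := B.exists_word hx
  clear hx
  induction w with
  | nil =>
    refine ⟨0, by norm_num, 0, by norm_num, ?_⟩
    rw [CModel.base_spec.1, CModel.base_spec.2, ev_nil, mul_one]
  | cons k w ih =>
    obtain ⟨i, hi, j, hj, e⟩ := ih fun x hx => hw x (List.mem_cons_of_mem _ hx)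
    have hk := hw k List.mem_cons_self
    have hn := forallLt_elim (forallLt_elim CModel.next_spec hk) hi
    simp only [CModel.nextOK, Bool.and_eq_true, Nat.blt_eq] at hn
    obtain ⟨⟨hi', hl⟩, hs⟩ := hn
    set i' := (CModel.nxt k i).1
    set l := (CModel.nxt k i).2
    have e1 := (B.same_iff (fun x hx => (List.mem_cons.1 hx).elim (fun e => e ▸ hk) (tl i x))
      (fun x hx => (List.mem_append.1 hx).elim (tl i' x) (el l x))).1 hs
    rw [ev_cons, ev_append] at e1
    have e2 := (B.same_iff (fun x hx => (List.mem_append.1 hx).elim (el l x) (el j x)) (el (Nat.xor l j))).1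
      (forallLt_elim (forallLt_elim CModel.E_mul hl) hj)
    rw [ev_append] at e2
    refine ⟨i', hi', Nat.xor l j, Nat.xor_lt_two_pow (n := 4) hl hj, ?_⟩
    rw [ev_cons, e, ← mul_assoc, e1, mul_assoc, e2]

theorem Base.t_lt (i : ℕ) : ∀ k ∈ CModel.t i, k < 7 := fun k hk => by
  rcases lt_or_ge i CModel.T.length with h | h
  · rw [CModel.t, List.getD_eq_getElem _ _ h] at hk; exact CModel.T_spec.2.2.1 _ (List.getElem_mem _) k hk
  · rw [CModel.t, List.getD_eq_default _ _ h] at hk; simp at hk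

theorem Base.e_lt (i : ℕ) : ∀ k ∈ CModel.e i, k < 7 := fun k hk => by
  rcases lt_or_ge i CModel.E.length with h | h
  · rw [CModel.e, List.getD_eq_getElem _ _ h] at hk; exact CModel.T_spec.2.2.2 _ (List.getElem_mem _) k hk
  · rw [CModel.e, List.getD_eq_default _ _ h] at hk; simp at hk

theorem Base.cj_lt (i : ℕ) : ∀ k ∈ CModel.cj (CModel.t i), k < 7 := fun k hk => by
  rcases List.mem_append.1 hk with h | h
  · exact B.t_lt i k h
  · rcases List.mem_cons.1 h with e | e
    · omega
    · exact B.t_lt i k (List.mem_reverse.1 e)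

theorem Base.e_comm {j : ℕ} (hj : j < 16) {g : List ℕ} (hg : g ∈ [[1], [5], [0, 3, 0], [0, 4, 0]]) :
    ev a₁ (CModel.e j) * ev a₁ g = ev a₁ g * ev a₁ (CModel.e j) := by
  have h := forallLt_elim CModel.E_comm hj
  simp only [CModel.commOK, Bool.and_eq_true] at h
  have key : ∀ g : List ℕ, (∀ x ∈ g, x < 7) → CModel.same (CModel.e j ++ g) (g ++ CModel.e j) = true →
      ev a₁ (CModel.e j) * ev a₁ g = ev a₁ g * ev a₁ (CModel.e j) := fun g hg hs => by
    have := (B.same_iff (fun x hx => (List.mem_append.1 hx).elim (B.e_lt j x) (hg x))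
      (fun x hx => (List.mem_append.1 hx).elim (hg x) (B.e_lt j x))).1 hs
    rwa [ev_append, ev_append] at this
  simp only [List.mem_cons, List.not_mem_nil, or_false] at hg
  rcases hg with rfl | rfl | rfl | rfl
  · exact key [1] (by decide) h.1.1.1
  · exact key [5] (by decide) h.1.1.2
  · exact key [0, 3, 0] (by decide) h.1.2
  · exact key [0, 4, 0] (by decide) h.2

theorem Base.cj_eq (i : ℕ) :
    ev a₁ (CModel.cj (CModel.t i)) = ev a₁ (CModel.t i) * wC v σ * (ev a₁ (CModel.t i))⁻¹ := by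
  rw [CModel.cj, ev_append, ev_cons, ev_reverse (B.letters_inv (one_mul 1)), ← mul_assoc]
  rfl

/-- Elements of `C(z) ∩ C(c)` are among the sixteen words. -/
theorem Base.cent_word {x : G} (hx : x ∈ centralizer ({z} : Set G)) (hxc : x * wC v σ = wC v σ * x) :
    ∃ j < 16, x = ev a₁ (CModel.e j) := by
  obtain ⟨i, hi, j, hj, e⟩ := B.transversal hx
  set T₀ := ev a₁ (CModel.t i)
  set E₀ := ev a₁ (CModel.e j) with hE₀
  have hec : E₀ * wC v σ = wC v σ * E₀ := by
    have := B.e_comm hj (g := [1]) (by simp)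
    rwa [ev_single] at this
  have htc : T₀ * wC v σ * T₀⁻¹ = wC v σ := by
    have h1 : T₀ * (E₀ * wC v σ) = wC v σ * (T₀ * E₀) := by rw [← mul_assoc, ← e, hxc, e]
    rw [hec, ← mul_assoc, ← mul_assoc] at h1
    rw [mul_left_injective _ h1, mul_inv_cancel_right]
  have hi0 : i = 0 := by
    have h := forallLt_elim CModel.T_fix hi
    have hs : CModel.same (CModel.cj (CModel.t i)) [1] = true :=
      (B.same_iff (B.cj_lt i) (by decide)).2 (by rw [B.cj_eq, htc, ev_single]; rfl)
    simp only [hs, Bool.not_true, Bool.or_false, Nat.beq_eq] at h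
    exact h
  refine ⟨j, hj, ?_⟩
  subst hi0
  rw [e]
  show ev a₁ (CModel.t 0) * E₀ = E₀
  rw [CModel.base_spec.1, ev_nil, one_mul]

/-- The outer involutions are the conjugates by the transversal. -/
theorem Base.outer_word {x : G} (hx : x ∈ centralizer ({z} : Set G)) (hx2 : x * x = 1) (hxQ : x ∉ Q) :
    ∃ i < 120, x = ev a₁ (CModel.cj (CModel.t i)) := by
  obtain ⟨hcC, hcQ, -, -⟩ := B.c_facts
  obtain ⟨n, hn, hne⟩ := B.four.hz.loc.outer_conj B.c2 hcC hcQ hx2 hx hxQ
  obtain ⟨i, hi, j, hj, e⟩ := B.transversal hn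
  refine ⟨i, hi, ?_⟩
  have hec := B.e_comm hj (g := [1]) (by simp)
  rw [ev_single] at hec
  have hec' : ev a₁ (CModel.e j) * wC v σ = wC v σ * ev a₁ (CModel.e j) := hec
  rw [B.cj_eq, ← hne, e, mul_inv_rev]
  simp only [mul_assoc]
  rw [← mul_assoc (ev a₁ (CModel.e j)) (wC v σ), hec', mul_assoc, mul_inv_cancel_left]

/-- The exchanging element on the four letters `z c i X`. -/
theorem Base.swap_maps {g : G} (hgc : g * wC v σ * g⁻¹ = z) (hgz : g * z * g⁻¹ = wC v σ) :
    ∃ m < 2, ∀ j < 4, g * ev a₁ (five.getD j []) * g⁻¹ = ev a₁ ((CModel.maps.getD m []).getD j []) := by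
  obtain ⟨hcC, hcQ, hc1, hzc⟩ := B.c_facts
  set c := wC v σ with hcdef
  have hz := B.four.hz
  set Qc := Q.map (MulAut.conj g).toMonoidHom with hQc
  have R : Hyp c Qc := hgz ▸ hz.move g
  have hzQc : z ∉ Qc := by
    rintro ⟨q, hq, hqe⟩
    have : q = c := (mul_right_inj g).1 (mul_left_injective _ ((show g * q * g⁻¹ = z from hqe).trans hgc.symm))
    exact hcQ (this ▸ hq)
  set i₀ := ev a₁ [0, 4, 0] with hi₀
  set X := ev a₁ [0, 3, 0] with hX
  have hi₀' : i₀ = v * u * v := by simp [hi₀, ev, lett, mul_assoc]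
  have hiQ : i₀ ∈ Q := by
    have := hz.loc.conj_mem v B.vC u B.four.mem
    rwa [inv_eq_of_mul_eq_one_right B.v2, ← hi₀'] at this
  have hi2 : i₀ * i₀ = 1 := by rw [hi₀']; exact conj_invol B.v2 B.four.uu
  have hvv : v * (v * u * v) * v = u := by
    rw [show v * (v * u * v) * v = (v * v) * u * (v * v) by group, B.v2, one_mul, mul_one]
  have hi1 : i₀ ≠ 1 := fun e => B.four.u_ne (by
    rw [← hvv, ← hi₀', e, mul_one, B.v2])
  have hiz : i₀ ≠ z := fun e => B.four.ne (by
    rw [← hvv, ← hi₀', e, (mem_cent.1 B.vC), mul_assoc, B.v2, mul_one])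
  have hic : i₀ * c = c * i₀ := by
    have h := B.of_key 1 (w := [0, 4, 0, 1]) (w' := [1, 0, 4, 0]) (by decide) (by decide) (by decide +kernel)
    simp only [ev, List.map_cons, List.map_nil, List.prod_cons, List.prod_nil, mul_one] at h
    rw [hi₀']
    simpa [lett, mul_assoc] using h
  -- involutions of `Qc` commuting with `z`
  have hnot : ∀ s, s ∈ Qc → s * z = z * s → s * s = 1 → s ≠ 1 → s ≠ c → s ∉ Q := by
    intro s hs hsz hs2 hs1 hsc hsQ
    have hsne : s ≠ z := fun e => hzQc (e ▸ hs)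
    obtain ⟨Qs, F⟩ := hz.exists_four hsQ hs2 hs1 hsne
    have hcs : c ∈ Qs := mem_symm R.loc F.hu.loc hs hsc
    rcases F.hu.loc.commuting_cases F.mem' hcs hz.loc.zz B.c2 hzc ⟨hz.loc.z_ne, fun e => hsne e.symm⟩ with
      e | e | e | e
    · exact hc1 e
    · exact hsc e.symm
    · exact hcQ (e ▸ hz.loc.z_mem)
    · exact hcQ (e ▸ mul_mem hz.loc.z_mem hsQ)
  set s := g * i₀ * g⁻¹ with hs
  have hsQc : s ∈ Qc := ⟨i₀, hiQ, rfl⟩
  have hconj : ∀ x y : G, x * y = y * x → g * x * g⁻¹ * (g * y * g⁻¹) = g * y * g⁻¹ * (g * x * g⁻¹) := by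
    intro x y h
    rw [show g * x * g⁻¹ * (g * y * g⁻¹) = g * (x * y) * g⁻¹ by group, h]
    group
  have hsz : s * z = z * s := by
    have := hconj i₀ c hic
    rwa [hgc] at this
  have hsc : s * c = c * s := by
    have := hconj i₀ z (mem_cent.1 (hz.loc.le hiQ))
    rwa [hgz] at this
  have hs2 : s * s = 1 := by rw [hs]; exact CfsgLib.Recog.HJType.invol_conj g hi2
  have hs1 : s ≠ 1 := fun e => hi1 (conj_eq_one_iff.1 e)
  have hsnc : s ≠ c := fun e => hiz ((mul_right_inj g).1 (mul_left_injective _ (e.trans hgz.symm)))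
  have hsQ := hnot s hsQc hsz hs2 hs1 hsnc
  have hscQ : s * c ∉ Q := by
    refine hnot (s * c) (mul_mem hsQc R.loc.z_mem) ?_ ?_ ?_ ?_
    · rw [mul_assoc, ← hzc, ← mul_assoc, hsz, mul_assoc]
    · rw [show s * c * (s * c) = s * (c * s) * c by group, ← hsc, show s * (s * c) * c = (s * s) * (c * c) by group,
        hs2, B.c2, one_mul]
    · intro e
      exact hsnc ((eq_inv_of_mul_eq_one_left e).trans (inv_eq_of_mul_eq_one_right B.c2))
    · intro e
      exact hs1 (mul_eq_right.1 e)
  obtain ⟨i, hi, hsw⟩ := B.outer_word (mem_cent.2 hsz) hs2 hsQ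
  have hti := B.t_lt i
  have hcjl := B.cj_lt i
  have e1 : ev a₁ (CModel.cj (CModel.t i) ++ [1]) = s * c := by rw [ev_append, ev_single, ← hsw]; rfl
  have l1 : ∀ k ∈ CModel.cj (CModel.t i) ++ [1], k < 7 := fun k hk =>
    (List.mem_append.1 hk).elim (hcjl k) (fun h => by simp at h; omega)
  have hcomm : CModel.same (CModel.cj (CModel.t i) ++ [1]) (1 :: CModel.cj (CModel.t i)) = true := by
    refine (B.same_iff l1 (fun k hk => (List.mem_cons.1 hk).elim (fun e => by omega) (hcjl k))).2 ?_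
    rw [e1, ev_cons, ← hsw, hsc]
    rfl
  have hXor : s = X ∨ s = X * c := by
    have h := forallLt_elim CModel.linked hi
    simp only [CModel.linkedOK, hcomm, Bool.not_true, Bool.false_or, Bool.or_eq_true, Bool.and_eq_true,
      Bool.not_eq_true'] at h
    rcases h with ((h | h) | h) | h
    · exfalso
      refine hsnc ?_
      rw [hsw, (B.same_iff hcjl (by decide)).1 h, ev_single]
      rfl
    · exfalso
      refine hscQ ?_
      have hw : ∃ w ∈ [[5], [0, 4, 0], [0, 4, 0, 5]], CModel.same (CModel.cj (CModel.t i) ++ [1]) w = true := by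
        rcases h with (h | h) | h
        exacts [⟨_, by simp, h⟩, ⟨_, by simp, h⟩, ⟨_, by simp, h⟩]
      obtain ⟨w, hw, hsame⟩ := hw
      simp only [List.mem_cons, List.not_mem_nil, or_false] at hw
      rw [← e1]
      rcases hw with rfl | rfl | rfl
      · rw [(B.same_iff l1 (by decide)).1 hsame, ev_single]; exact hz.loc.z_mem
      · rw [(B.same_iff l1 (by decide)).1 hsame]; exact hiQ
      · rw [(B.same_iff l1 (by decide)).1 hsame, show [0, 4, 0, 5] = [0, 4, 0] ++ [5] from rfl, ev_append, ev_single]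
        exact mul_mem hiQ hz.loc.z_mem
    · rcases h with h | h
      · left; rw [hsw, (B.same_iff hcjl (by decide)).1 h]
      · right
        rw [hsw, (B.same_iff hcjl (by decide)).1 h, show [0, 3, 0, 1] = [0, 3, 0] ++ [1] from rfl, ev_append, ev_single]
        rfl
    · exfalso
      set n := ev a₁ (CModel.t i) with hn
      have hnC : n ∈ centralizer ({z} : Set G) := ev_mem fun k hk => B.zc k (hti k hk)
      have hsn : s = n * c * n⁻¹ := hsw.trans (B.cj_eq i)
      have Rs : Hyp s (Qc.map (MulAut.conj n).toMonoidHom) := hsn ▸ R.move n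
      obtain ⟨r, hrQc, hre⟩ := mem_symm R.loc Rs.loc hsQc hsnc
      have hre' : n * r * n⁻¹ = c := hre
      have hr : r = n⁻¹ * c * n := by rw [← hre']; group
      have hrz : r * z = z * r := by
        rw [hr]
        exact mem_cent.1 (mul_mem (mul_mem (Subgroup.inv_mem _ hnC) hcC) hnC)
      have hrc : r * c = c * r := mem_cent.1 (R.loc.le hrQc)
      obtain ⟨j, hj, hrj⟩ := B.cent_word (mem_cent.2 hrz) hrc
      obtain ⟨j', hj', hsj⟩ := B.cent_word (mem_cent.2 hsz) hsc
      have hrs : s * r = r * s := by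
        have h1 := (B.same_iff (fun x hx => (List.mem_append.1 hx).elim (B.e_lt j' x) (B.e_lt j x))
          (B.e_lt _)).1 (forallLt_elim (forallLt_elim CModel.E_mul hj') hj)
        have h2 := (B.same_iff (fun x hx => (List.mem_append.1 hx).elim (B.e_lt j x) (B.e_lt j' x))
          (B.e_lt _)).1 (forallLt_elim (forallLt_elim CModel.E_mul hj) hj')
        rw [ev_append, ← hrj, ← hsj] at h1 h2
        rw [h1, h2, show Nat.xor j' j = Nat.xor j j' from Nat.xor_comm j' j]
      have hr2 : r * r = 1 := by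
        rw [hr, show n⁻¹ * c * n * (n⁻¹ * c * n) = n⁻¹ * (c * c) * n by group, B.c2, mul_one, inv_mul_cancel]
      have er : ev a₁ ((CModel.t i).reverse ++ 1 :: CModel.t i) = r := by
        rw [ev_append, ev_cons, ev_reverse (B.letters_inv (one_mul 1)), hr, mul_assoc]; rfl
      have lr : ∀ k ∈ (CModel.t i).reverse ++ 1 :: CModel.t i, k < 7 := fun k hk => by
        rcases List.mem_append.1 hk with h | h
        · exact hti k (List.mem_reverse.1 h)
        · rcases List.mem_cons.1 h with e | e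
          · omega
          · exact hti k e
      have hno : ∀ w : List ℕ, (∀ k ∈ w, k < 7) →
          CModel.same ((CModel.t i).reverse ++ 1 :: CModel.t i) w = false → r ≠ ev a₁ w := by
        intro w hw hf e
        rw [(B.same_iff lr hw).2 (er.trans e)] at hf
        exact Bool.noConfusion hf
      rcases R.loc.commuting_cases hsQc hrQc hs2 hr2 hrs ⟨hs1, hsnc⟩ with e | e | e | e
      · exact hno [] (by simp) h.1.1.1 (e.trans (ev_nil _).symm)
      · exact hno [1] (by simp) h.1.1.2 (e.trans (by rw [ev_single]; rfl))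
      · exact hno _ hcjl h.1.2 (e.trans hsw)
      · exact hno _ l1 h.2 (e.trans e1.symm)
  have hg2 : g * g ∈ centralizer ({z} : Set G) ∧ (g * g) * c = c * (g * g) := by
    have h1 : ∀ {x y : G}, g * x * g⁻¹ = y → g * y * g⁻¹ = x → g * g * x = x * (g * g) := by
      intro x y e e'
      calc g * g * x = g * (g * x * g⁻¹) * g⁻¹ * (g * g) := by group
        _ = x * (g * g) := by rw [e, e']
    exact ⟨mem_cent.2 (h1 hgz hgc), h1 hgc hgz⟩
  obtain ⟨j, hj, hgj⟩ := B.cent_word hg2.1 hg2.2
  have hgi : g * (g * i₀ * g⁻¹) * g⁻¹ = i₀ := by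
    have := B.e_comm hj (g := [0, 4, 0]) (by simp)
    rw [← hgj] at this
    calc g * (g * i₀ * g⁻¹) * g⁻¹ = g * g * i₀ * (g * g)⁻¹ := by group
      _ = i₀ := by rw [this, mul_inv_cancel_right]
  rcases hXor with e | e
  · refine ⟨0, by norm_num, fun j hj => ?_⟩
    have e3 : g * X * g⁻¹ = i₀ := by rw [← e, hgi]
    interval_cases j
    · simpa [five, CModel.maps, ev, lett] using hgz
    · simpa [five, CModel.maps, ev, lett] using hgc
    · exact e
    · exact e3
  · refine ⟨1, by norm_num, fun j hj => ?_⟩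
    have hXs : X = s * c := by rw [e, mul_assoc, B.c2, mul_one]
    have e3 : g * X * g⁻¹ = i₀ * z := by
      rw [hXs, show g * (s * c) * g⁻¹ = g * s * g⁻¹ * (g * c * g⁻¹) by group, hgi, hgc]
    interval_cases j
    · simpa [five, CModel.maps, ev, lett] using hgz
    · simpa [five, CModel.maps, ev, lett] using hgc
    · exact e.trans (by
        show ev a₁ [0, 3, 0] * c = ev a₁ [0, 3, 0, 1]
        rw [show [0, 3, 0, 1] = [0, 3, 0] ++ [1] from rfl, ev_append, ev_single]; rfl)
    · exact e3.trans (by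
        show ev a₁ [0, 4, 0] * z = ev a₁ [0, 4, 0, 5]
        rw [show [0, 4, 0, 5] = [0, 4, 0] ++ [5] from rfl, ev_append, ev_single]; rfl)

/-- The relations of the special element in the centralizer of the outer involution. -/
theorem Base.cc_cases (p : G) (hk2 : ev (lett v σ u z p) kW * ev (lett v σ u z p) kW = 1)
    (hkc : ev (lett v σ u z p) kW * wC v σ = wC v σ * ev (lett v σ u z p) kW)
    (h24 : (z * ev (lett v σ u z p) kW) ^ 24 ≠ 1) (h5 : (z * ev (lett v σ u z p) kW) ^ 5 ≠ 1) :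
    (z * ev (lett v σ u z p) kW) ^ 10 = 1 ∧ ∃ i < 4,
      ev (fun j => ev (lett v σ u z p) (five.getD j [])) (CModel.cand.getD i [] ++ [4]) ^ 3 = 1 ∧
      ∀ r ∈ CModel.caseRels.getD i [], ev (fun j => ev (lett v σ u z p) (five.getD j [])) r = 1 := by
  obtain ⟨g, hgc, hgz⟩ := B.exists_swap
  obtain ⟨hcC, hcQ, -, -⟩ := B.c_facts
  obtain ⟨m, hm, hmap⟩ := B.swap_maps hgc hgz
  set a := lett v σ u z p with ha
  set k := ev a kW with hk
  set c := wC v σ with hc
  set k' := g * k * g⁻¹ with hk'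
  have hk'2 : k' * k' = 1 := CfsgLib.Recog.HJType.invol_conj g hk2
  have hk'C : k' ∈ centralizer ({z} : Set G) := mem_cent.2 (by
    rw [← hgc, hk', show g * k * g⁻¹ * (g * c * g⁻¹) = g * (k * c) * g⁻¹ by group, hkc]
    group)
  have hpow : ∀ n, (c * k') ^ n = 1 → (z * k) ^ n = 1 := by
    intro n hn
    have e : c * k' = g * (z * k) * g⁻¹ := by rw [← hgz, hk']; group
    rw [e, conj_pow] at hn
    exact conj_eq_one_iff.1 hn
  have hk'Q : k' ∉ Q := by
    intro hq
    refine h24 (hpow 24 ?_)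
    have hq2 : c * k' * (c * k') ∈ Q := by
      have := B.four.hz.loc.conj_mem c hcC k' hq
      rw [inv_eq_of_mul_eq_one_right B.c2] at this
      rw [show c * k' * (c * k') = c * k' * c * k' by group]
      exact mul_mem this hq
    rw [show (c * k') ^ 24 = (((c * k' * (c * k')) ^ 2) ^ 2) ^ 3 by
      rw [← pow_two, ← pow_mul, ← pow_mul, ← pow_mul]]
    have : ∀ q ∈ Q, (q ^ 2) ^ 2 = 1 := fun q hq => by
      rcases sq_cases B.four.hz.loc hq with e | e <;> rw [pow_two q, e]
      · exact one_pow 2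
      · rw [pow_two, B.four.hz.loc.zz]
    rw [this _ hq2, one_pow]
  obtain ⟨i, hi, hk'w⟩ := B.outer_word hk'C hk'2 hk'Q
  set S := CModel.maps.getD m [] ++ [CModel.cj (CModel.t i)] with hS
  have hlen : (CModel.maps.getD m []).length = 4 ∧ ∀ j, ∀ x ∈ (CModel.maps.getD m []).getD j [], x < 7 := by
    constructor
    · interval_cases m <;> rfl
    · intro j x hx
      rcases lt_or_ge j 4 with h | h
      · interval_cases m <;> interval_cases j <;> simp [CModel.maps] at hx <;> omega
      · rw [List.getD_eq_default _ _ (by interval_cases m <;> simp [CModel.maps] <;> omega)] at hx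
        simp at hx
  have hSl : ∀ j, ∀ x ∈ S.getD j [], x < 7 := by
    intro j x hx
    rcases Nat.lt_trichotomy j 4 with h | rfl | h
    · rw [hS, List.getD_append _ _ _ _ (by rw [hlen.1]; exact h)] at hx
      exact hlen.2 j x hx
    · rw [hS, List.getD_append_right _ _ _ _ hlen.1.le, hlen.1] at hx
      exact B.cj_lt i x hx
    · rw [hS, List.getD_eq_default _ _ (by rw [List.length_append, hlen.1, List.length_singleton]; omega)] at hx
      simp at hx
  have hSw : ∀ j, g * ev a (five.getD j []) * g⁻¹ = ev a₁ (S.getD j []) := by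
    intro j
    rcases Nat.lt_trichotomy j 4 with h | rfl | h
    · rw [hS, List.getD_append _ _ _ _ (by rw [hlen.1]; exact h), ← hmap j h, ha, ev_seven p (five_sub j h)]
    · rw [hS, List.getD_append_right _ _ _ _ hlen.1.le, hlen.1]
      exact hk'w
    · rw [List.getD_eq_default _ _ (by simp [five]; omega), hS, List.getD_eq_default _ _ (by rw [List.length_append, hlen.1, List.length_singleton]; omega),
        ev_nil, ev_nil, mul_one, mul_inv_cancel]
  have himage : ∀ w : List ℕ, g * ev (fun j => ev a (five.getD j [])) w * g⁻¹ = ev a₁ (CModel.ev5 S w) := by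
    intro w
    have := ev_map (MulAut.conj g).toMonoidHom (a := fun j => ev a (five.getD j [])) w
    simp only [MulEquiv.coe_toMonoidHom, MulAut.conj_apply] at this
    rw [this, show CModel.ev5 S w = sub S w from rfl, ev_sub]
    exact ev_congr fun j _ => hSw j
  have hw5 : ∀ w : List ℕ, ∀ x ∈ CModel.ev5 S w, x < 7 := by
    intro w x hx
    obtain ⟨j, -, hj⟩ := List.mem_flatMap.1 hx
    exact hSl j x hj
  have hok : ∀ (w : List ℕ) (n : ℕ), CModel.powOK S w n = true → ev (fun j => ev a (five.getD j [])) w ^ n = 1 := by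
    intro w n h
    have h1 := (B.same_iff (hw5 _) (by simp)).1 (CModel.pow_sound h)
    rw [← himage, ev_nil, show (List.replicate n w).flatten = rep n w from rfl, ev_rep] at h1
    exact conj_eq_one_iff.1 h1
  have h04 : ev (fun j => ev a (five.getD j [])) [0, 4] = z * k := by
    simp [ev, five, hk, ha, lett]
  have hcase := CModel.cases_spec hm hi
  rw [CModel.candOK, ← hS, CModel.caseOK] at hcase
  set n := (CModel.wit.getD m []).getD i 0
  cases hb : Nat.blt n 20 with
  | true =>
    simp only [hb, cond_true, Bool.and_eq_true, Bool.or_eq_true, Nat.beq_eq] at hcase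
    obtain ⟨hn, hp⟩ := hcase
    have hp' := hok _ _ hp
    rw [h04] at hp'
    rcases hn with hn | hn
    · exact absurd (hn ▸ hp') h5
    · obtain ⟨d, hd⟩ := Nat.dvd_of_mod_eq_zero hn
      exact absurd (by rw [hd, pow_mul, hp', one_pow]) h24
  | false =>
    simp only [hb, cond_false, Bool.and_eq_true, Nat.blt_eq, List.all_eq_true] at hcase
    obtain ⟨⟨⟨hlt, h10⟩, h3⟩, hr⟩ := hcase
    refine ⟨h04 ▸ hok _ _ h10, n - 20, by omega, hok _ _ h3, fun r hr' => ?_⟩
    have := hok r 1 (hr r hr')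
    rwa [pow_one] at this

end CfsgLib.Recog.J3T
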