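import Cfsg.Agent.Lib.Recog.SporBound.J3TThreeA.Valid
import Cfsg.Agent.Lib.Recog.SporBound.J3TThreeB.Valid
import Cfsg.Agent.Lib.Recog.SporBound.J3TThreeC.Valid
import Cfsg.Agent.Lib.Recog.SporBound.J3TFourA.Valid
import Cfsg.Agent.Lib.Recog.SporBound.J3TFourB.Valid
import Cfsg.Agent.Lib.Recog.SporBound.J3TFourC.Valid
import Cfsg.Agent.Lib.Recog.SporBound.J3TFiveB.Valid
import Cfsg.Agent.Lib.Recog.SporBound.J3TFiveC.Valid
import Cfsg.Agent.Lib.Recog.SporBound.J3TPcFive.Valid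
import Cfsg.Agent.Lib.Recog.SporBound.J3TZkFive.Valid
import Cfsg.Agent.Lib.Recog.SporBound.J3TZkTwentyFour.Valid
import Cfsg.Agent.Lib.Recog.SporBound.J3TOneS.Valid
import Cfsg.Agent.Lib.Recog.SporBound.J3TOneSi.Valid
import Cfsg.Agent.Lib.Recog.SporBound.J3TOneJ.Valid
import Cfsg.Agent.Lib.Recog.SporBound.J3TTwoS.Valid
import Cfsg.Agent.Lib.Recog.SporBound.J3TTwoSi.Valid
import Cfsg.Agent.Lib.Recog.SporBound.J3TTwoJ.Valid
import Cfsg.Agent.Lib.Recog.SporBound.J3TTS.Valid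
import Cfsg.Agent.Lib.Recog.SporBound.J3TTSi.Valid
import Cfsg.Agent.Lib.Recog.SporBound.J3TFS.Valid
import Cfsg.Agent.Lib.Recog.SporBound.J3TFSi.Valid
import Cfsg.Agent.Lib.Recog.SporBound.J3TFJ.Valid
import Cfsg.Agent.Lib.Recog.JankoThree.CentC

/-!
Owner: helper29. The collapse certificates fit the cases.
-/

set_option autoImplicit false
set_option Elab.async false
set_option maxRecDepth 20000

namespace CfsgLib.Recog.J3T

open CfsgLib.Recog.SporBound CfsgLib.Recog.JTwoU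

/-- The word of a case, before its cube. -/
def aW (i : ℕ) : List ℕ := [[0, 3, 4, 0, 5, 1], [0, 3, 4, 0], [0, 4, 0, 1], [0, 4, 0, 5, 1]].getD i [] ++ kW

/-- A certificate bounds the index of a conjugated list by one, from known relations. -/
noncomputable def closes (C : Cert) (L : List (List ℕ)) (h : List ℕ) (S : List (List ℕ)) : Bool :=
  C.n == 1 && (List.range 8).all (fun k => C.kl.contains k) &&
    (C.rels.all fun w => (J2UC.cert.rels ++ extraP ++ L).any fun w' => red w == red w') &&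
    (C.subs.all fun w => S.any fun s => red w == red (h ++ s ++ h.reverse))

theorem checkThreeA : closes J3TThreeA.cert ([rep 3 [7, 1, 7, 1]]) [] [[0], [1], [2], [3], [4], [5], [6]] = true := by decide +kernel

theorem checkThreeB : closes J3TThreeB.cert ([rep 3 [7, 1, 7, 1] ++ [1, 2]]) [] [[5], [1], [0, 4, 0], [0, 3, 0], rep 9 [7, 1]] = true := by decide +kernel

theorem checkThreeC : closes J3TThreeC.cert ([rep 3 [7, 1, 7, 1] ++ [2, 1]]) [] [[5], [1], [0, 4, 0], [0, 3, 0], rep 9 [7, 1]] = true := by decide +kernel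

theorem checkFourA : closes J3TFourA.cert ([rep 4 [7, 1, 7, 1]]) [] [[0], [1], [2], [3], [4], [5], [6]] = true := by decide +kernel

theorem checkFourB : closes J3TFourB.cert ([rep 4 [7, 1, 7, 1] ++ [1, 2]]) [] [[5], [1], [0, 4, 0], [0, 3, 0], rep 12 [7, 1]] = true := by decide +kernel

theorem checkFourC : closes J3TFourC.cert ([rep 4 [7, 1, 7, 1] ++ [2, 1]]) [] [[5], [1], [0, 4, 0], [0, 3, 0], rep 12 [7, 1]] = true := by decide +kernel

theorem checkFiveB : closes J3TFiveB.cert ([rep 5 [7, 1, 7, 1] ++ [1, 2]]) [] [[5], [1], [0, 4, 0], [0, 3, 0], rep 15 [7, 1]] = true := by decide +kernel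

theorem checkFiveC : closes J3TFiveC.cert ([rep 5 [7, 1, 7, 1] ++ [2, 1]]) [] [[5], [1], [0, 4, 0], [0, 3, 0], rep 15 [7, 1]] = true := by decide +kernel

theorem checkPcFive : closes J3TPcFive.cert ([kW]) [] [[0], [1], [2], [3], [4], [5], [6]] = true := by decide +kernel

theorem checkZkFive : closes J3TZkFive.cert ([rep 5 [7, 1, 7, 1], rep 5 (5 :: kW)]) [] five = true := by decide +kernel

theorem checkZkTwentyFour : closes J3TZkTwentyFour.cert ([rep 5 [7, 1, 7, 1], rep 24 (5 :: kW)]) (rep 10 [7, 1]) [[0], [1], [2], [3], [4], [5], [6]] = true := by decide +kernel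

theorem checkOneS : closes J3TOneS.cert ([rep 5 [7, 1, 7, 1], rep 4 [7, 5, 1, 7, 1] ++ [1, 2], rep 3 (aW 2)]) (rep 10 [7, 1]) [[0], [1], [2], [3], [4], [5], [6]] = true := by decide +kernel

theorem checkOneSi : closes J3TOneSi.cert ([rep 5 [7, 1, 7, 1], rep 4 [7, 5, 1, 7, 1] ++ [2, 1], rep 3 (aW 2)]) (rep 10 [7, 1]) [[0], [1], [2], [3], [4], [5], [6]] = true := by decide +kernel

theorem checkOneJ : closes J3TOneJ.cert ([rep 5 [7, 1, 7, 1], rep 4 [7, 5, 1, 7, 1] ++ [], rep 3 (aW 2)]) (rep 10 [7, 1]) [[0], [1], [2], [3], [4], [5], [6]] = true := by decide +kernel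

theorem checkTwoS : closes J3TTwoS.cert ([rep 5 [7, 1, 7, 1], rep 4 [7, 5, 1, 7, 1] ++ [1, 2], rep 3 (aW 3)]) (rep 10 [7, 1]) [[0], [1], [2], [3], [4], [5], [6]] = true := by decide +kernel

theorem checkTwoSi : closes J3TTwoSi.cert ([rep 5 [7, 1, 7, 1], rep 4 [7, 5, 1, 7, 1] ++ [2, 1], rep 3 (aW 3)] ++ (CModel.caseRels.getD 3 []).map (sub five)) [] [[0], [1], [2], [3], [4], [5], [6]] = true := by decide +kernel

theorem checkTwoJ : closes J3TTwoJ.cert ([rep 5 [7, 1, 7, 1], rep 4 [7, 5, 1, 7, 1] ++ [], rep 3 (aW 3)]) (rep 10 [7, 1]) [[0], [1], [2], [3], [4], [5], [6]] = true := by decide +kernel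

theorem checkTS : closes J3TTS.cert ([rep 5 [7, 1, 7, 1], rep 4 [7, 5, 1, 7, 1] ++ [1, 2], rep 3 (aW 0)]) [7, 2, 6, 5, 4] five = true := by decide +kernel

theorem checkTSi : closes J3TTSi.cert ([rep 5 [7, 1, 7, 1], rep 4 [7, 5, 1, 7, 1] ++ [2, 1], rep 3 (aW 0)]) [5, 5, 7, 1, 7, 1, 7, 1, 7, 1, 7, 1, 1, 1] [[0], [1], [2], [3], [4], [5], [6]] = true := by decide +kernel

theorem checkFS : closes J3TFS.cert ([rep 5 [7, 1, 7, 1], rep 4 [7, 5, 1, 7, 1] ++ [1, 2], rep 3 (aW 1)]) [5, 2, 7] five = true := by decide +kernel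

theorem checkFSi : closes J3TFSi.cert ([rep 5 [7, 1, 7, 1], rep 4 [7, 5, 1, 7, 1] ++ [2, 1], rep 3 (aW 1)]) [3, 0, 7, 1, 7, 1, 7, 1, 7, 1, 7, 1, 1, 2] [[0], [1], [2], [3], [4], [5], [6]] = true := by decide +kernel

theorem checkFJ : closes J3TFJ.cert ([rep 5 [7, 1, 7, 1], rep 4 [7, 5, 1, 7, 1] ++ [], rep 3 (aW 1)]) [1, 6, 5, 2, 7] five = true := by decide +kernel

end CfsgLib.Recog.J3T
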