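import Cfsg.Agent.Lib.Recog.JankoTwoType.Four
import Cfsg.Agent.Lib.Recog.JankoThree.Basic

/-!
Owner: helper29. Groups of the type of the third Janko group: four-groups and their centralizers.
-/

set_option autoImplicit false
set_option linter.all false

namespace CfsgLib.Recog.J3T

open Subgroup Cfsg CfsgLib.Recog
open CfsgLib.Recog.HJType (Local mem_cent ord_two inv_pair invol_conj eq_one_of_pow_odd_two eq_one_of_three exists_pow_two conj_pow_of_commute)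

variable {G : Type*} [Group G]

/-- A four-group of conjugates of `z`, with the attached structure. -/
structure Four (z : G) (Q : Subgroup G) (u : G) (Q' : Subgroup G) : Prop where
  hz : Hyp z Q
  hu : Hyp u Q'
  mem : u ∈ Q
  mem' : z ∈ Q'
  ne : u ≠ z

theorem Hyp.exists_four [Finite G] {z : G} {Q : Subgroup G} (h : Hyp z Q) {u : G} (hu : u ∈ Q)
    (hu2 : u * u = 1) (hu1 : u ≠ 1) (huz : u ≠ z) : ∃ Q' : Subgroup G, Four z Q u Q' := by
  obtain ⟨Q', hQ'⟩ := h.exists_at (ord_two hu2 hu1)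
  exact ⟨Q', h, hQ', hu, mem_symm h.loc hQ'.loc hu huz, huz⟩

namespace Four

variable [Finite G] {z u : G} {Q Q' : Subgroup G} (F : Four z Q u Q')
include F

theorem symm : Four u Q' z Q := ⟨F.hu, F.hz, F.mem', F.mem, F.ne.symm⟩

theorem uu : u * u = 1 := F.hu.loc.zz
theorem u_ne : u ≠ 1 := F.hu.loc.z_ne
theorem comm : z * u = u * z := (mem_cent.1 (F.hz.loc.le F.mem)).symm

theorem prod_ne : u * z ≠ 1 ∧ u * z ≠ z ∧ u * z ≠ u :=
  ⟨fun e => F.ne (by
      calc u = u * z * z⁻¹ := by group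
        _ = z := by rw [e, one_mul]; exact inv_eq_of_mul_eq_one_left F.hz.loc.zz),
    fun e => F.u_ne (mul_eq_right.1 e), fun e => F.hz.loc.z_ne (mul_eq_left.1 e)⟩

theorem prod_sq : u * z * (u * z) = 1 := by
  calc u * z * (u * z) = u * (z * u) * z := by group
    _ = (u * u) * (z * z) := by rw [F.comm]; group
    _ = 1 := by rw [F.uu, F.hz.loc.zz, one_mul]

theorem mem_inf {x : G} : x ∈ Q ⊓ Q' ↔ x = 1 ∨ x = z ∨ x = u ∨ x = u * z := by
  constructor
  · rintro ⟨hx, hx'⟩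
    have h1 : x * u = u * x := mem_cent.1 (F.hu.loc.le hx')
    have hxx : x * x = 1 := by
      have a := MinusThirtyTwo.center_cases F.hz.loc.extra F.hz.loc.zq_center F.hz.loc.zq_ne
        (CfsgLib.PGroups.ExtraspecialOut.mul_self_mem F.hz.loc.extra (⟨x, hx⟩ : Q))
      have b := MinusThirtyTwo.center_cases F.hu.loc.extra F.hu.loc.zq_center F.hu.loc.zq_ne
        (CfsgLib.PGroups.ExtraspecialOut.mul_self_mem F.hu.loc.extra (⟨x, hx'⟩ : Q'))
      rcases a with a | a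
      · exact congrArg Subtype.val a
      rcases b with b | b
      · exact congrArg Subtype.val b
      · exact absurd ((congrArg Subtype.val b : x * x = u).symm.trans (congrArg Subtype.val a : x * x = z)) F.ne
    rcases F.hz.loc.commuting_cases F.mem hx F.uu hxx h1.symm ⟨F.u_ne, F.ne⟩ with e | e | e | e
    · exact Or.inl e
    · exact Or.inr (Or.inl e)
    · exact Or.inr (Or.inr (Or.inl e))
    · exact Or.inr (Or.inr (Or.inr e))
  · rintro (rfl | rfl | rfl | rfl)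
    · exact one_mem _
    · exact ⟨F.hz.loc.z_mem, F.mem'⟩
    · exact ⟨F.mem, F.hu.loc.z_mem⟩
    · exact ⟨mul_mem F.mem F.hz.loc.z_mem, mul_mem F.hu.loc.z_mem F.mem'⟩

theorem card_inf : Nat.card ↥(Q ⊓ Q' : Subgroup G) = 4 := by
  classical
  have e : ((Q ⊓ Q' : Subgroup G) : Set G) = ({1, z, u, u * z} : Set G) := by
    ext x; simp only [SetLike.mem_coe, F.mem_inf, Set.mem_insert_iff, Set.mem_singleton_iff]
  obtain ⟨p1, p2, p3⟩ := F.prod_ne
  rw [← SetLike.coe_sort_coe, Nat.card_coe_set_eq, e,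
    Set.ncard_insert_of_notMem (by simp [F.hz.loc.z_ne.symm, F.u_ne.symm, p1.symm]),
    Set.ncard_insert_of_notMem (by simp [F.ne.symm, p2.symm]),
    Set.ncard_insert_of_notMem (by simp [p3.symm]), Set.ncard_singleton]

theorem inf_sq {x : G} (hx : x ∈ Q ⊓ Q') : x * x = 1 := by
  rcases F.mem_inf.1 hx with rfl | rfl | rfl | rfl
  exacts [one_mul 1, F.hz.loc.zz, F.uu, F.prod_sq]

theorem inf_conj {x : G} (hx : x ∈ Q ⊓ Q') (hx1 : x ≠ 1) : IsConj z x :=
  F.hz.one z x F.hz.loc.hz (ord_two (F.inf_sq hx) hx1)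

theorem le_cv : Q ⊓ Q' ≤ centralizer ({z} : Set G) ⊓ centralizer ({u} : Set G) := fun x hx =>
  ⟨F.hz.loc.le hx.1, F.hu.loc.le hx.2⟩

theorem central {x v : G} (hx : x ∈ centralizer ({z} : Set G) ⊓ centralizer ({u} : Set G))
    (hv : v ∈ Q ⊓ Q') : x * v = v * x := by
  have hz := mem_cent.1 hx.1
  have hu := mem_cent.1 hx.2
  rcases F.mem_inf.1 hv with rfl | rfl | rfl | rfl
  · simp
  · exact hz
  · exact hu
  · rw [← mul_assoc, hu, mul_assoc, hz, mul_assoc]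

theorem card_cv : Nat.card ↥(centralizer ({z} : Set G) ⊓ centralizer ({u} : Set G) : Subgroup G) = 192 :=
  F.hz.loc.card_inf_centralizer_inner F.mem F.uu ⟨F.u_ne, F.ne⟩

theorem left_le : Q ⊓ centralizer ({u} : Set G) ≤ centralizer ({z} : Set G) ⊓ centralizer ({u} : Set G) :=
  inf_le_inf_right _ F.hz.loc.le

theorem left_card : Nat.card ↥(Q ⊓ centralizer ({u} : Set G) : Subgroup G) = 16 :=
  (F.hz.loc.card_inf_inner F.mem F.u_ne F.ne).1

theorem left_normal {c : G} (hc : c ∈ centralizer ({z} : Set G) ⊓ centralizer ({u} : Set G))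
    {a : G} (ha : a ∈ Q ⊓ centralizer ({u} : Set G)) : c * a * c⁻¹ ∈ Q ⊓ centralizer ({u} : Set G) :=
  ⟨F.hz.loc.conj_mem c hc.1 a ha.1, mul_mem (mul_mem hc.2 ha.2) (Subgroup.inv_mem _ hc.2)⟩

theorem left_inf : (Q ⊓ centralizer ({u} : Set G)) ⊓ (Q' ⊓ centralizer ({z} : Set G)) = Q ⊓ Q' :=
  le_antisymm (fun x hx => ⟨hx.1.1, hx.2.1⟩) fun x hx => ⟨⟨hx.1, F.hu.loc.le hx.2⟩, hx.2, F.hz.loc.le hx.1⟩

theorem left_not_elementary : ∃ a ∈ Q ⊓ centralizer ({u} : Set G), a * a ≠ 1 := by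
  classical
  by_contra hcon
  push Not at hcon
  have hsub : ((Q ⊓ centralizer ({u} : Set G) : Subgroup G) : Set G) ⊆ ((Q ⊓ Q' : Subgroup G) : Set G) := by
    intro x hx
    refine F.mem_inf.2 ?_
    rcases F.hz.loc.commuting_cases F.mem hx.1 F.uu (hcon x hx) (mem_cent.1 hx.2).symm ⟨F.u_ne, F.ne⟩ with e | e | e | e
    exacts [Or.inl e, Or.inr (Or.inl e), Or.inr (Or.inr (Or.inl e)), Or.inr (Or.inr (Or.inr e))]
  have := card_le_of_le (SetLike.coe_subset_coe.1 hsub)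
  rw [F.left_card, F.card_inf] at this
  omega

/-- The normal Sylow 2-subgroup of the centralizer of the four-group. -/
theorem exists_top : ∃ T : Subgroup G,
    T ≤ centralizer ({z} : Set G) ⊓ centralizer ({u} : Set G) ∧ Nat.card T = 64 ∧ IsPGroup 2 T ∧
    Q ⊓ centralizer ({u} : Set G) ≤ T ∧ Q' ⊓ centralizer ({z} : Set G) ≤ T ∧
    (∀ c ∈ centralizer ({z} : Set G) ⊓ centralizer ({u} : Set G), ∀ x ∈ T, c * x * c⁻¹ ∈ T) ∧
    (∀ x ∈ centralizer ({z} : Set G) ⊓ centralizer ({u} : Set G), ∀ m : ℕ, x ^ 2 ^ m = 1 → x ∈ T) ∧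
    (∀ x ∈ T, ∃ a ∈ Q ⊓ centralizer ({u} : Set G), ∃ b ∈ Q' ⊓ centralizer ({z} : Set G), x = a * b) ∧
    (∀ x ∈ T, ∀ y ∈ T, x * y * x⁻¹ * y⁻¹ ∈ Q ⊓ Q') := by
  classical
  set K := centralizer ({z} : Set G) ⊓ centralizer ({u} : Set G) with hK
  set A := Q ⊓ centralizer ({u} : Set G) with hA
  set B := Q' ⊓ centralizer ({z} : Set G) with hB
  have hAK : A ≤ K := F.left_le
  have hBK : B ≤ K := fun x hx => ⟨hx.2, F.hu.loc.le hx.1⟩
  have hBn : ∀ c ∈ K, ∀ b ∈ B, c * b * c⁻¹ ∈ B := fun c hc b hb =>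
    F.symm.left_normal (c := c) ⟨hc.2, hc.1⟩ hb
  have hAB : ∀ a ∈ A, ∀ b ∈ B, a * b * a⁻¹ * b⁻¹ ∈ Q ⊓ Q' := by
    intro a ha b hb
    rw [← F.left_inf]
    refine ⟨?_, mul_mem (hBn a (hAK ha) b hb) (Subgroup.inv_mem _ hb)⟩
    rw [show a * b * a⁻¹ * b⁻¹ = a * (b * a⁻¹ * b⁻¹) by group]
    exact mul_mem ha (F.left_normal (hBK hb) (Subgroup.inv_mem _ ha))
  -- the product
  let T : Subgroup G :=
    { carrier := {x | ∃ a ∈ A, ∃ b ∈ B, x = a * b}
      one_mem' := ⟨1, one_mem _, 1, one_mem _, (one_mul 1).symm⟩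
      mul_mem' := by
        rintro _ _ ⟨a, ha, b, hb, rfl⟩ ⟨a', ha', b', hb', rfl⟩
        refine ⟨a * (b * a' * b⁻¹), mul_mem ha (F.left_normal (hBK hb) ha'), b * b', mul_mem hb hb', by group⟩
      inv_mem' := by
        rintro _ ⟨a, ha, b, hb, rfl⟩
        refine ⟨b⁻¹ * a⁻¹ * b, ?_, b⁻¹, Subgroup.inv_mem _ hb, by group⟩
        have := F.left_normal (Subgroup.inv_mem _ (hBK hb)) (Subgroup.inv_mem _ ha)
        rwa [inv_inv] at this }
  have hTK : T ≤ K := by rintro _ ⟨a, ha, b, hb, rfl⟩; exact mul_mem (hAK ha) (hBK hb)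
  have hAT : A ≤ T := fun a ha => ⟨a, ha, 1, one_mem _, (mul_one a).symm⟩
  have hBT : B ≤ T := fun b hb => ⟨1, one_mem _, b, hb, (one_mul b).symm⟩
  have hT64 : Nat.card T = 64 := by
    let φ : A × B → T := fun p => ⟨p.1 * p.2, p.1, p.1.2, p.2, p.2.2, rfl⟩
    have hfib : ∀ x : T, Nat.card {p : A × B // φ p = x} = 4 := by
      rintro ⟨_, a, ha, b, hb, rfl⟩
      rw [← F.card_inf]
      refine Nat.card_congr
        { toFun := fun p => ⟨a⁻¹ * p.1.1, ?_⟩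
          invFun := fun v => ⟨(⟨a * v, mul_mem ha ⟨v.2.1, F.hu.loc.le v.2.2⟩⟩,
            ⟨(v : G)⁻¹ * b, mul_mem (Subgroup.inv_mem _ ⟨v.2.2, F.hz.loc.le v.2.1⟩) hb⟩),
            Subtype.ext (by simp [φ, mul_assoc])⟩
          left_inv := ?_
          right_inv := fun v => Subtype.ext (by simp) }
      · have e : (p.1.1 : G) * p.1.2 = a * b := congrArg Subtype.val p.2
        rw [← F.left_inf]
        refine ⟨mul_mem (Subgroup.inv_mem _ ha) p.1.1.2, ?_⟩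
        rw [show a⁻¹ * (p.1.1 : G) = b * (p.1.2 : G)⁻¹ by
          calc a⁻¹ * (p.1.1 : G) = a⁻¹ * ((p.1.1 : G) * p.1.2) * (p.1.2 : G)⁻¹ := by group
            _ = b * (p.1.2 : G)⁻¹ := by rw [e]; group]
        exact mul_mem hb (Subgroup.inv_mem _ p.1.2.2)
      · rintro ⟨⟨x, y⟩, hp⟩
        have e : (x : G) * y = a * b := congrArg Subtype.val hp
        refine Subtype.ext (Prod.ext (Subtype.ext (by simp)) (Subtype.ext ?_))
        show (a⁻¹ * (x : G))⁻¹ * b = y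
        calc (a⁻¹ * (x : G))⁻¹ * b = (x : G)⁻¹ * (a * b) := by group
          _ = y := by rw [← e]; group
    have h1 := Nat.card_congr (Equiv.sigmaFiberEquiv φ)
    haveI := Fintype.ofFinite T
    rw [Nat.card_sigma, Finset.sum_const_nat (m := 4) fun x _ => hfib x, Finset.card_univ,
      ← Nat.card_eq_fintype_card, Nat.card_prod, F.left_card, F.symm.left_card] at h1
    omega
  have hT2 : IsPGroup 2 T := IsPGroup.of_card (n := 6) (by rw [hT64]; norm_num)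
  have hnorm : ∀ c ∈ K, ∀ x ∈ T, c * x * c⁻¹ ∈ T := by
    rintro c hc _ ⟨a, ha, b, hb, rfl⟩
    exact ⟨_, F.left_normal hc ha, _, hBn c hc b hb, by group⟩
  refine ⟨T, hTK, hT64, hT2, hAT, hBT, hnorm, ?_, fun x hx => hx, ?_⟩
  · intro x hx m hm
    haveI : (T.subgroupOf K).Normal :=
      ⟨fun t ht c => mem_subgroupOf.2 (hnorm c c.2 t (mem_subgroupOf.1 ht))⟩
    have hidx : (T.subgroupOf K).index = 3 := by
      have := (T.subgroupOf K).card_mul_index
      rw [Nat.card_congr (subgroupOfEquivOfLe hTK).toEquiv, hT64,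
        show Nat.card ↥K = 192 from F.card_cv] at this
      omega
    have h3 := pow_card_eq_one' (x := QuotientGroup.mk' (T.subgroupOf K) ⟨x, hx⟩)
    rw [← index_eq_card, hidx] at h3
    have h2 : (QuotientGroup.mk' (T.subgroupOf K) ⟨x, hx⟩) ^ 2 ^ m = 1 := by
      rw [← map_pow, show (⟨x, hx⟩ : K) ^ 2 ^ m = 1 from Subtype.ext hm, map_one]
    have := eq_one_of_pow_odd_two h2 (by decide) h3
    exact mem_subgroupOf.1 ((QuotientGroup.eq_one_iff _).1 this)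
  · -- commutators
    have hAA : ∀ a ∈ A, ∀ a' ∈ A, a * a' * a⁻¹ * a'⁻¹ ∈ Q ⊓ Q' := by
      intro a ha a' ha'
      have hm := CfsgLib.PGroups.IsExtraspecial.comm_mem F.hz.loc.extra (⟨a, ha.1⟩ : Q) ⟨a', ha'.1⟩
      rcases MinusThirtyTwo.center_cases F.hz.loc.extra F.hz.loc.zq_center F.hz.loc.zq_ne hm with e | e <;>
        have e' := congrArg Subtype.val e <;>
        simp [commutatorElement_def] at e' <;> rw [e']
      exacts [one_mem _, ⟨F.hz.loc.z_mem, F.mem'⟩]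
    have hBB : ∀ a ∈ B, ∀ a' ∈ B, a * a' * a⁻¹ * a'⁻¹ ∈ Q ⊓ Q' := by
      intro a ha a' ha'
      have hm := CfsgLib.PGroups.IsExtraspecial.comm_mem F.hu.loc.extra (⟨a, ha.1⟩ : Q') ⟨a', ha'.1⟩
      rcases MinusThirtyTwo.center_cases F.hu.loc.extra F.hu.loc.zq_center F.hu.loc.zq_ne hm with e | e <;>
        have e' := congrArg Subtype.val e <;>
        simp [commutatorElement_def] at e' <;> rw [e']
      exacts [one_mem _, ⟨F.mem, F.hu.loc.z_mem⟩]
    haveI hVn : ((Q ⊓ Q').subgroupOf T).Normal := ⟨fun v hv x => by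
      rw [mem_subgroupOf] at hv ⊢
      show (x : G) * v * (x : G)⁻¹ ∈ Q ⊓ Q'
      rw [F.central (hTK x.2) hv, mul_inv_cancel_right]
      exact hv⟩
    intro x hx y hy
    let π := QuotientGroup.mk' ((Q ⊓ Q').subgroupOf T)
    have key : ∀ a b : T, (a : G) * b * (a : G)⁻¹ * (b : G)⁻¹ ∈ Q ⊓ Q' → Commute (π a) (π b) := by
      intro a b hm
      have : π (a * b * a⁻¹ * b⁻¹) = 1 := (QuotientGroup.eq_one_iff _).2 (mem_subgroupOf.2 (by simpa using hm))
      rw [map_mul, map_mul, map_mul, map_inv, map_inv, mul_inv_eq_one, mul_inv_eq_iff_eq_mul] at this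
      exact this
    obtain ⟨a, ha, b, hb, rfl⟩ := hx
    obtain ⟨a', ha', b', hb', rfl⟩ := hy
    have c1 := key ⟨a, hAT ha⟩ ⟨a', hAT ha'⟩ (hAA a ha a' ha')
    have c2 := key ⟨a, hAT ha⟩ ⟨b', hBT hb'⟩ (hAB a ha b' hb')
    have c3 := (key ⟨a', hAT ha'⟩ ⟨b, hBT hb⟩ (hAB a' ha' b hb)).symm
    have c4 := key ⟨b, hBT hb⟩ ⟨b', hBT hb'⟩ (hBB b hb b' hb')
    have hc : π ((⟨a, hAT ha⟩ * ⟨b, hBT hb⟩) * (⟨a', hAT ha'⟩ * ⟨b', hBT hb'⟩) *
        ((⟨a, hAT ha⟩ : T) * ⟨b, hBT hb⟩)⁻¹ * ((⟨a', hAT ha'⟩ : T) * ⟨b', hBT hb'⟩)⁻¹) = 1 := by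
      simp only [map_mul, map_inv]
      rw [mul_inv_eq_one, mul_inv_eq_iff_eq_mul]
      exact ((c1.mul_left c3).mul_right (c2.mul_left c4)).eq
    have := mem_subgroupOf.1 ((QuotientGroup.eq_one_iff _).1 hc)
    simpa using this

theorem exists_three : ∃ σ : G,
    σ ∈ centralizer ({z} : Set G) ⊓ centralizer ({u} : Set G) ∧ σ ^ 3 = 1 ∧ σ ≠ 1 := by
  haveI : Fact (Nat.Prime 3) := ⟨by norm_num⟩
  obtain ⟨⟨x, hx⟩, ho⟩ := exists_prime_orderOf_dvd_card'
    (G := ↥(centralizer ({z} : Set G) ⊓ centralizer ({u} : Set G) : Subgroup G)) 3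
    (by rw [F.card_cv]; norm_num)
  rw [Subgroup.orderOf_mk] at ho
  refine ⟨x, hx, by rw [← ho]; exact pow_orderOf_eq_one x, fun e => ?_⟩
  rw [e, orderOf_one] at ho
  omega

/-- An element of order three of the centralizer fixes only the four-group in its Sylow 2-subgroup. -/
theorem fpf {T : Subgroup G} (hTK : T ≤ centralizer ({z} : Set G) ⊓ centralizer ({u} : Set G))
    (hTdec : ∀ x ∈ T, ∃ a ∈ Q ⊓ centralizer ({u} : Set G), ∃ b ∈ Q' ⊓ centralizer ({z} : Set G), x = a * b)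
    {σ : G} (hσ : σ ∈ centralizer ({z} : Set G) ⊓ centralizer ({u} : Set G)) (hσ3 : σ ^ 3 = 1)
    (hσ1 : σ ≠ 1) {x v : G} (hx : x ∈ T) (hv : v ∈ Q ⊓ Q') (hxv : σ * x * σ⁻¹ = v * x) :
    x ∈ Q ⊓ Q' := by
  classical
  -- the left factor
  have left : ∀ {z u : G} {Q Q' : Subgroup G}, Four z Q u Q' →
      σ ∈ centralizer ({z} : Set G) ⊓ centralizer ({u} : Set G) →
      ∀ a ∈ Q ⊓ centralizer ({u} : Set G), σ * a * σ⁻¹ = a → a ∈ Q ⊓ Q' := by
    intro z u Q Q' F hσ a ha hfix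
    by_contra hav
    set A := Q ⊓ centralizer ({u} : Set G) with hA
    set H := A ⊓ centralizer ({σ} : Set G) with hH
    have hVH : Q ⊓ Q' ≤ H := fun w hw => ⟨⟨hw.1, F.hu.loc.le hw.2⟩,
      mem_cent.2 (F.central hσ hw).symm⟩
    have haH : a ∈ H := ⟨ha, mem_cent.2 (mul_inv_eq_iff_eq_mul.1 hfix).symm⟩
    have h8 : 8 ≤ Nat.card H := by
      have hlt : Q ⊓ Q' < H := lt_of_le_of_ne hVH fun e => hav (e ▸ haH)
      have hdvd := card_dvd_of_le hVH
      rw [F.card_inf] at hdvd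
      have : Nat.card ↥(Q ⊓ Q' : Subgroup G) < Nat.card H := by
        by_contra hc
        exact hlt.ne (eq_of_le_of_card_ge hVH (not_lt.1 hc))
      rw [F.card_inf] at this
      omega
    -- `σ` centralizes an index two subgroup, hence all
    have step : ∀ (S M : Subgroup G), M ≤ S → (∀ m ∈ M, σ * m * σ⁻¹ = m) →
        (∀ x ∈ S, σ * x * σ⁻¹ ∈ S) → IsPGroup 2 S → Nat.card S ≤ 2 * Nat.card M →
        ∀ x ∈ S, σ * x * σ⁻¹ = x := by
      intro S M hMS hM hinv hS hcard x hx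
      by_cases hxM : x ∈ M
      · exact hM x hxM
      haveI : Fact (Nat.Prime 2) := ⟨Nat.prime_two⟩
      have hi : (M.subgroupOf S).index ≤ 2 := by
        have := (M.subgroupOf S).card_mul_index
        rw [Nat.card_congr (subgroupOfEquivOfLe hMS).toEquiv] at this
        have : 0 < Nat.card M := Nat.card_pos
        nlinarith
      have hi1 : (M.subgroupOf S).index ≠ 1 := fun e => hxM
        ((index_eq_one.1 e).symm ▸ mem_top (⟨x, hx⟩ : S) : (⟨x, hx⟩ : S) ∈ M.subgroupOf S)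
      have hi0 : (M.subgroupOf S).index ≠ 0 := index_ne_zero_of_finite
      have hi2 : (M.subgroupOf S).index = 2 := by omega
      have hk : σ * x * σ⁻¹ * x⁻¹ ∈ M := by
        have hσx : σ * x * σ⁻¹ ∉ M := fun e => hxM (by
          have e2 := hM _ e
          have : σ * x * σ⁻¹ = x := by
            calc σ * x * σ⁻¹ = σ⁻¹ * (σ * (σ * x * σ⁻¹) * σ⁻¹) * σ := by group
              _ = x := by rw [e2]; group
          rwa [this] at e)
        have := (mul_mem_iff_of_index_two hi2 (a := (⟨_, hinv x hx⟩ : S)) (b := (⟨x, hx⟩ : S)⁻¹)).2 ?_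
        · exact mem_subgroupOf.1 this
        · rw [inv_mem_iff, mem_subgroupOf, mem_subgroupOf]
          exact iff_of_false hσx hxM
      obtain ⟨m, hm⟩ := exists_pow_two hS (hMS hk)
      have hc : σ * (σ * x * σ⁻¹ * x⁻¹) = σ * x * σ⁻¹ * x⁻¹ * σ := mul_inv_eq_iff_eq_mul.1 (hM _ hk)
      have := eq_one_of_three hσ3 hc (x := x) (by group) hm
      exact mul_inv_eq_one.1 this
    have hQ2 : IsPGroup 2 Q := IsPGroup.of_card (n := 5) (by rw [F.hz.loc.card]; norm_num)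
    have hAfix := step A H inf_le_left (fun m hm => mul_inv_eq_iff_eq_mul.2 (mem_cent.1 hm.2).symm)
      (fun x hx => F.left_normal hσ hx) (hQ2.to_le inf_le_left) (by rw [F.left_card]; omega)
    have hQfix := step Q A inf_le_left hAfix (fun x hx => F.hz.loc.conj_mem σ hσ.1 x hx) hQ2
      (by rw [F.left_card, F.hz.loc.card])
    rcases F.hz.loc.self_cases hσ.1 (fun q hq => mul_inv_eq_iff_eq_mul.1 (hQfix q hq)) with e | e
    · exact hσ1 e
    · exact hσ1 (eq_one_of_pow_odd_two (k := 1) (by rw [e, pow_one, sq, F.hz.loc.zz]) (by decide) hσ3)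
  have hvc := F.central hσ hv
  have hv2 : v ^ 2 ^ 1 = 1 := by rw [pow_one, sq]; exact F.inf_sq hv
  have hv1 := eq_one_of_three hσ3 hvc hxv hv2
  rw [hv1, one_mul] at hxv
  obtain ⟨a, ha, b, hb, rfl⟩ := hTdec x hx
  set k := σ * a * σ⁻¹ * a⁻¹ with hk
  have hkm : k ∈ Q ⊓ Q' := by
    rw [← F.left_inf]
    refine ⟨mul_mem (F.left_normal hσ ha) (Subgroup.inv_mem _ ha), ?_⟩
    have e : a⁻¹ * (σ * a * σ⁻¹) = b * (σ * b * σ⁻¹)⁻¹ := by
      calc a⁻¹ * (σ * a * σ⁻¹) = a⁻¹ * (σ * (a * b) * σ⁻¹) * (σ * b * σ⁻¹)⁻¹ := by group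
        _ = _ := by rw [hxv]; group
    have hm : a⁻¹ * (σ * a * σ⁻¹) ∈ Q' ⊓ centralizer ({z} : Set G) := by
      rw [e]; exact mul_mem hb (Subgroup.inv_mem _ (F.symm.left_normal ⟨hσ.2, hσ.1⟩ hb))
    have := F.symm.left_normal (c := a) ⟨ha.2, F.hz.loc.le ha.1⟩ hm
    rwa [show a * (a⁻¹ * (σ * a * σ⁻¹)) * a⁻¹ = k by rw [hk]; group] at this
  have hk2 : k ^ 2 ^ 1 = 1 := by rw [pow_one, sq]; exact F.inf_sq hkm
  have hk1 := eq_one_of_three hσ3 (F.central hσ hkm) (x := a) (by rw [hk]; group) hk2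
  have haf : σ * a * σ⁻¹ = a := mul_inv_eq_one.1 hk1
  have hbf : σ * b * σ⁻¹ = b := by
    calc σ * b * σ⁻¹ = (σ * a * σ⁻¹)⁻¹ * (σ * (a * b) * σ⁻¹) := by group
      _ = b := by rw [hxv, haf]; group
  refine mul_mem (left F hσ a ha haf) ?_
  have := left F.symm ⟨hσ.2, hσ.1⟩ b hb hbf
  exact ⟨this.2, this.1⟩

/-- For an outer involution centralizing `u`, the centralizer in `C` is elementary abelian of
order 16. -/
theorem outer_data {t : G} (ht2 : t * t = 1) (htC : t ∈ centralizer ({z} : Set G)) (htQ : t ∉ Q)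
    (htu : t * u = u * t) {σ : G}
    (hσ : σ ∈ centralizer ({z} : Set G) ⊓ centralizer ({u} : Set G)) (hσ3 : σ ^ 3 = 1) (hσ1 : σ ≠ 1) :
    let W := centralizer ({z} : Set G) ⊓ centralizer ({t} : Set G)
    W ≤ centralizer ({u} : Set G) ∧ (∀ x ∈ W, x * x = 1) ∧ W ⊓ Q = Q ⊓ Q' ∧
    (∀ x ∈ W, σ * x * σ⁻¹ ∈ W) ∧ σ * t * σ⁻¹ * t⁻¹ ∉ Q ⊓ Q' ∧ σ ^ 2 * t * (σ ^ 2)⁻¹ * t⁻¹ ∉ Q ⊓ Q' ∧
    (∀ x ∈ W, x ∈ Q ⊓ Q' ∨ x * t⁻¹ ∈ Q ⊓ Q' ∨ x * (σ * t * σ⁻¹)⁻¹ ∈ Q ⊓ Q' ∨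
      x * (σ ^ 2 * t * (σ ^ 2)⁻¹)⁻¹ ∈ Q ⊓ Q') := by
  classical
  intro W
  obtain ⟨T, hTK, hT64, hT2, hAT, hBT, hnorm, hmemT, hdec, hcomm⟩ := F.exists_top
  have hV : ∀ v ∈ Q ⊓ Q', v ∈ T := fun v hv => hAT ⟨hv.1, F.hu.loc.le hv.2⟩
  have ht : t ∈ T := hmemT t ⟨htC, mem_cent.2 htu⟩ 1 (by rw [pow_one, sq, ht2])
  have hW16 : Nat.card W = 16 := F.hz.loc.card_inf_centralizer_outer ht2 htC htQ
  have hCt : (T ⊓ centralizer ({t} : Set G)) ≤ W := fun x hx => ⟨(hTK hx.1).1, hx.2⟩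
  have hge : 16 ≤ Nat.card ↥(T ⊓ centralizer ({t} : Set G) : Subgroup G) := by
    set K := (centralizer ({t} : Set G)).subgroupOf T with hK
    have hi : K.index ≤ 4 := by
      rw [index_eq_card, ← F.card_inf]
      let f : T ⧸ K → ↥(Q ⊓ Q' : Subgroup G) := Quotient.lift
        (fun x => ⟨(x : G) * t * (x : G)⁻¹ * t⁻¹, hcomm x x.2 t ht⟩) (fun a b hab => by
        have hc : ((a⁻¹ * b : T) : G) * t = t * ((a⁻¹ * b : T) : G) :=
          mem_cent.1 (mem_subgroupOf.1 (QuotientGroup.leftRel_apply.1 hab))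
        simp only [Subgroup.coe_mul, InvMemClass.coe_inv] at hc
        refine Subtype.ext ?_
        show (a : G) * t * (a : G)⁻¹ * t⁻¹ = b * t * (b : G)⁻¹ * t⁻¹
        congr 1
        calc (a : G) * t * (a : G)⁻¹ = a * (t * ((a : G)⁻¹ * b)) * (b : G)⁻¹ := by group
          _ = a * ((a : G)⁻¹ * b * t) * (b : G)⁻¹ := by rw [← hc]
          _ = _ := by group)
      refine Nat.card_le_card_of_injective f ?_
      rintro ⟨a⟩ ⟨b⟩ hab
      refine QuotientGroup.eq.2 (mem_subgroupOf.2 (mem_cent.2 ?_))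
      have e : (a : G) * t * (a : G)⁻¹ = b * t * (b : G)⁻¹ :=
        mul_right_cancel (congrArg Subtype.val hab)
      show (a : G)⁻¹ * b * t = t * ((a : G)⁻¹ * b)
      calc (a : G)⁻¹ * b * t = (a : G)⁻¹ * (b * t * (b : G)⁻¹) * b := by group
        _ = _ := by rw [← e]; group
    have hc := K.card_mul_index
    rw [hT64] at hc
    have e : Nat.card K = Nat.card ↥(T ⊓ centralizer ({t} : Set G) : Subgroup G) := by
      rw [hK, ← inf_subgroupOf_left, Nat.card_congr (subgroupOfEquivOfLe inf_le_left).toEquiv]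
    rw [← e]
    nlinarith
  have hWeq : T ⊓ centralizer ({t} : Set G) = W := eq_of_le_of_card_ge hCt (by rw [hW16]; exact hge)
  have hWT : W ≤ T := fun x hx => (hWeq.ge hx).1
  have hWu : W ≤ centralizer ({u} : Set G) := fun x hx => (hTK (hWT hx)).2
  have hVW : Q ⊓ Q' ≤ W := fun v hv =>
    ⟨F.hz.loc.le hv.1, mem_cent.2 (F.central ⟨htC, mem_cent.2 htu⟩ hv).symm⟩
  have hWQ : W ⊓ Q = Q ⊓ Q' := by
    refine (eq_of_le_of_card_ge (le_inf hVW inf_le_left) ?_).symm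
    rw [F.card_inf, ← F.hz.loc.card_inf_outer ht2 htC htQ]
    exact card_le_of_le fun x hx => ⟨hx.2, hx.1.2⟩
  set s := σ * t * σ⁻¹ with hs
  set r := σ ^ 2 * t * (σ ^ 2)⁻¹ with hr
  have hrs : r = σ * s * σ⁻¹ := by rw [hr, hs, sq]; group
  have hsT : s ∈ T := hnorm σ hσ t ht
  have hrT : r ∈ T := hrs ▸ hnorm σ hσ s hsT
  have htV : t ∉ Q ⊓ Q' := fun e => htQ e.1
  have hst : s * t⁻¹ ∉ Q ⊓ Q' := fun e => htV (F.fpf hTK hdec hσ hσ3 hσ1 ht e (by rw [hs]; group))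
  haveI : ((Q ⊓ Q').subgroupOf T).Normal := ⟨fun v hv x => by
    rw [mem_subgroupOf] at hv ⊢
    show (x : G) * v * (x : G)⁻¹ ∈ Q ⊓ Q'
    rw [F.central (hTK x.2) hv, mul_inv_cancel_right]
    exact hv⟩
  let π := QuotientGroup.mk' ((Q ⊓ Q').subgroupOf T)
  have hπ : ∀ a b : T, π a = π b ↔ (a : G) * (b : G)⁻¹ ∈ Q ⊓ Q' := fun a b => by
    rw [← mul_inv_eq_one, ← map_inv, ← map_mul]
    exact (QuotientGroup.eq_one_iff _).trans mem_subgroupOf
  have hπc : ∀ a b : T, π a * π b = π b * π a := fun a b => by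
    rw [← map_mul, ← map_mul, hπ]
    simpa [mul_assoc] using hcomm a a.2 b b.2
  -- the product of the orbit lies in the four-group
  have hy : t * s * r ∈ Q ⊓ Q' := by
    have hyT : t * s * r ∈ T := mul_mem (mul_mem ht hsT) hrT
    have hσy : σ * (t * s * r) * σ⁻¹ = s * r * t := by
      rw [hrs, hs]
      calc σ * (t * (σ * t * σ⁻¹) * (σ * (σ * t * σ⁻¹) * σ⁻¹)) * σ⁻¹
          = σ * t * σ⁻¹ * (σ * (σ * t * σ⁻¹) * σ⁻¹) * (σ ^ 3 * t * (σ ^ 3)⁻¹) := by group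
        _ = _ := by rw [hσ3, one_mul, inv_one, mul_one]
    refine F.fpf hTK hdec hσ hσ3 hσ1 hyT (v := s * r * t * (t * s * r)⁻¹) ?_ (by rw [hσy]; group)
    have : π (⟨s, hsT⟩ * ⟨r, hrT⟩ * ⟨t, ht⟩) = π (⟨t, ht⟩ * ⟨s, hsT⟩ * ⟨r, hrT⟩) := by
      rw [map_mul, map_mul, map_mul, map_mul, mul_assoc, hπc ⟨r, hrT⟩ ⟨t, ht⟩, ← mul_assoc,
        hπc ⟨s, hsT⟩ ⟨t, ht⟩]
    simpa using (hπ _ _).1 this
  have hr2 : r * r = 1 := by
    rw [hr, show σ ^ 2 * t * (σ ^ 2)⁻¹ * (σ ^ 2 * t * (σ ^ 2)⁻¹) = σ ^ 2 * (t * t) * (σ ^ 2)⁻¹ by group,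
      ht2, mul_one, mul_inv_cancel]
  have hs2 : s * s = 1 := invol_conj σ ht2
  set y := t * s * r with hydef
  have hts : t * s = y * r := by rw [hydef, mul_assoc (t * s), hr2, mul_one]
  have hyr : y * r = r * y := (F.central (hTK hrT) hy).symm
  have hts2 : t * s * (t * s) = 1 := by
    rw [hts]
    calc y * r * (y * r) = y * (r * y) * r := by group
      _ = (y * y) * (r * r) := by rw [← hyr]; group
      _ = 1 := by rw [F.inf_sq hy, hr2, one_mul]
  have hcts : t * s = s * t := by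
    calc t * s = (t * s)⁻¹ := eq_inv_of_mul_eq_one_left hts2
      _ = s * t := by rw [mul_inv_rev, inv_eq_of_mul_eq_one_left ht2, inv_eq_of_mul_eq_one_left hs2]
  have hsW : s ∈ W := ⟨(hTK hsT).1, mem_cent.2 hcts.symm⟩
  have hrW : r ∈ W := by
    have e : r = y⁻¹ * (t * s) := by rw [hts]; group
    rw [e]
    exact mul_mem (Subgroup.inv_mem _ (hVW hy)) (mul_mem ⟨htC, mem_cent.2 rfl⟩ hsW)
  have hrt : r * t⁻¹ ∉ Q ⊓ Q' := fun e => by
    have h1 : σ * (r * t⁻¹) * σ⁻¹ ∈ Q ⊓ Q' := by rw [F.central hσ e, mul_inv_cancel_right]; exact e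
    have h2 : σ * r * σ⁻¹ = t := by
      rw [hr]
      calc σ * (σ ^ 2 * t * (σ ^ 2)⁻¹) * σ⁻¹ = σ ^ 3 * t * (σ ^ 3)⁻¹ := by group
        _ = t := by rw [hσ3, one_mul, inv_one, mul_one]
    apply hst
    rw [show σ * (r * t⁻¹) * σ⁻¹ = (σ * r * σ⁻¹) * s⁻¹ by rw [hs]; group, h2] at h1
    simpa using Subgroup.inv_mem _ h1
  have htW : t ∈ W := ⟨htC, mem_cent.2 rfl⟩
  have hrsne : r * s⁻¹ ∉ Q ⊓ Q' := fun e => by
    have : σ⁻¹ * (r * s⁻¹) * σ ∈ Q ⊓ Q' := by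
      have := F.central (Subgroup.inv_mem _ hσ) e
      rw [this]; simpa using e
    exact hst (by rwa [show σ⁻¹ * (r * s⁻¹) * σ = s * t⁻¹ by rw [hrs, hs]; group] at this)
  have hnt : ∀ x : G, x ∈ ({1, t, s, r} : Finset G) → x ∈ W := by
    intro x hx
    simp only [Finset.mem_insert, Finset.mem_singleton] at hx
    rcases hx with rfl | rfl | rfl | rfl
    exacts [one_mem _, htW, hsW, hrW]
  have hsV : s ∉ Q ⊓ Q' := fun e => by
    have := F.central (Subgroup.inv_mem _ hσ) e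
    apply htV
    rw [show t = σ⁻¹ * s * σ⁻¹⁻¹ by rw [hs]; group, this, mul_inv_cancel_right]
    exact e
  have hrV : r ∉ Q ⊓ Q' := fun e => by
    have := F.central (Subgroup.inv_mem _ hσ) e
    apply hsV
    rw [show s = σ⁻¹ * r * σ⁻¹⁻¹ by rw [hrs]; group, this, mul_inv_cancel_right]
    exact e
  let f : ↥(Q ⊓ Q' : Subgroup G) × ↥({1, t, s, r} : Finset G) → W := fun p =>
    ⟨p.1 * p.2, mul_mem (hVW p.1.2) (hnt _ p.2.2)⟩
  have hinj : Function.Injective f := by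
    rintro ⟨⟨v, hv⟩, ⟨x, hx⟩⟩ ⟨⟨w, hw⟩, ⟨y', hy'⟩⟩ e
    have e' : v * x = w * y' := congrArg Subtype.val e
    have hxy : x * y'⁻¹ ∈ Q ⊓ Q' := by
      rw [show x * y'⁻¹ = v⁻¹ * (v * x) * y'⁻¹ by group, e']
      simpa [mul_assoc] using mul_mem (Subgroup.inv_mem _ hv) hw
    have key : x = y' := by
      by_contra hne
      simp only [Finset.mem_insert, Finset.mem_singleton] at hx hy'
      rcases hx with rfl | rfl | rfl | rfl <;> rcases hy' with rfl | rfl | rfl | rfl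
      all_goals first
        | exact hne rfl
        | exact htV (by simpa using hxy)
        | exact hsV (by simpa using hxy)
        | exact hrV (by simpa using hxy)
        | exact hst hxy
        | exact hrt hxy
        | exact hrsne hxy
        | exact hst (by simpa using Subgroup.inv_mem _ hxy)
        | exact hrt (by simpa using Subgroup.inv_mem _ hxy)
        | exact hrsne (by simpa using Subgroup.inv_mem _ hxy)
    subst key
    obtain rfl : v = w := mul_right_cancel e'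
    rfl
  have hcardF : Nat.card ↥({1, t, s, r} : Finset G) = 4 := by
    have n1 : (1 : G) ≠ t := fun e => htV (by rw [← e]; exact one_mem _)
    have n2 : (1 : G) ≠ s := fun e => hsV (by rw [← e]; exact one_mem _)
    have n3 : (1 : G) ≠ r := fun e => hrV (by rw [← e]; exact one_mem _)
    have n4 : t ≠ s := fun e => hst (by rw [e, mul_inv_cancel]; exact one_mem _)
    have n5 : t ≠ r := fun e => hrt (by rw [e, mul_inv_cancel]; exact one_mem _)
    have n6 : s ≠ r := fun e => hrsne (by rw [e, mul_inv_cancel]; exact one_mem _)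
    rw [Nat.card_eq_fintype_card, Fintype.card_coe, Finset.card_insert_of_notMem (by simp [n1, n2, n3]),
      Finset.card_insert_of_notMem (by simp [n4, n5]), Finset.card_insert_of_notMem (by simp [n6]),
      Finset.card_singleton]
  have hbij : Function.Bijective f := (Nat.bijective_iff_injective_and_card _).2 ⟨hinj, by
    rw [Nat.card_prod, F.card_inf, hcardF, hW16]⟩
  have hsq : ∀ x ∈ W, x * x = 1 := by
    intro x hx
    obtain ⟨⟨⟨v, hv⟩, ⟨a, ha⟩⟩, e⟩ := hbij.2 ⟨x, hx⟩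
    obtain rfl : v * a = x := congrArg Subtype.val e
    have ha2 : a * a = 1 := by
      simp only [Finset.mem_insert, Finset.mem_singleton] at ha
      rcases ha with rfl | rfl | rfl | rfl
      exacts [one_mul 1, ht2, hs2, hr2]
    have hc : a * v = v * a := F.central (hTK (hWT (hnt a ha))) hv
    calc v * a * (v * a) = v * (a * v) * a := by group
      _ = (v * v) * (a * a) := by rw [hc]; group
      _ = 1 := by rw [F.inf_sq hv, ha2, one_mul]
  have hcover : ∀ x ∈ W, x ∈ Q ⊓ Q' ∨ x * t⁻¹ ∈ Q ⊓ Q' ∨ x * s⁻¹ ∈ Q ⊓ Q' ∨ x * r⁻¹ ∈ Q ⊓ Q' := by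
    intro x hx
    obtain ⟨⟨⟨v, hv⟩, ⟨a, ha⟩⟩, e⟩ := hbij.2 ⟨x, hx⟩
    obtain rfl : v * a = x := congrArg Subtype.val e
    simp only [Finset.mem_insert, Finset.mem_singleton] at ha
    rcases ha with rfl | rfl | rfl | rfl
    · exact Or.inl (by simpa using hv)
    · exact Or.inr (Or.inl (by simpa using hv))
    · exact Or.inr (Or.inr (Or.inl (by simpa using hv)))
    · exact Or.inr (Or.inr (Or.inr (by simpa using hv)))
  refine ⟨hWu, hsq, hWQ, ?_, hst, hrt, hcover⟩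
  intro x hx
  have hσr : σ * r * σ⁻¹ = t := by
    rw [hr]
    calc σ * (σ ^ 2 * t * (σ ^ 2)⁻¹) * σ⁻¹ = σ ^ 3 * t * (σ ^ 3)⁻¹ := by group
      _ = t := by rw [hσ3, one_mul, inv_one, mul_one]
  have hVσ : ∀ v ∈ Q ⊓ Q', σ * v * σ⁻¹ ∈ W := fun v hv => by
    rw [F.central hσ hv, mul_inv_cancel_right]; exact hVW hv
  have key : ∀ a : G, σ * a * σ⁻¹ ∈ W → x * a⁻¹ ∈ Q ⊓ Q' → σ * x * σ⁻¹ ∈ W := by
    intro a ha hxa
    rw [show σ * x * σ⁻¹ = (σ * (x * a⁻¹) * σ⁻¹) * (σ * a * σ⁻¹) by group]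
    exact mul_mem (hVσ _ hxa) ha
  rcases hcover x hx with e | e | e | e
  · exact hVσ x e
  · exact key t hsW e
  · exact key s (hrs ▸ hrW) e
  · exact key r (hσr.symm ▸ htW) e

theorem exists_third : ∃ Q'' : Subgroup G, Four z Q (u * z) Q'' ∧ Four u Q' (u * z) Q'' := by
  obtain ⟨p1, p2, p3⟩ := F.prod_ne
  obtain ⟨Q'', h⟩ := F.hz.exists_four (mul_mem F.mem F.hz.loc.z_mem) F.prod_sq p1 p2
  refine ⟨Q'', h, F.hu, h.hu, mul_mem F.hu.loc.z_mem F.mem', ?_, p3⟩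
  have : u = u * z * z := by rw [mul_assoc, F.hz.loc.zz, mul_one]
  rw [this]
  exact mul_mem h.hu.loc.z_mem h.mem'

end Four

end CfsgLib.Recog.J3T
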