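import Cfsg.Agent.Lib.Recog.JankoThree.Transfer
import Mathlib

/-!
Owner: helper29. Eight letters and the relations of the point.
-/

set_option autoImplicit false
set_option linter.all false
set_option maxRecDepth 8000

namespace CfsgLib.Recog.J3T

open Subgroup Cfsg CfsgLib.Recog CfsgLib.Recog.SporBound
open CfsgLib.Recog.HJType (Local mem_cent ord_two inv_pair invol_conj eq_one_of_pow_odd_two five_invol_conj five_three_cent)
open CfsgLib.Recog.JTwoU hiding Base exists_base
open scoped commutatorElement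

local notation "A5" => alternatingGroup (Fin 5)

/-- The relators involving the point, apart from the last one. -/
def extraP : List (List ℕ) :=
  [[7, 7], [7, 1, 2, 7, 2, 1], [7, 4, 7, 4], [7, 5, 7, 5, 4], [7, 1, 0, 6, 1, 0, 7, 0, 1, 6, 0, 1],
    [7, 3, 7, 6], [7, 1, 4, 1, 7, 1, 4, 1, 7, 1, 4, 1], [7, 0, 3, 2, 7, 1, 2, 6]]

theorem lett_p {M : Type*} [Group M] (v σ u z p : M) {k : ℕ} (hk : k < 7) :
    lett v σ u z p k = lett v σ u z 1 k := by interval_cases k <;> rfl

variable {G : Type*} [Group G] [Finite G] {z u v σ : G} {Q Q' : Subgroup G}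

/-- Eight letters satisfying the relators of the centralizer and of the point. -/
theorem Base.exists_gens (B : Base z Q u Q' v σ) : ∃ p : G, p ∈ Q' ∧ p * z * p = z * u ∧ p * z ≠ z * p ∧
    p * p = 1 ∧ p * σ = σ * p ∧ p * u * p = u ∧
    ∀ w ∈ J2UC.cert.rels ++ extraP, ev (lett v σ u z p) w = 1 := by
  obtain ⟨p, hpQ, hp2, hpσ, hpu, hpz, hne⟩ := B.exists_point
  refine ⟨p, hpQ, hpz, hne, hp2, hpσ, by rw [hpu, mul_assoc, hp2, mul_one], ?_⟩
  have F := B.four
  obtain ⟨hx, hw⟩ := B.point_rels hpQ hp2 hpσ hpu hpz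
  set a := lett v σ u z p with ha
  have hinv : ∀ k, a k * a k = 1 := B.letters_inv hp2
  have hbig : a 15 = 1 := rfl
  have hxa : ev a [1, 0, 6, 1, 0] = ev (lett v σ u z 1) Model.xWord := by
    rw [show Model.xWord = [1, 0, 6, 1, 0] from rfl]
    exact ev_congr fun k hk => lett_p v σ u z p (by simp at hk; omega)
  have hpi : p⁻¹ = p := inv_eq_of_mul_eq_one_right hp2
  have hdc : wD v σ * wC v σ = σ⁻¹ := eq_inv_of_mul_eq_one_left (by
    conv_lhs => arg 2; rw [← B.ids.1]
    rw [show wD v σ * wC v σ * (wC v σ * wD v σ) = wD v σ * (wC v σ * wC v σ) * wD v σ by group, B.c2,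
      mul_one, B.d2])
  have hrelP : ∀ w ∈ J2UC.cert.rels ++ extraP, ev a w = 1 := by
    intro w hw'
    rcases List.mem_append.1 hw' with h' | h'
    · exact B.relsC p w h'
    · simp only [extraP, List.mem_cons, List.not_mem_nil, or_false] at h'
      rcases h' with rfl | rfl | rfl | rfl | rfl | rfl | rfl | rfl
      · simpa [ev, ha, lett] using hp2
      · have : p * σ * p * σ⁻¹ = 1 := by rw [hpσ, mul_assoc σ, hp2, mul_one, mul_inv_cancel]
        conv at this => lhs; rw [← hdc]; arg 1; arg 1; arg 2; rw [← B.ids.1]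
        simpa [ev, ha, lett, mul_assoc] using this
      · have : p * u * p * u = 1 := by rw [hpu, mul_assoc u, hp2, mul_one, F.uu]
        simpa [ev, ha, lett, mul_assoc] using this
      · have : p * z * p * z * u = 1 := by
          rw [hpz, show z * u * z * u = (z * u * z) * u from rfl, F.comm, mul_assoc u, F.hz.loc.zz, mul_one, F.uu]
        simpa [ev, ha, lett, mul_assoc] using this
      · rw [show ([7, 1, 0, 6, 1, 0, 7, 0, 1, 6, 0, 1] : List ℕ) =
          [7] ++ ([1, 0, 6, 1, 0] ++ ([7] ++ ([1, 0, 6, 1, 0] : List ℕ).reverse)) from rfl,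
          ev_append, ev_append, ev_append]
        show ev a [7] * (ev a [1, 0, 6, 1, 0] * (ev a [7] * ((([1, 0, 6, 1, 0] : List ℕ).reverse.map a).prod))) = 1
        rw [CfsgLib.ThreeTrans.CosetIndex.prod_reverse_eq_inv a hinv]
        show ev a [7] * (ev a [1, 0, 6, 1, 0] * (ev a [7] * (ev a [1, 0, 6, 1, 0])⁻¹)) = 1
        rw [hxa, show ev a [7] = p by simp [ev, ha, lett], ← mul_assoc, ← mul_assoc, hx, mul_inv_cancel]
      · have : p * wW v σ * p * wY v σ u = 1 := by rw [hw, B.y2]
        simpa [ev, ha, lett, mul_assoc] using this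
      · have := B.rot hp2 hpσ hpu hpz
        simpa [ev, ha, lett, pow_three, mul_assoc] using this
      · have hid : v * wW v σ * wD v σ = wW v σ * σ⁻¹ := by
          rw [← hdc]
          have h1 := B.relA [0, 3, 2, 1, 2, 3] (by simp [relsA])
          have h2 : v * wW v σ * wD v σ * (wC v σ * wD v σ * wW v σ) = 1 := by
            simpa [ev, aA, mul_assoc] using h1
          rw [eq_inv_of_mul_eq_one_left h2, mul_inv_rev, mul_inv_rev, inv_eq_of_mul_eq_one_right B.w2,
            inv_eq_of_mul_eq_one_right B.d2, inv_eq_of_mul_eq_one_right B.c2]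
        have hps : Commute p σ := hpσ
        have : p * (v * wW v σ * wD v σ) * p * (σ * wY v σ u) = 1 := by
          rw [hid]
          calc p * (wW v σ * σ⁻¹) * p * (σ * wY v σ u) = p * wW v σ * (σ⁻¹ * p) * σ * wY v σ u := by group
            _ = p * wW v σ * p * wY v σ u := by rw [← hps.inv_right.eq]; group
            _ = 1 := by rw [hw, B.y2]
        conv at this => lhs; arg 2; arg 1; rw [← B.ids.1]
        simpa [ev, ha, lett, mul_assoc] using this
  exact hrelP

end CfsgLib.Recog.J3T
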