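import Cfsg.Agent.Lib.Sporadic.J3Simple
import Cfsg.Agent.Lib.Recog.JankoTwoType.Basic
import Mathlib

/-!
Owner: helper29. The third Janko group has no large subgroup of odd order.
-/

set_option autoImplicit false
set_option linter.all false

namespace CfsgLib.Recog.J3T

open Subgroup Cfsg Cfsg.Spor CfsgLib.Sporadic.J3
open scoped MatrixGroups

/-- An element normalizing a cyclic group of prime order with coprime multiplicative order centralizes it. -/
theorem commute_of_normalizes {G : Type*} [Group G] {x y : G} {p q : ℕ} [hp : Fact p.Prime] [hq : Fact q.Prime] (hy : orderOf y = p)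
    (hx : orderOf x = q) (hn : y * x * y⁻¹ ∈ zpowers x) (hpq : Nat.Coprime p (q - 1)) : Commute y x := by
  have hfin : IsOfFinOrder x := orderOf_pos_iff.1 (hx ▸ hq.out.pos)
  obtain ⟨i, hi : x ^ i = y * x * y⁻¹⟩ := hfin.mem_powers_iff_mem_zpowers.2 hn
  have hpow : ∀ n : ℕ, y ^ n * x * (y ^ n)⁻¹ = x ^ (i ^ n) := by
    intro n
    induction n with
    | zero => simp
    | succ n ih =>
      rw [pow_succ', show y * y ^ n * x * (y * y ^ n)⁻¹ = y * (y ^ n * x * (y ^ n)⁻¹) * y⁻¹ by group, ih, ← conj_pow,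
        ← hi, ← pow_mul, pow_succ']
  have h1 := hpow p
  rw [← hy, pow_orderOf_eq_one, hy, one_mul, inv_one, mul_one] at h1
  have hz : ((i : ZMod q)) ^ p = 1 := by
    have : i ^ p ≡ 1 [MOD orderOf x] := pow_eq_pow_iff_modEq.1 (by rw [pow_one]; exact h1.symm)
    rw [hx, ← ZMod.natCast_eq_natCast_iff] at this
    simpa using this
  have hne : (i : ZMod q) ≠ 0 := by
    intro e
    rw [e, zero_pow hp.out.ne_zero] at hz
    exact zero_ne_one hz
  have h2 := ZMod.pow_card_sub_one_eq_one hne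
  have h3 : (i : ZMod q) ^ Nat.gcd p (q - 1) = 1 := pow_gcd_eq_one.2 ⟨hz, h2⟩
  rw [hpq, pow_one] at h3
  have h4 : i ≡ 1 [MOD q] := (ZMod.natCast_eq_natCast_iff _ _ _).1 (by simpa using h3)
  have h5 : x ^ i = x ^ 1 := pow_eq_pow_iff_modEq.2 (hx.symm ▸ h4)
  rw [hi, pow_one] at h5
  exact mul_inv_eq_iff_eq_mul.1 h5

set_option maxHeartbeats 2000000 in
/-- No subgroup of odd order is large. -/
theorem odd_small {J : Type*} [Group J] [Finite J] (hcard : Nat.card J = 50232960) {x : J} (hx : orderOf x = 19)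
    (hcx : ∀ y : J, Commute y x → (orderOf y).Prime → orderOf y = 3 ∨ orderOf y = 19) (S : Subgroup J)
    (hodd : ¬ 2 ∣ Nat.card S) : Nat.card S < 26163 := by
  classical
  by_contra hbig
  push Not at hbig
  haveI : Fact (Nat.Prime 19) := ⟨by norm_num⟩
  haveI : Fact (Nat.Prime 17) := ⟨by norm_num⟩
  haveI : Fact (Nat.Prime 5) := ⟨by norm_num⟩
  haveI : Fact (Nat.Prime 3) := ⟨by norm_num⟩
  haveI := Fintype.ofFinite J
  set d := Nat.card S with hd
  have hdJ : d ∣ 2 ^ 7 * 392445 := by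
    rw [show 2 ^ 7 * 392445 = 50232960 from rfl, ← hcard]; exact Subgroup.card_subgroup_dvd_card S
  have hdd : d ∣ 392445 :=
    ((Nat.prime_two.coprime_iff_not_dvd.2 hodd).symm.pow_right 7).dvd_of_dvd_mul_left hdJ
  obtain ⟨m, hm⟩ := hdd
  have hm15 : m ≤ 15 := by
    by_contra h
    push Not at h
    have : 26163 * 16 ≤ d * m := Nat.mul_le_mul hbig h
    omega
  have hm0 : 0 < m := Nat.pos_of_ne_zero (by rintro rfl; simp at hm)
  have hd17 : 17 ∣ d := ((Nat.Prime.dvd_mul (by norm_num)).1 (hm ▸ (by norm_num : 17 ∣ 392445))).resolve_right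
    fun h => absurd (Nat.le_of_dvd hm0 h) (by omega)
  have hd19 : 19 ∣ d := ((Nat.Prime.dvd_mul (by norm_num)).1 (hm ▸ (by norm_num : 19 ∣ 392445))).resolve_right
    fun h => absurd (Nat.le_of_dvd hm0 h) (by omega)
  -- every element of order 19 is conjugate into the given cyclic group
  have hv19 : (50232960 : ℕ).factorization 19 = 1 := by
    rw [show (50232960 : ℕ) = 19 * 2643840 by norm_num, Nat.factorization_mul (by norm_num) (by norm_num),
      Finsupp.add_apply, Nat.factorization_eq_zero_of_not_dvd (show ¬ 19 ∣ 2643840 by norm_num),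
      Nat.Prime.factorization (by norm_num : Nat.Prime 19)]
    simp
  have hprime : ∀ x' y : J, orderOf x' = 19 → Commute y x' → (orderOf y).Prime → orderOf y = 3 ∨ orderOf y = 19 := by
    intro x' y hx' hc hyp
    let P : Sylow 19 J := Sylow.ofCard (zpowers x) (by rw [Nat.card_zpowers, hx, hcard, hv19, pow_one])
    let P' : Sylow 19 J := Sylow.ofCard (zpowers x') (by rw [Nat.card_zpowers, hx', hcard, hv19, pow_one])
    obtain ⟨g, hg⟩ := MulAction.exists_smul_eq J P' P
    have hxm : x ∈ ((g • P' : Sylow 19 J) : Subgroup J) := by rw [hg]; exact mem_zpowers x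
    rw [Sylow.coe_subgroup_smul] at hxm
    obtain ⟨w, hw, hwe⟩ := hxm
    obtain ⟨i, rfl⟩ := mem_zpowers_iff.1 hw
    have hwe' : g * x' ^ i * g⁻¹ = x := hwe
    have := hcx (g * y * g⁻¹) ?_ ?_
    · rwa [CfsgLib.Signalizer.orderOf_conj] at this
    · rw [← hwe']
      show g * y * g⁻¹ * (g * x' ^ i * g⁻¹) = g * x' ^ i * g⁻¹ * (g * y * g⁻¹)
      rw [show g * y * g⁻¹ * (g * x' ^ i * g⁻¹) = g * (y * x' ^ i) * g⁻¹ by group, (hc.zpow_right i).eq]
      group
    · rwa [CfsgLib.Signalizer.orderOf_conj]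
  -- Sylow subgroups of order 19 and 17
  have hfac : ∀ {p r : ℕ}, p.Prime → 392445 = p * r → ¬ p ∣ r → p ∣ d → d.factorization p = 1 := by
    intro p r hp he hr hpd
    refine le_antisymm ?_ ((hp.factorization_pos_of_dvd (Nat.card_pos).ne' hpd) : 0 < _)
    by_contra h
    push Not at h
    have h2 : p ^ 2 ∣ d := (hp.pow_dvd_iff_le_factorization (Nat.card_pos).ne').2 h
    have h3 : p * p ∣ p * r := by rw [← pow_two, ← he, hm]; exact Dvd.dvd.mul_right h2 m
    exact hr ((Nat.mul_dvd_mul_iff_left hp.pos).1 h3)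
  let P : Sylow 19 S := default
  have hP : Nat.card (P : Subgroup S) = 19 := by
    rw [P.card_eq_multiplicity, ← hd, hfac (by norm_num) (by norm_num : 392445 = 19 * 20655) (by norm_num) hd19, pow_one]
  let R : Sylow 17 S := default
  have hR : Nat.card (R : Subgroup S) = 17 := by
    rw [R.card_eq_multiplicity, ← hd, hfac (by norm_num) (by norm_num : 392445 = 17 * 23085) (by norm_num) hd17, pow_one]
  obtain ⟨a, ha⟩ := exists_prime_orderOf_dvd_card' (G := (P : Subgroup S)) 19 (by rw [hP])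
  obtain ⟨b, hb⟩ := exists_prime_orderOf_dvd_card' (G := (R : Subgroup S)) 17 (by rw [hR])
  have ha' : orderOf ((a : S) : J) = 19 := by rw [orderOf_coe, orderOf_coe, ha]
  have haS : orderOf (a : S) = 19 := by rw [orderOf_coe, ha]
  have hbS : orderOf (b : S) = 17 := by rw [orderOf_coe, hb]
  have hPz : (P : Subgroup S) = zpowers (a : S) := (Subgroup.eq_of_le_of_card_ge
    ((zpowers_le).2 a.2) (by rw [hP, Nat.card_zpowers, haS])).symm
  have hRz : (R : Subgroup S) = zpowers (b : S) := (Subgroup.eq_of_le_of_card_ge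
    ((zpowers_le).2 b.2) (by rw [hR, Nat.card_zpowers, hbS])).symm
  have hnc : ∀ y x' : S, orderOf y = 17 → orderOf x' = 19 → Commute y x' → False := by
    intro y x' hy hx' hc
    rcases hprime x' y (by rw [orderOf_coe, hx']) (hc.map S.subtype) (by rw [orderOf_coe, hy]; norm_num) with e | e <;>
      rw [orderOf_coe, hy] at e <;> norm_num at e
  have hnorm : ∀ {p q : ℕ} [Fact p.Prime] [Fact q.Prime] (w : S) (W : Subgroup S), W = zpowers w → orderOf w = q →
      Nat.Coprime p (q - 1) → p ∣ Nat.card (normalizer (W : Set S)) → ∃ y : S, orderOf y = p ∧ Commute y w := by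
    intro p q _ _ w W hW hw hpq hdvd
    obtain ⟨y, hy⟩ := exists_prime_orderOf_dvd_card' p hdvd
    refine ⟨y, by rw [orderOf_coe, hy], commute_of_normalizes (p := p) (q := q) (by rw [orderOf_coe, hy]) hw ?_ hpq⟩
    rw [← hW]
    exact (mem_normalizer_iff.1 y.2 w).1 (hW ▸ mem_zpowers w)
  have h17 : ¬ 17 ∣ Nat.card (normalizer ((P : Subgroup S) : Set S)) := fun h => by
    obtain ⟨y, hy, hc⟩ := hnorm (p := 17) (q := 19) _ _ hPz haS (by norm_num) h
    exact hnc y a hy haS hc
  have h5 : ¬ 5 ∣ Nat.card (normalizer ((P : Subgroup S) : Set S)) := fun h => by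
    obtain ⟨y, hy, hc⟩ := hnorm (p := 5) (q := 19) _ _ hPz haS (by norm_num) h
    rcases hprime _ (y : J) ha' (hc.map S.subtype) (by rw [orderOf_coe, hy]; norm_num) with e | e <;>
      rw [orderOf_coe, hy] at e <;> norm_num at e
  have h19 : ¬ 19 ∣ Nat.card (normalizer ((R : Subgroup S) : Set S)) := fun h => by
    obtain ⟨y, hy, hc⟩ := hnorm (p := 19) (q := 17) _ _ hRz hbS (by norm_num) h
    exact hnc b y hbS hy hc.symm
  -- the numbers of Sylow subgroups
  have hsyl : ∀ {p : ℕ} [Fact p.Prime] (W : Sylow p S), Nat.card (normalizer ((W : Subgroup S) : Set S)) * Nat.card (Sylow p S) = d ∧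
      Nat.card (Sylow p S) % p = 1 := by
    intro p hp W
    refine ⟨?_, ?_⟩
    · rw [W.card_eq_index_normalizer]; exact Subgroup.card_mul_index _
    · exact Eq.trans (card_sylow_modEq_one p S) (Nat.mod_eq_of_lt hp.out.one_lt)
  obtain ⟨hN, hN1⟩ := hsyl P
  set n := Nat.card (Sylow 19 S) with hn
  have hn17 : 17 ∣ n := ((Nat.Prime.dvd_mul (by norm_num)).1 (hN ▸ hd17)).resolve_left h17
  have hnd : n ∣ 20655 := by
    have h := (Dvd.intro_left _ hN : n ∣ d).trans (Dvd.intro m hm.symm)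
    have hc : Nat.Coprime n 19 := ((Nat.prime_iff.2 (Nat.prime_iff.1 (by norm_num : Nat.Prime 19))).coprime_iff_not_dvd.2
      (fun h => by omega)).symm
    exact hc.dvd_of_dvd_mul_left (by rwa [show 19 * 20655 = 392445 from rfl])
  have hn153 : n = 153 := by
    obtain ⟨k, hk0⟩ := hn17
    have hk : k ∣ 1215 := (Nat.mul_dvd_mul_iff_left (by norm_num : 0 < 17)).1 (hk0 ▸ hnd)
    have key : ∀ k ≤ 1215, 1215 % k = 0 → 17 * k % 19 = 1 → k = 9 := by decide +kernel
    rw [hk0, key k (Nat.le_of_dvd (by norm_num) hk) (Nat.mod_eq_zero_of_dvd hk) (hk0 ▸ hN1)]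
  have hd5 : ¬ 5 ∣ d := fun h => by
    rcases (Nat.Prime.dvd_mul (by norm_num)).1 (hN ▸ h) with e | e
    · exact h5 e
    · rw [hn153] at e; norm_num at e
  have hd9 : d ∣ 78489 := by
    have hc : Nat.Coprime d 5 := ((Nat.Prime.coprime_iff_not_dvd (by norm_num)).2 hd5).symm
    exact hc.dvd_of_dvd_mul_left (show d ∣ 5 * 78489 from Dvd.intro m hm.symm)
  have hd81 : 81 ∣ d := by
    obtain ⟨e, he⟩ := hd9
    have he3 : e ≤ 3 := by
      by_contra h
      push Not at h
      have : 26163 * 4 ≤ d * e := Nat.mul_le_mul hbig h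
      omega
    interval_cases e <;> omega
  obtain ⟨hM, hM1⟩ := hsyl R
  set n' := Nat.card (Sylow 17 S) with hn'
  have hn19 : 19 ∣ n' := ((Nat.Prime.dvd_mul (by norm_num)).1 (hM ▸ hd19)).resolve_left h19
  have hn'd : n' ∣ 4617 := by
    have h := (Dvd.intro_left _ hM : n' ∣ d).trans hd9
    have hc : Nat.Coprime n' 17 := ((Nat.Prime.coprime_iff_not_dvd (by norm_num)).2 (fun h => by omega)).symm
    exact hc.dvd_of_dvd_mul_left (by rwa [show 17 * 4617 = 78489 from rfl])
  have hn171 : n' = 171 := by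
    obtain ⟨k, hk0⟩ := hn19
    have hk : k ∣ 243 := (Nat.mul_dvd_mul_iff_left (by norm_num : 0 < 19)).1 (hk0 ▸ hn'd)
    have key : ∀ k ≤ 243, 243 % k = 0 → 19 * k % 17 = 1 → k = 9 := by decide +kernel
    rw [hk0, key k (Nat.le_of_dvd (by norm_num) hk) (Nat.mod_eq_zero_of_dvd hk) (hk0 ▸ hM1)]
  -- a Sylow subgroup for three is centralized by the element of order 17
  have hC : IsPGroup 17 (zpowers (b : S)) := IsPGroup.of_card (n := 1) (by rw [pow_one, Nat.card_zpowers, hbS])
  have hn3 : ¬ 17 ∣ Nat.card (Sylow 3 S) := by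
    let T0 : Sylow 3 S := default
    have h1 : Nat.card (Sylow 3 S) ∣ 323 := by
      have h := (Dvd.intro_left _ (hsyl T0).1 : Nat.card (Sylow 3 S) ∣ d).trans hd9
      have hc : Nat.Coprime (Nat.card (Sylow 3 S)) (3 ^ 5) :=
        ((Nat.Prime.coprime_iff_not_dvd (by norm_num)).2 (fun h => by have := (hsyl T0).2; omega)).symm.pow_right 5
      exact hc.dvd_of_dvd_mul_left (by rwa [show 3 ^ 5 * 323 = 78489 from rfl])
    intro h
    have h2 := (hsyl T0).2
    obtain ⟨k, hk⟩ := h
    rw [hk] at h1 h2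
    have hk2 : k ∣ 19 := (Nat.mul_dvd_mul_iff_left (by norm_num : 0 < 17)).1 h1
    rcases (Nat.dvd_prime (by norm_num)).1 hk2 with rfl | rfl <;> omega
  obtain ⟨T, hT⟩ := hC.nonempty_fixed_point_of_prime_not_dvd_card (Sylow 3 S) hn3
  have hTn : ∀ g ∈ zpowers (b : S), ∀ t ∈ (T : Subgroup S), g * t * g⁻¹ ∈ (T : Subgroup S) := by
    intro g hg t ht
    have h := congrArg (fun W : Sylow 3 S => (W : Subgroup S)) (hT ⟨g, hg⟩)
    have h2 : g * t * g⁻¹ ∈ ((⟨g, hg⟩ : zpowers (b : S)) • T : Sylow 3 S).toSubgroup := ⟨t, ht, rfl⟩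
    rwa [show ((⟨g, hg⟩ : zpowers (b : S)) • T : Sylow 3 S).toSubgroup = (T : Subgroup S) from h] at h2
  letI : MulAction (zpowers (b : S)) (T : Subgroup S) :=
    { smul := fun g t => ⟨(g : S) * t * (g : S)⁻¹, hTn g g.2 t t.2⟩
      one_smul := fun t => Subtype.ext (show ((1 : S) * t * (1 : S)⁻¹) = t by group)
      mul_smul := fun g g' t => Subtype.ext (show ((g : S) * g' * t * ((g : S) * g')⁻¹) =
        (g : S) * ((g' : S) * t * (g' : S)⁻¹) * (g : S)⁻¹ by group) }
  have hfix := hC.card_modEq_card_fixedPoints (T : Subgroup S)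
  set K := (T : Subgroup S) ⊓ centralizer ({(b : S)} : Set S) with hK
  have hfK : Nat.card (MulAction.fixedPoints (zpowers (b : S)) (T : Subgroup S)) = Nat.card K := by
    refine Nat.card_congr
      { toFun := fun t => ⟨((t : (T : Subgroup S)) : S), (t : (T : Subgroup S)).2, mem_centralizer_singleton_iff.2 ?_⟩
        invFun := fun t => ⟨⟨(t : S), t.2.1⟩, fun g => ?_⟩
        left_inv := fun _ => rfl
        right_inv := fun _ => rfl }
    · have h : (b : S) * ((t : (T : Subgroup S)) : S) * (b : S)⁻¹ = ((t : (T : Subgroup S)) : S) :=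
        congrArg Subtype.val (t.2 ⟨(b : S), mem_zpowers _⟩)
      exact (mul_inv_eq_iff_eq_mul.1 h).symm
    · obtain ⟨i, hi⟩ := mem_zpowers_iff.1 g.2
      refine Subtype.ext ?_
      show (g : S) * (t : S) * (g : S)⁻¹ = t
      rw [← hi, ((show Commute (b : S) (t : S) from (mem_centralizer_singleton_iff.1 t.2.2).symm).zpow_left i).eq,
        mul_inv_cancel_right]
  obtain ⟨i, hi⟩ := IsPGroup.iff_card.1 T.isPGroup'
  obtain ⟨j, hj⟩ := IsPGroup.iff_card.1 (T.isPGroup'.to_le (inf_le_left : K ≤ _))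
  have hji : j ≤ i := by
    have := Nat.le_of_dvd Nat.card_pos (Subgroup.card_dvd_of_le (inf_le_left : K ≤ (T : Subgroup S)))
    rw [hi, hj] at this
    exact (Nat.pow_le_pow_iff_right (by norm_num)).1 this
  have hi5 : i ≤ 5 := by
    by_contra h
    push Not at h
    have := ((pow_dvd_pow 3 h).trans (hi ▸ Subgroup.card_subgroup_dvd_card (T : Subgroup S))).trans hd9
    norm_num at this
  have heq : 3 ^ i % 17 = 3 ^ j % 17 := by rw [← hi, ← hj, ← hfK]; exact hfix
  have hij : j = i := by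
    have key : ∀ j ≤ 5, ∀ i ≤ 5, 3 ^ i % 17 = 3 ^ j % 17 → j = i := by decide
    exact key j (hji.trans hi5) i hi5 heq
  have hKN : K ≤ normalizer ((R : Subgroup S) : Set S) := by
    intro t ht
    rw [mem_normalizer_iff]
    intro w
    rw [hRz]
    have hbt : (b : S) * t = t * (b : S) := (mem_centralizer_singleton_iff.1 ht.2).symm
    constructor
    · intro hw
      obtain ⟨l, rfl⟩ := mem_zpowers_iff.1 hw
      rw [((show Commute (b : S) t from hbt).zpow_left l).symm.eq, mul_inv_cancel_right]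
      exact zpow_mem (mem_zpowers _) l
    · intro hw
      obtain ⟨l, hl⟩ := mem_zpowers_iff.1 hw
      have : w = t⁻¹ * (b : S) ^ l * t := by rw [hl]; group
      rw [this, mul_assoc, ((show Commute (b : S) t from hbt).zpow_left l).eq, inv_mul_cancel_left]
      exact zpow_mem (mem_zpowers _) l
  have hT3 : 81 ∣ Nat.card (T : Subgroup S) := by
    rw [show (81 : ℕ) = 3 ^ 4 from rfl, T.card_eq_multiplicity]
    refine pow_dvd_pow 3 ?_
    exact (Nat.Prime.pow_dvd_iff_le_factorization (by norm_num) (Nat.card_pos).ne').1 hd81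
  have h81N : 81 ∣ Nat.card (normalizer ((R : Subgroup S) : Set S)) := by
    refine (?_ : 81 ∣ Nat.card K).trans (Subgroup.card_dvd_of_le hKN)
    rw [hj, hij, ← hi]; exact hT3
  have h243 : 81 * 171 ∣ 78489 := (Nat.mul_dvd_mul h81N (dvd_of_eq hn171.symm)).trans (hM.symm ▸ hd9)
  norm_num at h243

/-- An element of order 19 with a small centralizer. -/
theorem exists_nineteen {F : Type*} [Field F] [CharP F 2] [Fintype F] {ω : F} (hω : ω ^ 2 + ω + 1 = 0)
    (hF : Fintype.card F = 4) : ∃ x : J3 F ω, orderOf x = 19 ∧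
      ∀ y : J3 F ω, Commute y x → (orderOf y).Prime → orderOf y = 3 ∨ orderOf y = 19 := by
  obtain ⟨⟨g, hg, eg, og⟩, -⟩ := word_elts hω
  haveI : Fact (Nat.Prime 19) := ⟨by norm_num⟩
  set u : threeJ3 F ω := ⟨g, hg⟩
  have og' : orderOf u = 19 := by rw [Subgroup.orderOf_mk, og]
  refine ⟨QuotientGroup.mk u, orderOf_eq_prime ?_ fun e => ?_, ?_⟩
  · rw [← QuotientGroup.mk_pow, ← og', pow_orderOf_eq_one]; rfl
  · have hu' := (QuotientGroup.eq_one_iff u).1 e
    have := orderOf_dvd_natCard (⟨u, hu'⟩ : Subgroup.center (threeJ3 F ω))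
    rw [card_center hω hF, Subgroup.orderOf_mk, og'] at this
    norm_num at this
  · intro y hy hp
    obtain ⟨y, rfl⟩ := QuotientGroup.mk_surjective y
    have hc := commute_lift hω hF (n := 19) (by norm_num) (by rw [← og', pow_orderOf_eq_one]) hy
    have hY : Commute ((y : GL F9 F) : Matrix F9 F9 F) (X19 ω) := by
      rw [← eg]
      exact congrArg (fun w : threeJ3 F ω => ((w : GL F9 F) : Matrix F9 F9 F)) hc.eq
    have h1 : (QuotientGroup.mk y : J3 F ω) ^ (4 ^ 9 - 1) = 1 := by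
      rw [← QuotientGroup.mk_pow, show y ^ (4 ^ 9 - 1) = 1 from Subtype.ext (pow_commutant hω hF hY)]
      rfl
    have d2 := orderOf_dvd_natCard (QuotientGroup.mk y : J3 F ω)
    rw [card_J3 hω hF] at d2
    have := Nat.dvd_gcd (orderOf_dvd_of_pow_eq_one h1) d2
    rw [show Nat.gcd (4 ^ 9 - 1) 50232960 = 3 ^ 3 * 19 by norm_num] at this
    rcases hp.dvd_mul.1 this with h | h
    · exact Or.inl ((Nat.prime_dvd_prime_iff_eq hp Nat.prime_three).1 (hp.dvd_of_dvd_pow h))
    · exact Or.inr ((Nat.prime_dvd_prime_iff_eq hp (by norm_num)).1 h)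

end CfsgLib.Recog.J3T
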