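import Cfsg.Agent.Lib.Recog.JankoThree.Pairs
import Cfsg.Agent.Lib.Recog.JankoThree.OddBound
import Cfsg.Agent.Lib.Sporadic.J3Perm
import Mathlib

/-!
Owner: helper29. A group of the type of the third Janko group is isomorphic to it.
-/

set_option autoImplicit false
set_option linter.all false
set_option maxRecDepth 8000

namespace CfsgLib.Recog.J3T

open Subgroup Cfsg Cfsg.Spor CfsgLib.Recog
open CfsgLib.Recog.HJType (Local mem_cent ord_two inv_pair)

/-- With one class of involutions their number is the index of a centralizer. -/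
theorem card_invols {M : Type*} [Group M] [Finite M] {m : M} (hm : orderOf m = 2)
    (hone : ∀ x : M, orderOf x = 2 → IsConj m x) :
    Nat.card {x : M // orderOf x = 2} * Nat.card (centralizer ({m} : Set M)) = Nat.card M := by
  classical
  have hord : ∀ g : M, orderOf (g * m * g⁻¹) = 2 := fun g => (CfsgLib.Signalizer.orderOf_conj g m).trans hm
  let f : M ⧸ centralizer ({m} : Set M) → {x : M // orderOf x = 2} :=
    Quotient.lift (fun g => ⟨g * m * g⁻¹, hord g⟩) (fun a b hab => Subtype.ext (by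
      have h : a⁻¹ * b ∈ centralizer ({m} : Set M) := QuotientGroup.leftRel_apply.1 hab
      calc a * m * a⁻¹ = a * (m * (a⁻¹ * b)) * b⁻¹ := by group
        _ = a * ((a⁻¹ * b) * m) * b⁻¹ := by rw [mem_cent.1 h]
        _ = b * m * b⁻¹ := by group))
  have hf : Function.Bijective f := by
    refine ⟨fun a b => ?_, fun x => ?_⟩
    · refine Quotient.inductionOn₂ a b fun a b e => ?_
      refine Quotient.sound (QuotientGroup.leftRel_apply.2 (mem_cent.2 ?_))
      have e' : a * m * a⁻¹ = b * m * b⁻¹ := congrArg Subtype.val e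
      calc a⁻¹ * b * m = a⁻¹ * (b * m * b⁻¹) * b := by group
        _ = a⁻¹ * (a * m * a⁻¹) * b := by rw [e']
        _ = m * (a⁻¹ * b) := by group
    · obtain ⟨g, hg⟩ := isConj_iff.1 (hone x.1 x.2)
      exact ⟨⟦g⟧, Subtype.ext hg⟩
  rw [← Nat.card_eq_of_bijective f hf, mul_comm, ← Subgroup.index_eq_card, Subgroup.card_mul_index]

variable {G : Type*} [Group G] [Finite G] {z : G} {Q : Subgroup G}

/-- The subgroup covered is isomorphic to the third Janko group and controls the involutions. -/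
theorem exists_subgroup (h : Hyp z Q) {F : Type*} [Field F] [Fintype F] [CharP F 2] {ω : F}
    (hω : ω ^ 2 + ω + 1 = 0) (hF : Fintype.card F = 4) :
    ∃ H : Subgroup G, centralizer ({z} : Set G) ≤ H ∧ Nonempty (H ≃* J3 F ω) := by
  classical
  haveI : IsSimpleGroup (J3 F ω) := CfsgLib.Sporadic.J3.isSimple_J3 hω hF
  have hJc := CfsgLib.Sporadic.J3.card_J3 hω hF
  haveI : Finite (J3 F ω) := Nat.finite_of_card_ne_zero (by rw [hJc]; norm_num)
  obtain ⟨u, Q', v, σ, B⟩ := exists_base h
  obtain ⟨D, hfin, hcard, hC, ⟨q, hq, hqz⟩, hsur, hzD, hjz⟩ := B.exists_cover hω hF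
  haveI := hfin
  set f1 := MonoidHom.fst G (J3 F ω)
  set f2 := MonoidHom.snd G (J3 F ω)
  set H := D.map f1 with hH
  have hlift1 : ∀ x : H, ∃ d : D, (d : G × J3 F ω).1 = x := fun x => by
    obtain ⟨d, hd, e⟩ := x.2
    exact ⟨⟨d, hd⟩, e⟩
  have hlift2 : ∀ x : J3 F ω, ∃ d : D, (d : G × J3 F ω).2 = x := fun x => by
    obtain ⟨d, hd, e⟩ := hsur.symm ▸ mem_top x
    exact ⟨⟨d, hd⟩, e⟩
  choose d1 hd1 using hlift1
  choose d2 hd2 using hlift2
  -- the first projection is injective
  set K2 := (D ⊓ f1.ker).map f2 with hK2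
  haveI hK2n : K2.Normal := ⟨fun n hn g => by
    obtain ⟨e, he, rfl⟩ := hn
    exact ⟨(d2 g : G × J3 F ω) * e * (d2 g : G × J3 F ω)⁻¹, ⟨mul_mem (mul_mem (d2 g).2 he.1) (Subgroup.inv_mem _ (d2 g).2),
      f1.normal_ker.conj_mem e he.2 _⟩, by rw [map_mul, map_mul, map_inv]; show (d2 g : G × J3 F ω).2 * f2 e * _⁻¹ = _; rw [hd2]; show g * f2 e * ((d2 g : G × J3 F ω).2)⁻¹ = _; rw [hd2]⟩⟩
  have hK2b : K2 = ⊥ := by
    rcases hK2n.eq_bot_or_eq_top with e | e
    · exact e
    exfalso
    have hl : ∀ n : J3 F ω, ∃ d : D, (d : G × J3 F ω).1 = 1 ∧ (d : G × J3 F ω).2 = n := fun n => by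
      obtain ⟨d, hd, he⟩ := (e ▸ mem_top n : n ∈ K2)
      exact ⟨⟨d, hd.1⟩, hd.2, he⟩
    choose e2 he1 he2 using hl
    let φ : H × J3 F ω → D := fun x => d1 x.1 * e2 x.2
    have hφ : Function.Injective φ := by
      rintro ⟨a, n⟩ ⟨a', n'⟩ hh
      have h1 := congrArg (fun d : D => (d : G × J3 F ω).1) hh
      simp only [φ, Subgroup.coe_mul, Prod.fst_mul, hd1, he1, mul_one] at h1
      have ha : a = a' := Subtype.ext h1
      subst ha
      have h2 := congrArg (fun d : D => (d : G × J3 F ω).2) (mul_left_cancel (hh : d1 a * e2 n = d1 a * e2 n'))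
      simp only [he2] at h2
      rw [h2]
    have h1 := (Nat.card_le_card_of_injective φ hφ).trans hcard
    rw [Nat.card_prod, hJc] at h1
    have h2 : 1920 ≤ Nat.card H := by
      rw [← h.loc.card_centralizer]
      exact Nat.le_of_dvd Nat.card_pos (Subgroup.card_dvd_of_le hC)
    have : 1920 * 50232960 ≤ Nat.card H * 50232960 := Nat.mul_le_mul_right _ h2
    omega
  have inj1 : ∀ d ∈ D, f1 d = 1 → d = 1 := by
    intro d hd hd1'
    have : f2 d ∈ K2 := ⟨d, ⟨hd, hd1'⟩, rfl⟩
    rw [hK2b, mem_bot] at this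
    exact Prod.ext hd1' this
  -- the second projection is injective
  set A := (D ⊓ f2.ker).map f1 with hA
  have hAle : A ≤ H := map_mono inf_le_left
  have hAconj : ∀ r ∈ H, ∀ a ∈ A, r * a * r⁻¹ ∈ A := by
    rintro r hr _ ⟨e, he, rfl⟩
    refine ⟨(d1 ⟨r, hr⟩ : G × J3 F ω) * e * (d1 ⟨r, hr⟩ : G × J3 F ω)⁻¹, ⟨mul_mem (mul_mem (d1 ⟨r, hr⟩).2 he.1)
      (Subgroup.inv_mem _ (d1 ⟨r, hr⟩).2), f2.normal_ker.conj_mem e he.2 _⟩, ?_⟩
    rw [map_mul, map_mul, map_inv]
    show (d1 ⟨r, hr⟩ : G × J3 F ω).1 * f1 e * ((d1 ⟨r, hr⟩ : G × J3 F ω).1)⁻¹ = _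
    rw [hd1]
  haveI : Finite A := inferInstance
  have hA3 : Nat.card A ≤ 3 := by
    have hl : ∀ a : A, ∃ d : D, (d : G × J3 F ω).1 = a ∧ (d : G × J3 F ω).2 = 1 := fun a => by
      obtain ⟨d, hd, he⟩ := a.2
      exact ⟨⟨d, hd.1⟩, he, hd.2⟩
    choose e1 he1 he2 using hl
    let φ : J3 F ω × A → D := fun x => d2 x.1 * e1 x.2
    have hφ : Function.Injective φ := by
      rintro ⟨n, a⟩ ⟨n', a'⟩ hh
      have h2 := congrArg (fun d : D => (d : G × J3 F ω).2) hh
      simp only [φ, Subgroup.coe_mul, Prod.snd_mul, hd2, he2, mul_one] at h2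
      subst h2
      have h1 := congrArg (fun d : D => (d : G × J3 F ω).1) (mul_left_cancel (hh : d2 n * e1 a = d2 n * e1 a'))
      simp only [he1] at h1
      rw [Subtype.ext h1]
    have h1 := (Nat.card_le_card_of_injective φ hφ).trans hcard
    rw [Nat.card_prod, hJc] at h1
    omega
  have hAb : A = ⊥ := by
    rw [Subgroup.eq_bot_iff_forall]
    intro a ha
    by_contra ha1
    set r := u * v with hr
    have hrH : r ∈ H := hC (mul_mem (h.loc.le (show u ∈ Q from B.four.mem)) B.vC)
    have hcentral : ∀ x ∈ A, z * x = x * z := by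
      intro x hx
      by_cases hx1 : x = 1
      · rw [hx1, mul_one, one_mul]
      set y := r * x * r⁻¹ with hy
      set w := r * y * r⁻¹ with hw
      have hyA : y ∈ A := hAconj r hrH x hx
      have hwA : w ∈ A := hAconj r hrH y hyA
      have hwx : w = x := by
        by_cases hyx : y = x
        · rw [hw, hyx, ← hy, hyx]
        by_contra hne
        have hy1 : y ≠ 1 := fun e => hx1 (conj_eq_one_iff.1 e)
        have hw1 : w ≠ 1 := fun e => hy1 (conj_eq_one_iff.1 e)
        have hwy : w ≠ y := fun e => hyx (by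
          have e' : r * y * r⁻¹ = r * x * r⁻¹ := e
          exact (mul_right_inj r).1 (mul_left_injective _ e'))
        let S : Finset A := {1, ⟨x, hx⟩, ⟨y, hyA⟩, ⟨w, hwA⟩}
        have hS : S.card = 4 := by
          simp [S, Subtype.ext_iff, Ne.symm hx1, Ne.symm hy1, Ne.symm hw1, Ne.symm hyx, Ne.symm hne, Ne.symm hwy]
        haveI := Fintype.ofFinite A
        have := Finset.card_le_univ S
        rw [← Nat.card_eq_fintype_card, hS] at this
        omega
      have h2 : Commute (r * r) x := by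
        show r * r * x = x * (r * r)
        calc r * r * x = w * (r * r) := by rw [hw, hy]; group
          _ = x * (r * r) := by rw [hwx]
      have hz4 : z = r * r * (r * r) := by rw [← B.uv4, hr]; simp only [pow_succ, pow_zero, one_mul, mul_assoc]
      rw [hz4]
      exact (h2.mul_left h2).eq
    have hz : z ∈ A := z_mem_of_normal h (fun x hx => mem_cent.2 (hcentral x hx).symm)
      (fun r hr x hx => hAconj r (hC hr) x hx) ha ha1
    obtain ⟨e, he, hez⟩ := hz
    have hee := inj1 ((z, jl hω 5) * e⁻¹) (mul_mem hzD (Subgroup.inv_mem _ he.1)) (by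
      rw [map_mul, map_inv, hez]; exact mul_inv_cancel z)
    have h5 := congrArg f2 hee
    rw [map_mul, map_inv, (he.2 : f2 e = 1), inv_one, mul_one, map_one] at h5
    exact hjz h5
  have inj2 : ∀ d ∈ D, f2 d = 1 → d = 1 := by
    intro d hd hd2'
    have : f1 d ∈ A := ⟨d, ⟨hd, hd2'⟩, rfl⟩
    rw [hAb, mem_bot] at this
    exact Prod.ext this hd2'
  refine ⟨H, hC, ⟨(MulEquiv.ofBijective (f1.subgroupMap D) ⟨?_, f1.subgroupMap_surjective D⟩).symm.trans
    (MulEquiv.ofBijective (f2.comp D.subtype) ⟨?_, fun x => ⟨d2 x, hd2 x⟩⟩)⟩⟩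
  · refine (injective_iff_map_eq_one _).2 fun d hd => Subtype.ext (inj1 _ d.2 ?_)
    exact congrArg Subtype.val hd
  · exact (injective_iff_map_eq_one _).2 fun d hd => Subtype.ext (inj2 _ d.2 hd)

/-- The uniqueness theorem. -/
theorem isoJ3 (h : Hyp z Q) : Cfsg.Spor.IsoJ3 G := by
  classical
  obtain ⟨F, _, _, ω, hF, hω⟩ := CfsgLib.Sporadic.J3.exists_field_four
  haveI := CfsgLib.Sporadic.J3.charTwo hF
  have hJc := CfsgLib.Sporadic.J3.card_J3 hω hF
  haveI : Finite (J3 F ω) := Nat.finite_of_card_ne_zero (by rw [hJc]; norm_num)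
  obtain ⟨H, hC, ⟨e⟩⟩ := exists_subgroup h hω hF
  refine ⟨F, inferInstance, inferInstance, ω, hF, hω, ?_⟩
  suffices htop : H = ⊤ by exact ⟨(Subgroup.topEquiv.symm.trans (MulEquiv.subgroupCongr htop.symm)).trans e⟩
  by_contra hne
  set z' : H := ⟨z, hC (mem_cent.2 rfl)⟩ with hz'
  have hordH : ∀ x : H, orderOf x = orderOf (x : G) := fun x => (Subgroup.orderOf_coe x).symm
  have hord : ∀ x : H, orderOf (e x) = orderOf x := fun x => MulEquiv.orderOf_eq e x
  have hinv : ∀ x : H, orderOf x = 2 → e x * e x = 1 ∧ e x ≠ 1 := fun x hx => by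
    have := (hord x).trans hx
    exact ⟨by rw [← pow_two, ← this, pow_orderOf_eq_one], fun e' => by rw [e', orderOf_one] at this; omega⟩
  have hz'o : orderOf z' = 2 := (hordH z').trans h.loc.hz
  have honeH : ∀ x : H, orderOf x = 2 → IsConj z' x := by
    intro x hx
    obtain ⟨g, hg⟩ := CfsgLib.Sporadic.J3.involution_conj hω hF (hinv x hx).1 (hinv x hx).2
    obtain ⟨g', hg'⟩ := CfsgLib.Sporadic.J3.involution_conj hω hF (hinv z' hz'o).1 (hinv z' hz'o).2
    refine isConj_iff.2 ⟨e.symm (g⁻¹ * g'), e.injective ?_⟩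
    rw [map_mul, map_mul, map_inv, e.apply_symm_apply]
    calc g⁻¹ * g' * e z' * (g⁻¹ * g')⁻¹ = g⁻¹ * (g' * e z' * g'⁻¹) * g := by group
      _ = g⁻¹ * (g * e x * g⁻¹) * g := by rw [hg', hg]
      _ = e x := by group
  -- no coset contains many involutions
  have hsep : ∀ g : G, g ∉ H → ∀ t : G, t ∈ H → g⁻¹ * t * g ∈ H → orderOf t ≠ 2 := by
    intro g hg t ht ht' ho
    obtain ⟨a, ha⟩ := isConj_iff.1 (honeH ⟨t, ht⟩ ((hordH _).trans ho))
    have ho' : orderOf (g⁻¹ * t * g) = 2 := by
      rw [← CfsgLib.Signalizer.orderOf_conj g⁻¹ t, inv_inv] at ho; exact ho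
    obtain ⟨b, hb⟩ := isConj_iff.1 (honeH ⟨_, ht'⟩ ((hordH _).trans ho'))
    have ha' : (a : G) * z * (a : G)⁻¹ = t := congrArg Subtype.val ha
    have hb' : (b : G) * z * (b : G)⁻¹ = g⁻¹ * t * g := congrArg Subtype.val hb
    have hc : (a : G)⁻¹ * g * b ∈ centralizer ({z} : Set G) := by
      refine mem_cent.2 ?_
      calc (a : G)⁻¹ * g * b * z = (a : G)⁻¹ * g * ((b : G) * z * (b : G)⁻¹) * b := by group
        _ = (a : G)⁻¹ * t * g * b := by rw [hb']; group
        _ = (a : G)⁻¹ * ((a : G) * z * (a : G)⁻¹) * g * b := by rw [ha']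
        _ = z * ((a : G)⁻¹ * g * b) := by group
    have := mul_mem (mul_mem a.2 (hC hc)) (Subgroup.inv_mem _ b.2)
    exact hg (by rwa [show (a : G) * ((a : G)⁻¹ * g * b) * (b : G)⁻¹ = g by group] at this)
  have hcH : Nat.card H = 50232960 := (Nat.card_congr e.toEquiv).trans hJc
  have hcz : Nat.card (centralizer ({z'} : Set H)) = 1920 := by
    rw [← h.loc.card_centralizer]
    refine Nat.card_congr
      { toFun := fun x => ⟨((x : H) : G), mem_cent.2 (congrArg Subtype.val (mem_cent.1 x.2))⟩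
        invFun := fun x => ⟨⟨x, hC x.2⟩, mem_cent.2 (Subtype.ext (mem_cent.1 x.2))⟩
        left_inv := fun _ => rfl
        right_inv := fun _ => rfl }
  have hI0 : Nat.card {x : H // orderOf x = 2} = 26163 := by
    have := card_invols hz'o honeH
    rw [hcz, hcH] at this
    omega
  have hI : Nat.card {x : G // orderOf x = 2} = 26163 * H.index := by
    have := card_invols h.loc.hz (fun x hx => h.one z x h.loc.hz hx)
    rw [h.loc.card_centralizer, ← Subgroup.card_mul_index H, hcH] at this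
    omega
  haveI := Fintype.ofFinite G
  haveI := Fintype.ofFinite (G ⧸ H)
  set out := Finset.univ.filter (fun x : G => orderOf x = 2 ∧ x ∉ H) with hout
  set cos := Finset.univ.filter (fun q : G ⧸ H => q ≠ ((1 : G) : G ⧸ H)) with hcos
  have hidx : 2 ≤ H.index := by
    have h0 := Subgroup.index_ne_zero_of_finite (H := H)
    have h1 : H.index ≠ 1 := fun e => hne (Subgroup.index_eq_one.1 e)
    omega
  have hcoscard : cos.card = H.index - 1 := by
    rw [hcos, Finset.filter_ne', Finset.card_erase_of_mem (Finset.mem_univ _), Finset.card_univ,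
      ← Nat.card_eq_fintype_card, ← Subgroup.index_eq_card]
  have houtcard : out.card = 26163 * H.index - 26163 := by
    have hin : (Finset.univ.filter fun x : G => orderOf x = 2 ∧ x ∈ H).card = 26163 := by
      rw [← hI0, ← Fintype.card_subtype, ← Nat.card_eq_fintype_card]
      exact Nat.card_congr
        { toFun := fun x => ⟨⟨x.1, x.2.2⟩, (hordH _).trans x.2.1⟩
          invFun := fun x => ⟨x.1, (hordH x.1).symm.trans x.2, x.1.2⟩
          left_inv := fun _ => rfl
          right_inv := fun _ => rfl }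
    have hall : (Finset.univ.filter fun x : G => orderOf x = 2).card = 26163 * H.index := by
      rw [← hI, ← Fintype.card_subtype, ← Nat.card_eq_fintype_card]
    have hs := Finset.card_filter_add_card_filter_not (s := Finset.univ.filter fun x : G => orderOf x = 2)
      (p := fun x => x ∈ H)
    rw [Finset.filter_filter, Finset.filter_filter, hin, hall] at hs
    rw [hout]
    omega
  obtain ⟨q, hq, hfib⟩ := Finset.exists_le_card_fiber_of_mul_le_card_of_maps_to (s := out) (t := cos)
    (f := fun x => (x : G ⧸ H)) (n := 26163)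
    (fun x hx => Finset.mem_filter.2 ⟨Finset.mem_univ _, fun e' => (Finset.mem_filter.1 hx).2.2 (by
      simpa using QuotientGroup.eq.1 e'.symm)⟩)
    (Finset.card_pos.1 (by rw [hcoscard]; omega)) (by rw [hcoscard, houtcard]; omega)
  set fib := out.filter (fun x : G => (x : G ⧸ H) = q) with hfibdef
  obtain ⟨t, ht⟩ : fib.Nonempty := Finset.card_pos.1 (lt_of_lt_of_le (by norm_num) hfib)
  obtain ⟨htout, htq⟩ := Finset.mem_filter.1 ht
  obtain ⟨-, hto, htH⟩ := Finset.mem_filter.1 htout
  have htt : t * t = 1 := by rw [← pow_two, ← hto, pow_orderOf_eq_one]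
  have hti : t⁻¹ = t := inv_eq_of_mul_eq_one_right htt
  set S : Subgroup H := ((H.map (MulAut.conj t).toMonoidHom).subgroupOf H) with hS
  have hodd : ¬ 2 ∣ Nat.card S := by
    intro hd
    haveI : Fact (Nat.Prime 2) := ⟨Nat.prime_two⟩
    obtain ⟨x, hx⟩ := exists_prime_orderOf_dvd_card' 2 hd
    obtain ⟨y, hy, hye⟩ := mem_subgroupOf.1 x.2
    refine hsep t htH (x : H) (x : H).2 ?_ ?_
    · have hye' : t * y * t⁻¹ = ((x : H) : G) := hye
      rw [← hye', show t⁻¹ * (t * y * t⁻¹) * t = y by group]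
      exact hy
    · rw [Subgroup.orderOf_coe, Subgroup.orderOf_coe, hx]
  have hmemS : ∀ x ∈ fib, ∃ y : S, ((y : H) : G) = t * x := by
    intro x hx
    obtain ⟨⟨hxo, -⟩, hxq⟩ : (orderOf x = 2 ∧ x ∉ H) ∧ (x : G ⧸ H) = q := by
      simpa [hfibdef, hout] using Finset.mem_filter.1 hx
    have hxx : x * x = 1 := by rw [← pow_two, ← hxo, pow_orderOf_eq_one]
    have hm : t * x ∈ H := by
      have := QuotientGroup.eq.1 (htq.trans hxq.symm)
      rwa [hti] at this
    refine ⟨⟨⟨t * x, hm⟩, mem_subgroupOf.2 ⟨x * t, ?_, ?_⟩⟩, rfl⟩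
    · have := Subgroup.inv_mem _ hm
      rwa [mul_inv_rev, inv_eq_of_mul_eq_one_right hxx, hti] at this
    · show t * (x * t) * t⁻¹ = t * x
      group
  choose φ hφ using hmemS
  have hSbig : 26163 ≤ Nat.card S := by
    refine hfib.trans ?_
    rw [← Fintype.card_coe, ← Nat.card_eq_fintype_card]
    refine Nat.card_le_card_of_injective (fun x : fib => φ x.1 x.2) fun x y hxy => Subtype.ext ?_
    have := congrArg (fun s : S => ((s : H) : G)) hxy
    simp only [hφ] at this
    exact mul_left_cancel this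
  -- transport to the third Janko group
  obtain ⟨x19, hx19, hcx⟩ := CfsgLib.Recog.J3T.exists_nineteen hω hF
  have := odd_small hJc hx19 hcx (S.map e.toMonoidHom) (by
    rwa [Subgroup.card_map_of_injective (fun a b hab => e.injective hab)])
  rw [Subgroup.card_map_of_injective (fun a b hab => e.injective hab)] at this
  omega

end CfsgLib.Recog.J3T
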