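import Cfsg.Agent.Lib.Recog.JankoThree.Cases
import Cfsg.Agent.Lib.Sporadic.J3Out
import Mathlib

/-!
Owner: helper29. The eight letters in the third Janko group, and the relations they satisfy.
-/

set_option autoImplicit false
set_option linter.all false
set_option Elab.async false
set_option maxRecDepth 20000

namespace CfsgLib.Recog.J3T

open CfsgLib.Recog.SporBound CfsgLib.Recog.JTwoU
open CfsgLib.Sporadic.J3 CfsgLib.Sporadic.J3.OutData Cfsg.Spor

/-- Packed coordinates of the eight letters. -/
def codes : List ℕ := [142183105, 101356655, 50828896, 174686474, 54727256, 133202752, 231608202, 167609456]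

/-- The five letters of the subgroup of order 8160. -/
def hsub : List (List ℕ) := [[5], [4, 1, 4, 0, 4, 1, 4], [4, 1, 4, 1, 4, 1, 4], [4, 1, 4, 2, 4, 1, 4], kW]

/-- The short relations of the subgroup, in its own letters. -/
def cheap : List (List ℕ) := [[2, 0, 4, 2, 0, 4], [3, 2, 4, 3, 2, 4], [2, 1, 4, 2, 1, 4, 2, 1, 4]]

/-- The long relation of the subgroup, in the eight letters. -/
def longW : List ℕ := red (rep 4 ([4, 1, 4, 5, 0, 1, 2, 1, 0, 4, 1, 4] ++ kW))

/-- An element carrying `z` to the outer involution. -/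
def hW : List ℕ := [7, 2, 0, 7, 3, 1, 7, 5, 1, 7, 0, 7, 0, 7]

/-- The images of the seven letters under it, in `z c i X k`. -/
def conjW : List (List ℕ) :=
  [[4], [3, 4, 3, 4, 0, 4, 3, 4], [0, 4, 2, 3, 4, 2, 3, 4, 0], [1, 3, 4, 2, 4, 3], [1, 4, 3, 4], [1], [4, 0, 4]]

/-- Words for three generators. -/
def genW : List (List ℕ) :=
  [[4, 2, 4, 1, 0, 4, 2], [0, 1, 4, 1, 4, 0, 2], [7, 1, 0, 7, 1, 0, 7, 2, 7, 0, 1, 7, 0, 1, 7, 0]]

/-- The words that multiply to one. -/
noncomputable def jWords : List (List ℕ) :=
  (List.range 8).map (fun k => [k, k]) ++ J2UC.cert.rels ++ extraP ++ mainRels ++ cheap.map (fun w => red (sub hsub w)) ++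
    [longW] ++ (List.range 4).map (fun k =>
      [[0], [0, 1, 2, 0, 2, 1, 0, 1, 2, 0, 2, 1, 0], [0, 1, 2, 0, 2, 1, 0, 1, 2, 0, 2, 1, 0, 1, 2],
        [0, 2, 1, 0, 1, 2, 0]].getD k [] ++ [k]) ++
    (List.range 7).map (fun k => hW ++ [k] ++ hW.reverse ++ (sub five (conjW.getD k [])).reverse)

/-- Products of listed codes. -/
noncomputable def jchk (w : List ℕ) : Bool :=
  (w.all fun k => Nat.blt k 8) && chkEq (w.map fun k => codes.getD k 0) []

theorem jWords_check : jWords.all jchk = true := by decide +kernel

theorem gen_check : chkEq ((genW.getD 0 []).map fun k => codes.getD k 0) [elC] = true ∧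
    chkEq ((genW.getD 1 []).map fun k => codes.getD k 0) [elE] = true ∧
    chkEq ((genW.getD 2 []).map fun k => codes.getD k 0) [elD] = true := by decide +kernel

theorem z_check : chkEq [133202752] [] = false := by decide +kernel

variable {F : Type*} [Field F] [Fintype F] [CharP F 2] {ω : F} (hω : ω ^ 2 + ω + 1 = 0)
include hω

/-- The letters in the third Janko group. -/
noncomputable def jl (k : ℕ) : J3 F ω := if k < 8 then el hω (codes.getD k 0) else 1

theorem ev_jl : ∀ w : List ℕ, (∀ k ∈ w, k < 8) → ev (jl hω) w = lp hω (w.map fun k => codes.getD k 0)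
  | [], _ => (lp_nil hω).symm
  | k :: w, hw => by
    rw [ev_cons, List.map_cons, lp_cons, ev_jl w fun x hx => hw x (List.mem_cons_of_mem _ hx), jl,
      if_pos (hw k List.mem_cons_self)]

theorem jl_words : ∀ w ∈ jWords, ev (jl hω) w = 1 := by
  intro w hw
  have h := List.all_eq_true.1 jWords_check w hw
  simp only [jchk, Bool.and_eq_true, List.all_eq_true, Nat.blt_eq] at h
  rw [ev_jl hω w h.1]
  exact eq_of_chkEq hω h.2

theorem jl_sq (k : ℕ) : jl hω k * jl hω k = 1 := by
  by_cases hk : k < 8
  · have := jl_words hω [k, k] (List.mem_append_left _ (List.mem_append_left _ (List.mem_append_left _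
      (List.mem_append_left _ (List.mem_append_left _ (List.mem_append_left _ (List.mem_append_left _
        (List.mem_map.2 ⟨k, List.mem_range.2 hk, rfl⟩))))))))
    simpa [ev] using this
  · rw [jl, if_neg hk, one_mul]

theorem jl_z (hF : Fintype.card F = 4) : jl hω 5 ≠ 1 := by
  intro e
  have h : lp hω [133202752] = lp hω [] := by
    rw [lp_nil, lp_single]; simpa [jl, codes] using e
  exact chkEq_false hω hF (by decide +kernel) rfl z_check h

theorem jl_gens : Subgroup.closure {g | ∃ k < 8, g = jl hω k} = ⊤ := by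
  refine top_le_iff.1 ?_
  rw [← closure_top hω, Subgroup.closure_le]
  have hmem : ∀ i, ev (jl hω) (genW.getD i []) ∈ Subgroup.closure {g | ∃ k < 8, g = jl hω k} := by
    intro i
    refine ev_mem fun k hk => Subgroup.subset_closure ⟨k, ?_, rfl⟩
    rcases i with _ | _ | _ | i <;> simp [genW] at hk <;> omega
  have key : ∀ i e, chkEq ((genW.getD i []).map fun k => codes.getD k 0) [e] = true →
      el hω e ∈ Subgroup.closure {g | ∃ k < 8, g = jl hω k} := by
    intro i e h
    have h1 := eq_of_chkEq hω h
    simp only [List.map_cons, List.map_nil, List.prod_cons, List.prod_nil, mul_one] at h1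
    rw [← h1]
    have hlt : ∀ k ∈ genW.getD i [], k < 8 := by
      intro k hk
      rcases i with _ | _ | _ | i <;> simp [genW] at hk <;> omega
    have := hmem i
    rw [ev_jl hω _ hlt] at this
    exact this
  rintro _ (rfl | rfl | rfl)
  exacts [key 0 _ gen_check.1, key 1 _ gen_check.2.1, key 2 _ gen_check.2.2]

end CfsgLib.Recog.J3T
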