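import Cfsg.Agent.Lib.Recog.JankoThree.LinearChecks
import Cfsg.Agent.Lib.Sporadic.J3Out
import Cfsg.Agent.Lib.Techniques.PSU34Involution
import Cfsg.Agent.Lib.Classical.SL2Sylow
import Mathlib

/-!
Owner: helper29. The third Janko group has a subgroup `SL(2,16):2`.
-/

set_option autoImplicit false
set_option linter.all false
set_option maxRecDepth 8000

namespace CfsgLib.Recog.J3T.Linear

open Subgroup Cfsg Cfsg.Spor Matrix
open CfsgLib.Sporadic CfsgLib.Sporadic.J3 CfsgLib.Sporadic.J3.Data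
open CfsgLib.Techniques.PSU34Involution (E ad mu toF toF_ad toF_mu toF_one exists_root)
open scoped MatrixGroups

/-- Four bits as an element of the field with sixteen elements. -/
def ofC (a : ℕ) : E := (a % 2, a / 2 % 2, a / 4 % 2, a / 8 % 2)

theorem mul_spec : ∀ a < 16, ∀ b < 16, ofC (mul16 a b) = mu (ofC a) (ofC b) ∧ ofC (a ^^^ b) = ad (ofC a) (ofC b) := by
  decide +kernel

theorem sep_spec : ∀ a < 16, ∀ b < 16, a ≠ b → ∃ y < 16, mul16 (a ^^^ b) y = 1 := by decide +kernel

theorem ent_lt (M k : ℕ) : ent M k < 16 := Nat.lt_succ_of_le (Nat.and_le_right)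

theorem mul16_lt (a b : ℕ) : mul16 a b < 16 := Nat.lt_succ_of_le (Nat.and_le_right)

theorem code_ext {M N : ℕ} (hM : M < 65536) (hN : N < 65536) (h : ∀ k < 4, ent M k = ent N k) : M = N := by
  have e : ∀ M, M < 65536 → M = ent M 0 + 16 * ent M 1 + 256 * ent M 2 + 4096 * ent M 3 := by
    intro M hM
    have key : ∀ k, ent M k = M / 2 ^ (4 * k) % 16 := fun k => by
      show (M >>> (4 * k)) &&& 2 ^ 4 - 1 = _
      rw [Nat.and_two_pow_sub_one_eq_mod, Nat.shiftRight_eq_div_pow]
    rw [key, key, key, key]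
    omega
  rw [e M hM, e N hN, h 0 (by norm_num), h 1 (by norm_num), h 2 (by norm_num), h 3 (by norm_num)]

section field
variable {K : Type*} [Field K] [CharP K 2] {w : K} (hw : w ^ 4 = w + 1)

/-- The value of four bits. -/
def val16 (w : K) (a : ℕ) : K := toF w (ofC a)

/-- The matrix of a code. -/
noncomputable def mat (w : K) (M : ℕ) : Matrix (Fin 2) (Fin 2) K :=
  !![val16 w (ent M 0), val16 w (ent M 1); val16 w (ent M 2), val16 w (ent M 3)]

include hw

theorem val_mul {a b : ℕ} (ha : a < 16) (hb : b < 16) : val16 w (mul16 a b) = val16 w a * val16 w b := by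
  rw [val16, (mul_spec a ha b hb).1, toF_mu hw]; rfl

theorem val_xor {a b : ℕ} (ha : a < 16) (hb : b < 16) : val16 w (a ^^^ b) = val16 w a + val16 w b := by
  rw [val16, (mul_spec a ha b hb).2, toF_ad]; rfl

theorem val_inj {a b : ℕ} (ha : a < 16) (hb : b < 16) (h : val16 w a = val16 w b) : a = b := by
  by_contra hne
  obtain ⟨y, hy, e⟩ := sep_spec a ha b hb hne
  have h1 : val16 w (mul16 (a ^^^ b) y) = 1 := by
    rw [e]; exact toF_one w
  rw [val_mul hw (Nat.xor_lt_two_pow (n := 4) ha hb) hy, val_xor hw ha hb, h, CharTwo.add_self_eq_zero, zero_mul] at h1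
  exact zero_ne_one h1

theorem mat_inj {M N : ℕ} (hM : M < 65536) (hN : N < 65536) (h : mat w M = mat w N) : M = N := by
  refine code_ext hM hN fun k hk => val_inj hw (ent_lt _ _) (ent_lt _ _) ?_
  interval_cases k
  · simpa [mat] using congrFun (congrFun h 0) 0
  · simpa [mat] using congrFun (congrFun h 0) 1
  · simpa [mat] using congrFun (congrFun h 1) 0
  · simpa [mat] using congrFun (congrFun h 1) 1

theorem mat_mul {M N R : ℕ} (h : ∀ k < 4, entMul M N (k / 2) (k % 2) = ent R k) : mat w M * mat w N = mat w R := by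
  have hx : ∀ a b c d : ℕ, a < 16 → b < 16 → c < 16 → d < 16 →
      val16 w (mul16 a b ^^^ mul16 c d) = val16 w a * val16 w b + val16 w c * val16 w d := by
    intro a b c d ha hb hc hd
    rw [val_xor hw (mul16_lt _ _) (mul16_lt _ _), val_mul hw ha hb, val_mul hw hc hd]
  have h0 : entMul M N 0 0 = ent R 0 := h 0 (by norm_num)
  have h1 : entMul M N 0 1 = ent R 1 := h 1 (by norm_num)
  have h2 : entMul M N 1 0 = ent R 2 := h 2 (by norm_num)
  have h3 : entMul M N 1 1 = ent R 3 := h 3 (by norm_num)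
  ext i j
  fin_cases i <;> fin_cases j <;>
    simp [mat, Matrix.mul_apply, Fin.sum_univ_two, ← h0, ← h1, ← h2, ← h3, entMul,
      hx _ _ _ _ (ent_lt _ _) (ent_lt _ _) (ent_lt _ _) (ent_lt _ _)]

theorem mat_det {i : ℕ} (hi : i < 4080) : (mat w (get2 nmat i)).det = 1 := by
  have h := idx_check hi
  simp only [idxOK, Bool.and_eq_true, Nat.beq_eq] at h
  have e := h.1.1.2
  rw [Matrix.det_fin_two]
  simp only [mat, Matrix.of_apply, Matrix.cons_val', Matrix.cons_val_zero, Matrix.cons_val_one,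
    Matrix.cons_val_fin_one]
  rw [CharTwo.sub_eq_add, ← val_mul hw (ent_lt _ _) (ent_lt _ _), ← val_mul hw (ent_lt _ _) (ent_lt _ _),
    ← val_xor hw (mul16_lt _ _) (mul16_lt _ _)]
  exact (congrArg (val16 w) e).trans (toF_one w)

end field

theorem nmat_lt {i : ℕ} (hi : i < 4080) : get2 nmat i < 65536 ∧ get2 nidx i < 8160 ∧ get2 nsrt i < 4080 := by
  have h := idx_check hi
  simp only [idxOK, Bool.and_eq_true, Nat.blt_eq] at h
  exact ⟨h.1.1.1.2, h.1.1.1.1.1, h.1.2⟩

theorem nidx_inj {i j : ℕ} (hi : i < 4080) (hj : j < 4080) (h : get2 nidx i = get2 nidx j) : i = j := by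
  have h1 := idx_check hi
  have h2 := idx_check hj
  simp only [idxOK, Bool.and_eq_true, Nat.beq_eq] at h1 h2
  rw [← h1.1.1.1.1.2, h, h2.1.1.1.1.2]

theorem nmat_inj {i j : ℕ} (hi : i < 4080) (hj : j < 4080) (h : get2 nmat i = get2 nmat j) : i = j := by
  let f : Fin 4080 → Fin 4080 := fun i => ⟨get2 nsrt i, (nmat_lt i.2).2.2⟩
  have hmono : ∀ d a, a + d + 1 < 4080 → get2 nmat (get2 nsrt a) < get2 nmat (get2 nsrt (a + d + 1)) := by
    intro d
    induction d with
    | zero =>
      intro a ha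
      have h := idx_check (show a < 4080 by omega)
      simp only [idxOK, Bool.and_eq_true, Bool.or_eq_true, Nat.beq_eq, Nat.blt_eq, Nat.add_eq] at h
      rcases h.2 with e | e
      · omega
      · exact e
    | succ d ih =>
      intro a ha
      have h1 := ih (a + 1) (by omega)
      rw [show a + 1 + d + 1 = a + (d + 1) + 1 by omega] at h1
      have h := idx_check (show a < 4080 by omega)
      simp only [idxOK, Bool.and_eq_true, Bool.or_eq_true, Nat.beq_eq, Nat.blt_eq, Nat.add_eq] at h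
      rcases h.2 with e | e
      · omega
      · omega
  have key : ∀ a b : Fin 4080, get2 nmat (f a) = get2 nmat (f b) → a = b := by
    intro a b e
    rcases lt_trichotomy a.1 b.1 with hlt | heq | hlt
    · have := hmono (b.1 - a.1 - 1) a.1 (by omega)
      rw [show a.1 + (b.1 - a.1 - 1) + 1 = b.1 by omega] at this
      exact absurd e this.ne
    · exact Fin.ext heq
    · have := hmono (a.1 - b.1 - 1) b.1 (by omega)
      rw [show b.1 + (a.1 - b.1 - 1) + 1 = a.1 by omega] at this
      exact absurd e this.ne'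
  have hs : Function.Surjective f :=
    Finite.injective_iff_surjective.1 fun a b e => key a b (congrArg (fun x : Fin 4080 => get2 nmat x) e)
  obtain ⟨a, ha⟩ := hs ⟨i, hi⟩
  obtain ⟨b, hb⟩ := hs ⟨j, hj⟩
  have hab : a = b := key a b (by rw [ha, hb]; exact h)
  rw [hab, hb] at ha
  exact (congrArg Fin.val ha).symm

/-- The subgroup `SL(2,16):2` of the third Janko group. -/
theorem exists_linear {F : Type*} [Field F] [Fintype F] [CharP F 2] {ω : F} (hω : ω ^ 2 + ω + 1 = 0)
    (hF : Fintype.card F = 4) {K : Type*} [Field K] [Fintype K] [CharP K 2] (hK : Fintype.card K = 16) :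
    ∃ (H : Subgroup (J3 F ω)) (N : Subgroup H), N.Normal ∧ N.index = 2 ∧
      Nonempty (N ≃* Matrix.SpecialLinearGroup (Fin 2) K) := by
  classical
  haveI : Finite (J3 F ω) := Nat.finite_of_card_ne_zero (by rw [card_J3 hω hF]; norm_num)
  obtain ⟨w, hw⟩ := exists_root (F := K) hK
  have Kinj : ∀ {i j : ℕ}, i < 8160 → j < 8160 → Kq hω i = Kq hω j → i = j := by
    intro i j hi hj e
    have := split_inj hω hF (a₁ := (⟨0, by norm_num⟩, ⟨i, hi⟩)) (a₂ := (⟨0, by norm_num⟩, ⟨j, hj⟩))
      (by simp only; rw [e])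
    simpa using this
  have K0 : Kq hω 0 = 1 := by
    obtain ⟨-, A, hA, eA⟩ := rep_Kq hω (show 0 < 8160 by norm_num)
    refine rep_unique' hω hA (rep_one hω) ?_
    rw [eA, (base hω).1.1]
  -- the two subgroups
  let Hm : Submonoid (J3 F ω) :=
    { carrier := {g | ∃ i < 8160, g = Kq hω i}
      one_mem' := ⟨0, by norm_num, K0.symm⟩
      mul_mem' := by
        rintro _ _ ⟨i, hi, rfl⟩ ⟨j, hj, rfl⟩
        obtain ⟨q, hq⟩ := Kq_mul hω hi hj
        exact ⟨q, q.2, hq⟩ }
  let H : Subgroup (J3 F ω) :=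
    { toSubmonoid := Hm
      inv_mem' := fun {g} hg => by
        rw [inv_eq_of_mul_eq_one_right (b := g ^ (orderOf g - 1)) (by
          rw [← pow_succ', Nat.sub_add_cancel (orderOf_pos g), pow_orderOf_eq_one])]
        exact pow_mem (S := Hm) hg _ }
  have cardH : Nat.card H = 8160 := by
    have hbij : Function.Bijective (fun i : Fin 8160 => (⟨Kq hω i, i, i.2, rfl⟩ : H)) :=
      ⟨fun a b e => Fin.ext (Kinj a.2 b.2 (congrArg Subtype.val e)),
        fun g => by obtain ⟨i, hi, e⟩ := g.2; exact ⟨⟨i, hi⟩, Subtype.ext e.symm⟩⟩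
    rw [← Nat.card_eq_of_bijective _ hbij, Nat.card_fin]
  let sl : Fin 4080 → SL(2, K) := fun i => ⟨mat w (get2 nmat i), mat_det hw i.2⟩
  let pr : Fin 4080 → J3 F ω × SL(2, K) := fun i => (Kq hω (get2 nidx i), sl i)
  have hgen : ∀ n, n < 8160 → ∀ hn2 : get2 ntr n < 4080,
      Kq hω (get2 nidx (n / 2)) * Kq hω (gidx.getD (n % 2) 0) = Kq hω (get2 nidx (get2 ntr n)) ∧
      mat w (get2 nmat (n / 2)) * mat w (gmat.getD (n % 2) 0) = mat w (get2 nmat (get2 ntr n)) := by
    intro n hn hn2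
    have h := tr_check hn
    simp only [trOK, Bool.and_eq_true, Nat.blt_eq, Nat.beq_eq] at h
    have hg : gidx.getD (n % 2) 0 < 8160 := by
      rcases Nat.mod_two_eq_zero_or_one n with e | e <;> rw [e]
      · exact base_check.2.2.1
      · exact base_check.2.2.2
    refine ⟨?_, mat_mul hw fun k hk => ?_⟩
    · obtain ⟨-, A, hA, eA⟩ := rep_Kq hω (nmat_lt (show n / 2 < 4080 by omega)).2.1
      obtain ⟨-, B, hB, eB⟩ := rep_Kq hω hg
      obtain ⟨-, C, hC, eC⟩ := rep_Kq hω (nmat_lt hn2).2.1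
      refine rep_unique' hω (rep_mul hω hA hB) hC ?_
      rw [dec_mm hω, eA, eB, eC, ← dec_mm hω]
      exact congrArg _ h.1.2
    · exact Nat.eq_of_beq_eq_true (forallLt_elim h.2 hk)
  have htr : ∀ n < 8160, get2 ntr n < 4080 := fun n hn => by
    have h := tr_check hn
    simp only [trOK, Bool.and_eq_true, Nat.blt_eq] at h
    exact h.1.1
  have h0i : pr ⟨0, by norm_num⟩ = 1 := by
    refine Prod.ext ?_ (Subtype.ext ?_)
    · show Kq hω (get2 nidx 0) = 1
      rw [base_check.1, K0]
    · show mat w (get2 nmat 0) = 1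
      rw [base_check.2.1]
      ext i j
      fin_cases i <;> fin_cases j <;> simp [mat, ent, val16, ofC, toF]
  have hmul : ∀ m : ℕ, ∀ hm : m < 4080, ∀ i : Fin 4080, ∃ q : Fin 4080, pr i * pr ⟨m, hm⟩ = pr q := by
    intro m
    induction m using Nat.strong_induction_on with
    | _ m ih =>
      intro hm i
      rcases eq_or_ne m 0 with rfl | hm0
      · exact ⟨i, by rw [h0i, mul_one]⟩
      have h := par_check hm
      simp only [parOK, Bool.or_eq_true, Bool.and_eq_true, Nat.beq_eq, Nat.blt_eq] at h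
      obtain ⟨hlt, htrp⟩ := h.resolve_left hm0
      set P := get2 npar m with hP
      have hP' : P / 2 < m := hlt
      have hP8 : P < 8160 := by omega
      obtain ⟨q, hq⟩ := ih (P / 2) hP' (by omega) i
      have hn : 2 * q.1 + P % 2 < 8160 := by have := q.2; omega
      refine ⟨⟨get2 ntr (2 * q.1 + P % 2), htr _ hn⟩, ?_⟩
      obtain ⟨a1, a2⟩ := hgen P hP8 (by rw [htrp]; exact hm)
      obtain ⟨b1, b2⟩ := hgen _ hn (htr _ hn)
      rw [htrp] at a1 a2
      rw [show (2 * q.1 + P % 2) / 2 = q.1 by omega, show (2 * q.1 + P % 2) % 2 = P % 2 by omega] at b1 b2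
      have q1 : Kq hω (get2 nidx i) * Kq hω (get2 nidx (P / 2)) = Kq hω (get2 nidx q) := congrArg Prod.fst hq
      have q2 : mat w (get2 nmat i) * mat w (get2 nmat (P / 2)) = mat w (get2 nmat q) :=
        congrArg (fun x => (x.2 : Matrix (Fin 2) (Fin 2) K)) hq
      refine Prod.ext ?_ (Subtype.ext ?_)
      · show Kq hω (get2 nidx i) * Kq hω (get2 nidx m) = _
        rw [← a1, ← mul_assoc, q1, b1]
      · show mat w (get2 nmat i) * mat w (get2 nmat m) = _
        rw [← a2, ← mul_assoc, q2, b2]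
  let Pm : Submonoid (J3 F ω × SL(2, K)) :=
    { carrier := Set.range pr
      one_mem' := ⟨_, h0i⟩
      mul_mem' := by
        rintro _ _ ⟨i, rfl⟩ ⟨j, rfl⟩
        obtain ⟨q, hq⟩ := hmul j j.2 i
        exact ⟨q, hq.symm⟩ }
  let P : Subgroup (J3 F ω × SL(2, K)) :=
    { toSubmonoid := Pm
      inv_mem' := fun {g} hg => by
        rw [inv_eq_of_mul_eq_one_right (b := g ^ (orderOf g - 1)) (by
          rw [← pow_succ', Nat.sub_add_cancel (orderOf_pos g), pow_orderOf_eq_one])]
        exact pow_mem (S := Pm) hg _ }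
  have prinj1 : Function.Injective fun i => (pr i).1 := fun a b e =>
    Fin.ext (nidx_inj a.2 b.2 (Kinj (nmat_lt a.2).2.1 (nmat_lt b.2).2.1 e))
  have prinj2 : Function.Injective sl := fun a b e =>
    Fin.ext (nmat_inj a.2 b.2 (mat_inj hw (nmat_lt a.2).1 (nmat_lt b.2).1 (congrArg Subtype.val e)))
  have cardP : Nat.card P = 4080 := by
    have hbij : Function.Bijective (fun i : Fin 4080 => (⟨pr i, i, rfl⟩ : P)) :=
      ⟨fun a b e => prinj1 (congrArg (fun x : P => (x : J3 F ω × SL(2, K)).1) e),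
        fun g => by obtain ⟨i, e⟩ := g.2; exact ⟨i, Subtype.ext e⟩⟩
    rw [← Nat.card_eq_of_bijective _ hbij, Nat.card_fin]
  have hfst : ∀ g ∈ P, g.1 ∈ H := by
    rintro _ ⟨i, rfl⟩
    exact ⟨_, (nmat_lt i.2).2.1, rfl⟩
  let φ : P →* H := ((MonoidHom.fst _ _).comp P.subtype).codRestrict H fun g => hfst g g.2
  have hφ : Function.Injective φ := by
    rintro ⟨_, a, rfl⟩ ⟨_, b, rfl⟩ e
    rw [show a = b from prinj1 (congrArg Subtype.val e)]
  refine ⟨H, φ.range, ?_, ?_, ⟨(MonoidHom.ofInjective hφ).symm.trans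
    (MulEquiv.ofBijective ((MonoidHom.snd _ _).comp P.subtype) ?_)⟩⟩
  rotate_left 1
  · have h := φ.range.card_mul_index
    rw [← Nat.card_congr (MonoidHom.ofInjective hφ).toEquiv, cardP, cardH] at h
    omega
  · haveI : Finite SL(2, K) := inferInstance
    refine (Nat.bijective_iff_injective_and_card _).2 ⟨?_, ?_⟩
    · rintro ⟨_, a, rfl⟩ ⟨_, b, rfl⟩ e
      rw [show a = b from prinj2 e]
    · rw [cardP, CfsgLib.Classical.Two.card_SL_two, hK]
      norm_num
  · refine Subgroup.normal_of_index_eq_two ?_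
    have h := φ.range.card_mul_index
    rw [← Nat.card_congr (MonoidHom.ofInjective hφ).toEquiv, cardP, cardH] at h
    omega

end CfsgLib.Recog.J3T.Linear
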