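import Cfsg.Agent.Lib.Recog.JankoThree.LinearDefs

/-! Owner: helper29. Checks of the listed linear group: the start. -/

set_option autoImplicit false
set_option Elab.async false
set_option maxRecDepth 20000

namespace CfsgLib.Recog.J3T.Linear

open CfsgLib.Sporadic CfsgLib.Sporadic.J3 CfsgLib.Sporadic.J3.Data

theorem base_check : get2 nidx 0 = 0 ∧ get2 nmat 0 = 4097 ∧ gidx.getD 0 0 < 8160 ∧ gidx.getD 1 0 < 8160 := by
  decide +kernel

end CfsgLib.Recog.J3T.Linear
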