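import Cfsg.Agent.Lib.Recog.JankoThree.LinearDefs

/-! Owner: helper29. Checks of the listed linear group: indices, block 2. -/

set_option autoImplicit false
set_option Elab.async false
set_option maxRecDepth 20000

namespace CfsgLib.Recog.J3T.Linear

open CfsgLib.Sporadic CfsgLib.Sporadic.J3 CfsgLib.Sporadic.J3.Data

theorem idx2_0 : block idxOK 2040 510 = true := by decide +kernel

theorem idx2_1 : block idxOK 2550 510 = true := by decide +kernel

theorem idx2 : block idxOK 2040 1020 = true := by
  rw [block, forallLt_iff]
  intro i hi
  rcases Nat.lt_or_ge i 510 with h | h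
  · exact block_elim idx2_0 (Nat.le_add_right _ _) (Nat.add_lt_add_left h _)
  · exact block_elim idx2_1 (Nat.add_le_add_left h _) (by simp only [Nat.add_eq]; omega)

theorem par2_0 : block parOK 2040 510 = true := by decide +kernel

theorem par2_1 : block parOK 2550 510 = true := by decide +kernel

theorem par2 : block parOK 2040 1020 = true := by
  rw [block, forallLt_iff]
  intro i hi
  rcases Nat.lt_or_ge i 510 with h | h
  · exact block_elim par2_0 (Nat.le_add_right _ _) (Nat.add_lt_add_left h _)
  · exact block_elim par2_1 (Nat.add_le_add_left h _) (by simp only [Nat.add_eq]; omega)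

end CfsgLib.Recog.J3T.Linear
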