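import Cfsg.Agent.Lib.Recog.JankoThree.LinearDefs

/-! Owner: helper29. Checks of the listed linear group: products, block 1. -/

set_option autoImplicit false
set_option Elab.async false
set_option maxRecDepth 20000

namespace CfsgLib.Recog.J3T.Linear

open CfsgLib.Sporadic CfsgLib.Sporadic.J3 CfsgLib.Sporadic.J3.Data

theorem tr1_0 : block trOK 1020 510 = true := by decide +kernel

theorem tr1_1 : block trOK 1530 510 = true := by decide +kernel

theorem tr1 : block trOK 1020 1020 = true := by
  rw [block, forallLt_iff]
  intro i hi
  rcases Nat.lt_or_ge i 510 with h | h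
  · exact block_elim tr1_0 (Nat.le_add_right _ _) (Nat.add_lt_add_left h _)
  · exact block_elim tr1_1 (Nat.add_le_add_left h _) (by simp only [Nat.add_eq]; omega)

end CfsgLib.Recog.J3T.Linear
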