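import Cfsg.Agent.Lib.Recog.JankoThree.LinearBase
import Cfsg.Agent.Lib.Recog.JankoThree.LinearIdx0
import Cfsg.Agent.Lib.Recog.JankoThree.LinearIdx1
import Cfsg.Agent.Lib.Recog.JankoThree.LinearIdx2
import Cfsg.Agent.Lib.Recog.JankoThree.LinearIdx3
import Cfsg.Agent.Lib.Recog.JankoThree.LinearTr0
import Cfsg.Agent.Lib.Recog.JankoThree.LinearTr1
import Cfsg.Agent.Lib.Recog.JankoThree.LinearTr2
import Cfsg.Agent.Lib.Recog.JankoThree.LinearTr3
import Cfsg.Agent.Lib.Recog.JankoThree.LinearTr4
import Cfsg.Agent.Lib.Recog.JankoThree.LinearTr5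
import Cfsg.Agent.Lib.Recog.JankoThree.LinearTr6
import Cfsg.Agent.Lib.Recog.JankoThree.LinearTr7

/-! Owner: helper29. Checks of the listed linear group: all of them. -/

set_option autoImplicit false
set_option Elab.async false
set_option maxRecDepth 20000

namespace CfsgLib.Recog.J3T.Linear

open CfsgLib.Sporadic CfsgLib.Sporadic.J3 CfsgLib.Sporadic.J3.Data

theorem idx_check {i : ℕ} (h : i < 4080) : idxOK i = true := by
  rcases Nat.lt_or_ge i 2040 with h' | h'
  · rcases Nat.lt_or_ge i 1020 with h'' | h''
    · exact block_elim idx0 (Nat.zero_le _) (by omega)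
    · exact block_elim idx1 h'' (by omega)
  · rcases Nat.lt_or_ge i 3060 with h'' | h''
    · exact block_elim idx2 h' (by omega)
    · exact block_elim idx3 h'' (by omega)

theorem par_check {i : ℕ} (h : i < 4080) : parOK i = true := by
  rcases Nat.lt_or_ge i 2040 with h' | h'
  · rcases Nat.lt_or_ge i 1020 with h'' | h''
    · exact block_elim par0 (Nat.zero_le _) (by omega)
    · exact block_elim par1 h'' (by omega)
  · rcases Nat.lt_or_ge i 3060 with h'' | h''
    · exact block_elim par2 h' (by omega)
    · exact block_elim par3 h'' (by omega)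

theorem tr_check {n : ℕ} (hn : n < 8160) : trOK n = true := by
  rcases Nat.lt_or_ge n 4080 with h | h
  · rcases Nat.lt_or_ge n 2040 with h | h
    · rcases Nat.lt_or_ge n 1020 with h | h
      · exact block_elim tr0 (Nat.zero_le _) (by omega)
      · exact block_elim tr1 h (by omega)
    · rcases Nat.lt_or_ge n 3060 with h' | h'
      · exact block_elim tr2 h (by omega)
      · exact block_elim tr3 h' (by omega)
  · rcases Nat.lt_or_ge n 6120 with h' | h'
    · rcases Nat.lt_or_ge n 5100 with h'' | h''
      · exact block_elim tr4 h (by omega)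
      · exact block_elim tr5 h'' (by omega)
    · rcases Nat.lt_or_ge n 7140 with h'' | h''
      · exact block_elim tr6 h' (by omega)
      · exact block_elim tr7 h'' (by omega)

end CfsgLib.Recog.J3T.Linear
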