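import Cfsg.Agent.Lib.Sporadic.J3Check
import Cfsg.Agent.Lib.Recog.JankoThree.LinearData

/-!
Owner: helper29. The checks to run on the listed linear group.
-/

set_option autoImplicit false
set_option Elab.async false
set_option maxRecDepth 20000

namespace CfsgLib.Recog.J3T.Linear

open CfsgLib.Sporadic CfsgLib.Sporadic.J3 CfsgLib.Sporadic.J3.Data

/-- Product in the field with sixteen elements. -/
noncomputable def mul16 (a b : ℕ) : ℕ := Nat.land (Nat.shiftRight table (Nat.mul 4 (Nat.add (Nat.mul 16 a) b))) 15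

/-- An entry of a packed matrix. -/
noncomputable def ent (M k : ℕ) : ℕ := Nat.land (Nat.shiftRight M (Nat.mul 4 k)) 15

/-- An entry of a product. -/
noncomputable def entMul (M N i j : ℕ) : ℕ :=
  Nat.xor (mul16 (ent M (Nat.mul 2 i)) (ent N j)) (mul16 (ent M (Nat.add (Nat.mul 2 i) 1)) (ent N (Nat.add 2 j)))

/-- The element listed at a position. -/
noncomputable def at' (i : ℕ) : ℕ := get2 kel (get2 nidx i)

noncomputable def trOK (n : ℕ) : Bool :=
  Nat.blt (get2 ntr n) 4080 &&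
    Nat.beq (mm (at' (Nat.div n 2)) (get2 kel (gidx.getD (Nat.mod n 2) 0))) (at' (get2 ntr n)) &&
    forallLt 4 fun k => Nat.beq (entMul (get2 nmat (Nat.div n 2)) (gmat.getD (Nat.mod n 2) 0) (Nat.div k 2) (Nat.mod k 2))
      (ent (get2 nmat (get2 ntr n)) k)

noncomputable def parOK (i : ℕ) : Bool :=
  Nat.beq i 0 || (Nat.blt (Nat.div (get2 npar i) 2) i && Nat.beq (get2 ntr (get2 npar i)) i)

noncomputable def idxOK (i : ℕ) : Bool :=
  Nat.blt (get2 nidx i) 8160 && Nat.beq (get2 npos (get2 nidx i)) i && Nat.blt (get2 nmat i) 65536 &&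
    Nat.beq (Nat.xor (mul16 (ent (get2 nmat i) 0) (ent (get2 nmat i) 3)) (mul16 (ent (get2 nmat i) 1) (ent (get2 nmat i) 2))) 1 &&
    Nat.blt (get2 nsrt i) 4080 && (Nat.beq (Nat.add i 1) 4080 ||
      Nat.blt (get2 nmat (get2 nsrt i)) (get2 nmat (get2 nsrt (Nat.add i 1))))

end CfsgLib.Recog.J3T.Linear
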