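import Cfsg.Agent.Lib.Recog.JankoThree.Four
import Cfsg.Agent.Lib.Recog.JankoTwoUnique.Setup
import Mathlib

/-!
Owner: helper29. An outer involution fixing a noncentral involution of `Q`.
-/

set_option autoImplicit false
set_option linter.all false
set_option maxRecDepth 8000

namespace CfsgLib.Recog.J3T

open Subgroup Cfsg CfsgLib.Recog
open CfsgLib.Recog.HJType (Local mem_cent ord_two inv_pair invol_conj eq_one_of_pow_odd_two five_invol_conj)
open CfsgLib.Recog.JTwoU (sq_cases comm_cases five_fix move_mul)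

variable {G : Type*} [Group G] [Finite G] {z u : G} {Q Q' : Subgroup G}

/-- Commutators of the two halves in one centre only are impossible. -/
theorem Four.not_one_sided (F : Four z Q u Q')
    (hall : ∀ a ∈ Q ⊓ centralizer ({u} : Set G), ∀ b ∈ Q' ⊓ centralizer ({z} : Set G),
      a * b * a⁻¹ * b⁻¹ = 1 ∨ a * b * a⁻¹ * b⁻¹ = z) : False := by
  classical
  have h := F.hz.loc
  obtain ⟨b, hb, hbV⟩ : ∃ b ∈ Q' ⊓ centralizer ({z} : Set G), b ∉ Q ⊓ Q' := by
    by_contra hc
    push Not at hc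
    have := card_le_of_le (show Q' ⊓ centralizer ({z} : Set G) ≤ Q ⊓ Q' from hc)
    rw [F.symm.left_card, F.card_inf] at this
    omega
  have hbQ : b ∉ Q := fun e => hbV ⟨e, hb.1⟩
  have hbC : b ∈ centralizer ({z} : Set G) := hb.2
  set A := Q ⊓ centralizer ({u} : Set G) with hA
  have bfix : ∀ a ∈ A, b * a * b⁻¹ = a ∨ b * a * b⁻¹ = a * z := by
    intro a ha
    rcases hall a ha b hb with e | e
    · exact Or.inl (mul_inv_eq_iff_eq_mul.2 (mul_inv_eq_iff_eq_mul.1 (mul_inv_eq_one.1 e)).symm)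
    · right
      have hza : a * z = z * a := mem_cent.1 (h.le ha.1)
      have hzb : b * z = z * b := mem_cent.1 hbC
      have e1 : a * b = z * (b * a) := by
        rw [mul_inv_eq_iff_eq_mul, mul_inv_eq_iff_eq_mul] at e
        rw [e, mul_assoc]
      calc b * a * b⁻¹ = z * (z * (b * a)) * b⁻¹ := by rw [← mul_assoc z z, h.zz, one_mul]
        _ = z * (a * b) * b⁻¹ := by rw [e1]
        _ = a * z := by rw [hza]; group
  obtain ⟨π, hπ, hker⟩ := h.quot
  have hb2Q : b * b ∈ Q := by
    rcases sq_cases F.hu.loc hb.1 with e | e <;> rw [e]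
    · exact one_mem _
    · exact F.mem
  set x := π ⟨b, hbC⟩ with hx
  have hx1 : x ≠ 1 := fun e => hbQ ((hker _).1 e)
  have hx2 : x * x = 1 := by
    rw [hx, ← map_mul]; exact (hker _).2 hb2Q
  obtain ⟨k, hk5, hk1, hkinv⟩ := AltFive.exists_inverted _ hx2 hx1
  have hxk2 : x * k * (x * k) = 1 := by
    calc x * k * (x * k) = (x * k * x⁻¹) * (x * x) * k := by group
      _ = 1 := by rw [hx2, hkinv, mul_one, inv_mul_cancel]
  have hxk1 : x * k ≠ 1 := by
    intro e
    have hkx : k = x := by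
      calc k = x * x * k := by rw [hx2, one_mul]
        _ = x := by rw [mul_assoc, e, mul_one]
    refine hk1 ?_
    calc k = k ^ 5 * (k ^ 4)⁻¹ := by group
      _ = 1 := by rw [hk5, hkx, show x ^ 4 = (x * x) * (x * x) by simp only [pow_succ, pow_zero, one_mul, mul_assoc], hx2]; simp
  obtain ⟨y, hy⟩ := five_invol_conj x (x * k) hx2 hx1 hxk2 hxk1
  obtain ⟨c, rfl⟩ := hπ y
  set b' : G := (c : G) * b * (c : G)⁻¹ with hb'
  have hb'C : b' ∈ centralizer ({z} : Set G) := mul_mem (mul_mem c.2 hbC) (Subgroup.inv_mem _ c.2)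
  set g : ↥(centralizer ({z} : Set G)) := ⟨b, hbC⟩ * (c * ⟨b, hbC⟩ * c⁻¹) with hg
  have pg : π g = k := by
    rw [hg, map_mul, map_mul, map_mul, map_inv, ← hx, hy, ← mul_assoc, hx2, one_mul]
  -- a fixed element of `A`
  set A' : Subgroup G := A.map (MulAut.conj (c : G)).toMonoidHom with hA'
  have hA'Q : A' ≤ Q := by
    rintro _ ⟨a, ha, rfl⟩
    exact h.conj_mem c c.2 a ha.1
  obtain ⟨q, hqA, hqA', hq1, hqz⟩ : ∃ q, q ∈ A ∧ q ∈ A' ∧ q ≠ 1 ∧ q ≠ z := by
    by_contra hc
    push Not at hc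
    have hsub : ((A ⊓ A' : Subgroup G) : Set G) ⊆ ({1, z} : Set G) := by
      intro w hw
      by_cases h1 : w = 1
      · simp [h1]
      · simp [hc w hw.1 hw.2 h1]
    have hle := (Set.ncard_le_ncard hsub (Set.toFinite _)).trans (Set.ncard_insert_le _ _)
    rw [Set.ncard_singleton, ← Nat.card_coe_set_eq] at hle
    change Nat.card ↥(A ⊓ A' : Subgroup G) ≤ 2 at hle
    have hAQ : A ≤ Q := inf_le_left
    have c1 := (A.subgroupOf Q).card_mul_index
    rw [Nat.card_congr (subgroupOfEquivOfLe hAQ).toEquiv, show Nat.card A = 16 from F.left_card, h.card] at c1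
    have c2 := (A'.subgroupOf Q).card_mul_index
    rw [Nat.card_congr (subgroupOfEquivOfLe hA'Q).toEquiv, hA',
      card_map_of_injective (MulEquiv.injective (MulAut.conj (c : G))), show Nat.card A = 16 from F.left_card,
      h.card] at c2
    have c3 := Subgroup.index_inf_le (H := A.subgroupOf Q) (K := A'.subgroupOf Q)
    have c4 := ((A ⊓ A').subgroupOf Q).card_mul_index
    rw [Nat.card_congr (subgroupOfEquivOfLe (inf_le_of_left_le hAQ)).toEquiv, h.card] at c4
    have e : (A ⊓ A').subgroupOf Q = A.subgroupOf Q ⊓ A'.subgroupOf Q := rfl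
    rw [e] at c4
    rw [hA'] at c4 c3
    nlinarith
  have hqQ : q ∈ Q := hqA.1
  have hbq : b * q * b⁻¹ = q ∨ b * q * b⁻¹ = q * z := bfix q hqA
  have hb'q : b' * q * b'⁻¹ = q ∨ b' * q * b'⁻¹ = q * z := by
    obtain ⟨a, ha, rfl⟩ := hqA'
    have hcz : (c : G) * z * (c : G)⁻¹ = z := by rw [mem_cent.1 c.2, mul_inv_cancel_right]
    show b' * ((c : G) * a * (c : G)⁻¹) * b'⁻¹ = (c : G) * a * (c : G)⁻¹ ∨
      b' * ((c : G) * a * (c : G)⁻¹) * b'⁻¹ = (c : G) * a * (c : G)⁻¹ * z
    have e : b' * ((c : G) * a * (c : G)⁻¹) * b'⁻¹ = (c : G) * (b * a * b⁻¹) * (c : G)⁻¹ := by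
      rw [hb']; group
    rw [e]
    rcases bfix a ha with e' | e' <;> rw [e']
    · exact Or.inl rfl
    · right
      conv_rhs => arg 2; rw [← hcz]
      group
  have hgq : ∀ n : ℕ, ((g ^ n : ↥(centralizer ({z} : Set G))) : G) * q * ((g ^ n : ↥(centralizer ({z} : Set G))) : G)⁻¹ = q ∨
      ((g ^ n : ↥(centralizer ({z} : Set G))) : G) * q * ((g ^ n : ↥(centralizer ({z} : Set G))) : G)⁻¹ = q * z := by
    intro n
    induction n with
    | zero => left; simp
    | succ n ih =>
      rw [pow_succ', Subgroup.coe_mul]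
      exact move_mul h (g ^ n).2 (move_mul h hb'C hbq hb'q hbC) ih g.2
  have hg5Q : ((g ^ 5 : ↥(centralizer ({z} : Set G))) : G) ∈ Q := (hker _).1 (by rw [map_pow, pg, hk5])
  have h32 : (g ^ 5) ^ 32 = 1 := Subtype.ext (by
    have := pow_card_eq_one' (x := (⟨_, hg5Q⟩ : Q))
    rw [h.card] at this
    rw [SubgroupClass.coe_pow]
    exact congrArg Subtype.val this)
  have p96 : π (g ^ 96) = k := by
    rw [map_pow, pg, show (96 : ℕ) = 5 * 19 + 1 from rfl, pow_succ, pow_mul, hk5, one_pow, one_mul]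
  refine (five_fix h (g ^ 96).2 ?_ (fun e => hk1 (p96.symm.trans ((hker _).2 e))) hqQ (hgq 96)).elim hq1 hqz
  rw [← SubgroupClass.coe_pow, ← pow_mul, show 96 * 5 = 5 * 32 * 3 from rfl, pow_mul, pow_mul, h32, one_pow,
    OneMemClass.coe_one]

/-- An outer involution centralizing `u`. -/
theorem Four.exists_outer_over (F : Four z Q u Q') :
    ∃ t : G, t * t = 1 ∧ t ∈ centralizer ({z} : Set G) ∧ t ∉ Q ∧ t * u = u * t := by
  classical
  obtain ⟨T, hTK, hT64, hT2, hAT, hBT, hnorm, hmemT, hdec, hcomm⟩ := F.exists_top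
  set A := Q ⊓ centralizer ({u} : Set G) with hA
  set B := Q' ⊓ centralizer ({z} : Set G) with hB
  let c : G → G → G := fun a b => a * b * a⁻¹ * b⁻¹
  have cmem : ∀ a ∈ A, ∀ b ∈ B, c a b ∈ Q ⊓ Q' := fun a ha b hb => hcomm a (hAT ha) b (hBT hb)
  have hK : ∀ a ∈ A, a ∈ centralizer ({z} : Set G) ⊓ centralizer ({u} : Set G) := fun a ha => hTK (hAT ha)
  have hKB : ∀ b ∈ B, b ∈ centralizer ({z} : Set G) ⊓ centralizer ({u} : Set G) := fun b hb => hTK (hBT hb)
  by_cases hex : ∃ a ∈ A, ∃ b ∈ B, c a b = u * z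
  · obtain ⟨a, ha, b, hb, e⟩ := hex
    have huz : u * z ≠ 1 := F.prod_ne.1
    have hcen : ∀ {w x : G}, w ∈ centralizer ({z} : Set G) ⊓ centralizer ({u} : Set G) → x ∈ Q ⊓ Q' →
        w * x * w⁻¹ * x⁻¹ = 1 := fun hw hx => by
      rw [F.central hw hx, mul_inv_cancel_right, mul_inv_cancel]
    have haV : a ∉ Q ⊓ Q' := fun hv => huz (by
      rw [← e]
      show a * b * a⁻¹ * b⁻¹ = 1
      rw [← F.central (hKB b hb) hv]; group)
    have hbV : b ∉ Q ⊓ Q' := fun hv => huz (e.symm.trans (hcen (hK a ha) hv))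
    have ha2 : a * a = z := (sq_cases F.hz.loc ha.1).resolve_left fun h1 => haV (F.mem_inf.2 (by
      rcases F.hz.loc.commuting_cases F.mem ha.1 F.uu h1 (mem_cent.1 ha.2).symm ⟨F.u_ne, F.ne⟩ with e | e | e | e
      exacts [Or.inl e, Or.inr (Or.inl e), Or.inr (Or.inr (Or.inl e)), Or.inr (Or.inr (Or.inr e))]))
    have hb2 : b * b = u := (sq_cases F.hu.loc hb.1).resolve_left fun h1 => hbV (F.mem_inf.2 (by
      rcases F.hu.loc.commuting_cases F.mem' hb.1 F.hz.loc.zz h1 (mem_cent.1 hb.2).symm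
        ⟨F.hz.loc.z_ne, F.ne.symm⟩ with e | e | e | e
      exacts [Or.inl e, Or.inr (Or.inr (Or.inl e)), Or.inr (Or.inl e),
        Or.inr (Or.inr (Or.inr (e.trans F.comm)))]))
    refine ⟨a * b, ?_, (mul_mem (hK a ha) (hKB b hb)).1, fun hq => hbV ⟨?_, hb.1⟩, ?_⟩
    · have e' : a * b = u * z * (b * a) := by
        have : a * b * a⁻¹ * b⁻¹ = u * z := e
        rw [mul_inv_eq_iff_eq_mul, mul_inv_eq_iff_eq_mul] at this
        rw [this, mul_assoc]
      calc a * b * (a * b) = u * z * (b * (a * a) * b) := by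
            conv_lhs => arg 1; rw [e']
            group
        _ = u * z * (z * (b * b)) := by rw [ha2, mem_cent.1 hb.2]; group
        _ = 1 := by rw [hb2, show u * z * (z * u) = u * (z * z) * u by group, F.hz.loc.zz, mul_one, F.uu]
    · simpa using mul_mem (Q.inv_mem ha.1) hq
    · exact mem_cent.1 (mul_mem (hK a ha) (hKB b hb)).2
  · push Not at hex
    exfalso
    have hvals : ∀ a ∈ A, ∀ b ∈ B, c a b = 1 ∨ c a b = z ∨ c a b = u := by
      intro a ha b hb
      rcases F.mem_inf.1 (cmem a ha b hb) with e | e | e | e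
      exacts [Or.inl e, Or.inr (Or.inl e), Or.inr (Or.inr e), absurd e (hex a ha b hb)]
    have cmul : ∀ a ∈ A, ∀ a' ∈ A, ∀ b ∈ B, c (a * a') b = c a b * c a' b := by
      intro a ha a' ha' b hb
      show a * a' * b * (a * a')⁻¹ * b⁻¹ = a * b * a⁻¹ * b⁻¹ * (a' * b * a'⁻¹ * b⁻¹)
      have h1 := F.central (hK a ha) (cmem a' ha' b hb)
      have h2 := F.central (hKB b hb) (cmem a' ha' b hb)
      calc a * a' * b * (a * a')⁻¹ * b⁻¹ = a * (c a' b) * (b * a⁻¹ * b⁻¹) := by simp only [c]; group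
        _ = c a' b * c a b := by rw [h1]; simp only [c]; group
        _ = c a b * c a' b := (F.central (F.le_cv (cmem a' ha' b hb)) (cmem a ha b hb))
    have cmul' : ∀ a ∈ A, ∀ b ∈ B, ∀ b' ∈ B, c a (b * b') = c a b * c a b' := by
      intro a ha b hb b' hb'
      show a * (b * b') * a⁻¹ * (b * b')⁻¹ = a * b * a⁻¹ * b⁻¹ * (a * b' * a⁻¹ * b'⁻¹)
      have h2 := F.central (hKB b hb) (cmem a ha b' hb')
      calc a * (b * b') * a⁻¹ * (b * b')⁻¹ = (a * b * a⁻¹) * (c a b') * b⁻¹ := by simp only [c]; group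
        _ = c a b * (b * c a b') * b⁻¹ := by simp only [c]; group
        _ = c a b * c a b' := by rw [h2]; group
    have huz : ∀ a ∈ A, (∀ b ∈ B, c a b = 1 ∨ c a b = z) ∨ (∀ b ∈ B, c a b = 1 ∨ c a b = u) := by
      intro a ha
      by_contra hc
      push Not at hc
      obtain ⟨⟨b, hb, b1, bz⟩, b', hb', b'1, b'u⟩ := hc
      have eb : c a b = u := ((hvals a ha b hb).resolve_left b1).resolve_left bz
      have eb' : c a b' = z := ((hvals a ha b' hb').resolve_left b'1).resolve_right b'u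
      exact hex a ha (b * b') (mul_mem hb hb') (by rw [cmul' a ha b hb b' hb', eb, eb'])
    by_cases hz : ∀ a ∈ A, ∀ b ∈ B, c a b = 1 ∨ c a b = z
    · exact F.not_one_sided hz
    · refine F.symm.not_one_sided fun b hb a ha => ?_
      have hinv : b * a * b⁻¹ * a⁻¹ = (c a b)⁻¹ := by simp only [c]; group
      rw [hinv]
      suffices hu' : c a b = 1 ∨ c a b = u by
        rcases hu' with e | e <;> rw [e]
        · exact Or.inl inv_one
        · exact Or.inr (inv_eq_of_mul_eq_one_right F.uu)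
      rcases hvals a ha b hb with e | e | e
      · exact Or.inl e
      · exfalso
        push Not at hz
        obtain ⟨a', ha', b', hb', n1, nz⟩ := hz
        have ea' : c a' b' = u := ((hvals a' ha' b' hb').resolve_left n1).resolve_left nz
        have all' : ∀ w ∈ B, c a' w = 1 ∨ c a' w = u :=
          (huz a' ha').resolve_left fun hh => (hh b' hb').elim n1 nz
        have all : ∀ w ∈ B, c a w = 1 ∨ c a w = z :=
          (huz a ha).resolve_right fun hh => (hh b hb).elim (fun e1 => F.hz.loc.z_ne (e.symm.trans e1))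
            (fun e1 => F.ne (e1.symm.trans e))
        have m1 : c (a * a') b' = c a b' * u := by rw [cmul a ha a' ha' b' hb', ea']
        have m2 : c (a * a') b = z * c a' b := by rw [cmul a ha a' ha' b hb, e]
        rcases huz (a * a') (mul_mem ha ha') with hh | hh
        · rcases all b' hb' with e1 | e1 <;> rw [e1] at m1
          · rcases hh b' hb' with e2 | e2 <;> rw [m1, one_mul] at e2
            · exact F.u_ne e2
            · exact F.ne e2
          · exact hex _ (mul_mem ha ha') b' hb' (m1.trans F.comm)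
        · rcases all' b hb with e1 | e1 <;> rw [e1] at m2
          · rcases hh b hb with e2 | e2 <;> rw [m2, mul_one] at e2
            · exact F.hz.loc.z_ne e2
            · exact F.ne e2.symm
          · exact hex _ (mul_mem ha ha') b hb (m2.trans F.comm)
      · exact Or.inr e

end CfsgLib.Recog.J3T
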