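import Cfsg.Agent.Lib.Recog.JankoThree.J3Letters
import Cfsg.Agent.Lib.Recog.SporBound.J3TCent.Valid
import Cfsg.Agent.Lib.Recog.SporBound.J3TSub.Valid
import Cfsg.Agent.Lib.Recog.SporBound.J3TCheap.Valid
import Cfsg.Agent.Lib.Recog.SporBound.J3TLong.Valid
import Cfsg.Agent.Lib.Recog.SporBound.J3TTop.Valid
import Mathlib

/-!
Owner: helper29. Pairs of letters in the group and in the third Janko group: a bound on what they generate.
-/

set_option autoImplicit false
set_option linter.all false
set_option Elab.async false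
set_option maxRecDepth 20000

namespace CfsgLib.Recog.J3T

open Subgroup Cfsg Cfsg.Spor CfsgLib.Recog CfsgLib.Recog.SporBound
open CfsgLib.Recog.HJType (Local mem_cent ord_two inv_pair)
open CfsgLib.Recog.JTwoU hiding Base exists_base

/-- A word is freely one, is one of the relations, or is checked in the model. -/
noncomputable def known (w : List ℕ) : Bool :=
  red w == [] || (J2UC.cert.rels ++ extraP ++ mainRels).any (fun w' => red w == red w') ||
    ((w.all fun k => Nat.blt k 7) && CModel.same w [])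

theorem check_cent : (J3TCent.cert.rels.all fun r => known (sub five r)) = true ∧
    (J3TCent.cert.subs == [[0], [1], [2], [3]]) = true := by decide +kernel

theorem check_cheap : (J3TCheap.cert.rels.all known) = true ∧
    (J3TCheap.cert.subs.all fun w => w.all fun k => Nat.blt k 7) = true ∧
    ((List.range 3).all fun i => J3TCheap.cert.endsAt (J3TCheap.closers.getD i 0) 0 (red (sub hsub (cheap.getD i [])))) = true ∧
    ((List.range 3).all fun i => CfsgLib.ThreeTrans.CosetIndex.fld (J3TCheap.closers.getD i 0) 0 == 0) = true := by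
  decide +kernel

theorem check_long : (J3TLong.cert.rels.all known) = true ∧
    (J3TLong.cert.subs.all fun w => five.any fun s => red w == red (rep 10 [7, 1] ++ s ++ (rep 10 [7, 1]).reverse)) = true ∧
    J3TLong.cert.endsAt (J3TLong.closers.getD 0 0) 0 longW = true ∧
    (CfsgLib.ThreeTrans.CosetIndex.fld (J3TLong.closers.getD 0 0) 0 == 0) = true := by
  decide +kernel

theorem check_sub : (J3TSub.cert.rels.all fun r =>
      known (sub hsub r) || cheap.contains r || r == rep 4 [0, 1, 2, 3, 2, 1, 4]) = true ∧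
    (J3TSub.cert.subs == [[0], [1], [2], [3]]) = true := by decide +kernel

theorem check_top : (J3TTop.cert.rels.all known) = true ∧
    (J3TTop.cert.subs.all fun w => hsub.any fun s => red w == red s) = true := by decide +kernel

theorem check_sizes : J3TCent.cert.n = 120 ∧ J3TSub.cert.n = 68 ∧ J3TTop.cert.n = 18468 ∧
    J3TCent.cert.kl = [0, 1, 2, 3, 4] ∧ J3TSub.cert.kl = [0, 1, 2, 3, 4] ∧ J3TTop.cert.kl = [0, 1, 2, 4, 7] := by
  decide +kernel

variable {G : Type*} [Group G] [Finite G] {z u v σ : G} {Q Q' : Subgroup G}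

/-- A nontrivial subgroup normalized by the centralizer of `z` inside it contains `z`. -/
theorem z_mem_of_normal (hz : Hyp z Q) {N : Subgroup G} (hN : N ≤ centralizer ({z} : Set G))
    (hconj : ∀ r ∈ centralizer ({z} : Set G), ∀ x ∈ N, r * x * r⁻¹ ∈ N) {x : G} (hx : x ∈ N) (hx1 : x ≠ 1) : z ∈ N := by
  have key : ∀ y ∈ N, y ∈ Q → y ≠ 1 → z ∈ N := by
    intro y hy hyQ hy1
    by_cases hc : ∀ q ∈ Q, y * q = q * y
    · rcases hz.loc.center_cases hyQ hc with e | e
      · exact absurd e hy1
      · exact e ▸ hy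
    · push Not at hc
      obtain ⟨q, hq, hne⟩ := hc
      rcases comm_cases hz.loc hq hyQ with e | e
      · exact absurd (mul_inv_eq_iff_eq_mul.1 e).symm hne
      · have := hconj q (hz.loc.le hq) y hy
        rw [e] at this
        exact (mul_mem_cancel_left hy).1 this
  by_cases hxQ : x ∈ Q
  · exact key x hx hxQ hx1
  · obtain ⟨q, hq, hne⟩ : ∃ q ∈ Q, x * q ≠ q * x := by
      by_contra hc
      push Not at hc
      exact hxQ (hz.loc.self x (hN hx) hc)
    refine key (x * q * x⁻¹ * q⁻¹) ?_ (mul_mem (hz.loc.conj_mem x (hN hx) q hq) (Subgroup.inv_mem _ hq)) ?_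
    · rw [show x * q * x⁻¹ * q⁻¹ = x * (q * x⁻¹ * q⁻¹) by group]
      exact mul_mem hx (hconj q (hz.loc.le hq) _ (Subgroup.inv_mem _ hx))
    · intro e
      exact hne (mul_inv_eq_iff_eq_mul.1 (mul_inv_eq_one.1 e))

/-- The five letters as a list of words, read through a map of letters. -/
def five' {M : Type*} [Group M] (b : ℕ → M) (L : List (List ℕ)) : ℕ → M := fun i => ev b (L.getD i [])

theorem five'_inv {M : Type*} [Group M] {b : ℕ → M} {L : List (List ℕ)}
    (h : ∀ i < L.length, ev b (L.getD i [] ++ L.getD i []) = 1) : ∀ i, five' b L i * five' b L i = 1 := by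
  intro i
  rw [five', ← ev_append]
  rcases lt_or_ge i L.length with hi | hi
  · exact h i hi
  · rw [List.getD_eq_default _ _ hi]; rfl

variable (B : Base z Q u Q' v σ) {F : Type*} [Field F] [Fintype F] [CharP F 2] {ω : F} (hω : ω ^ 2 + ω + 1 = 0)
include B hω

set_option maxHeartbeats 2000000 in
/-- The cover: pairs generate at most three times the order of the third Janko group. -/
theorem Base.exists_cover (hF : Fintype.card F = 4) :
    ∃ D : Subgroup (G × J3 F ω), Finite D ∧ Nat.card D ≤ 150698880 ∧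
      centralizer ({z} : Set G) ≤ D.map (MonoidHom.fst G (J3 F ω)) ∧
      (∃ q ∈ D.map (MonoidHom.fst G (J3 F ω)), q * z ≠ z * q) ∧
      D.map (MonoidHom.snd G (J3 F ω)) = ⊤ ∧ (z, jl hω 5) ∈ D ∧ jl hω 5 ≠ 1 := by
  classical
  haveI : Finite (J3 F ω) := Nat.finite_of_card_ne_zero (by rw [CfsgLib.Sporadic.J3.card_J3 hω hF]; norm_num)
  obtain ⟨p, hpQ, hpz, hne, hp2, hpσ, hpu, hrels⟩ := B.exists_gens
  have hmain := B.main_rels hpz hne hp2 hpσ hpu hrels
  have hz := B.four.hz
  set a := lett v σ u z p with ha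
  set j := jl hω with hj
  set b : ℕ → G × J3 F ω := fun k => (a k, j k) with hb
  set f1 := MonoidHom.fst G (J3 F ω)
  set f2 := MonoidHom.snd G (J3 F ω)
  have hpair : ∀ w, ev b w = (ev a w, ev j w) := fun w => ev_pair a j w
  have hinv : ∀ k, b k * b k = 1 := fun k => Prod.ext (B.letters_inv hp2 k) (jl_sq hω k)
  have hbig : ∀ k, 8 ≤ k → b k = 1 := fun k hk => by
    obtain ⟨i, rfl⟩ : ∃ i, k = i + 8 := ⟨k - 8, by omega⟩
    exact Prod.ext rfl (by rw [hb]; simp only; rw [hj, jl, if_neg (by omega)]; rfl)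
  -- the relations of the centralizer
  have hJ : ∀ w ∈ J2UC.cert.rels ++ extraP ++ mainRels, ev j w = 1 := by
    intro w hw
    refine jl_words hω w ?_
    simp only [jWords, List.mem_append] at hw ⊢
    tauto
  have hG : ∀ w ∈ J2UC.cert.rels ++ extraP ++ mainRels, ev a w = 1 := fun w hw =>
    (List.mem_append.1 hw).elim (hrels w) (hmain w)
  have hlow : ∀ k < 4, ev j ([[0], [0, 1, 2, 0, 2, 1, 0, 1, 2, 0, 2, 1, 0], [0, 1, 2, 0, 2, 1, 0, 1, 2, 0, 2, 1, 0, 1, 2],
      [0, 2, 1, 0, 1, 2, 0]].getD k [] ++ [k]) = 1 := by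
    intro k hk
    refine jl_words hω _ ?_
    simp only [jWords, List.mem_append]
    exact Or.inl (Or.inr (List.mem_map.2 ⟨k, List.mem_range.2 hk, rfl⟩))
  have hR : CRels b := by
    refine ⟨hinv, hbig, fun k hk => ?_, fun w hw => ?_⟩
    · refine Prod.ext ?_ ?_
      · refine (B.low p k hk).trans ?_
        exact (map_aA f1 (b 0) (b 1 * b 2) k).symm
      · refine Eq.trans ?_ (map_aA f2 (b 0) (b 1 * b 2) k).symm
        show j k = aA (j 0) (j 1 * j 2) k
        have h := hlow k hk
        rw [ev_append, ev_single] at h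
        have hjj : j k * j k = 1 := jl_sq hω k
        rw [← inv_eq_of_mul_eq_one_right hjj, inv_eq_of_mul_eq_one_left h]
        have hs : (j 1 * j 2)⁻¹ = j 2 * j 1 := by
          rw [mul_inv_rev, inv_eq_of_mul_eq_one_right (jl_sq hω 1), inv_eq_of_mul_eq_one_right (jl_sq hω 2)]
        interval_cases k <;> simp [ev, aA, wC, wD, wW, hs, mul_assoc]
    · rw [hpair, hJ w (by simp [hw]), hG w (by simp [hw])]; rfl
  obtain ⟨hfin7, hle7⟩ := hR.card_le
  haveI := hfin7
  set S7 := seven b with hS7def
  set C := centralizer ({z} : Set G) with hC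
  have hmem7 : ∀ w : List ℕ, (∀ k ∈ w, k < 7) → ev b w ∈ S7 := fun w hw => ev_mem fun k hk => seven_mem b (hw k hk)
  have hmap7 : S7.map f1 = C := by
    refine le_antisymm ?_ ?_
    · rintro _ ⟨d, hd, rfl⟩
      obtain ⟨w, hw, rfl⟩ := mem_closure_words hinv (P := fun k => k < 7) hd
      show (ev b w).1 ∈ C
      rw [hpair]; exact B.mem_C p hw
    · intro x hx
      obtain ⟨w, hw, rfl⟩ := B.exists_word hx
      exact ⟨ev b w, hmem7 w hw, by show (ev b w).1 = _; rw [hpair]; exact ev_seven p hw⟩
  have card7 : Nat.card S7 = 1920 := by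
    refine le_antisymm hle7 ?_
    rw [← hz.loc.card_centralizer, ← hC, ← hmap7]
    exact Nat.le_of_dvd Nat.card_pos (Subgroup.card_map_dvd _ _)
  have inj1 : ∀ d ∈ S7, d.1 = 1 → d = 1 := by
    intro d hd h
    have hbij : Function.Bijective (f1.subgroupMap S7) :=
      (Nat.bijective_iff_surjective_and_card _).2 ⟨f1.subgroupMap_surjective S7, by
        rw [card7, hmap7, hC, hz.loc.card_centralizer]⟩
    exact congrArg Subtype.val (hbij.1 (a₁ := ⟨d, hd⟩) (a₂ := 1) (Subtype.ext h))
  have hjz : j 5 ≠ 1 := jl_z hω hF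
  have inj2 : ∀ d ∈ S7, d.2 = 1 → d = 1 := by
    intro d hd h
    by_contra hd1
    set N : Subgroup G := (S7 ⊓ f2.ker).map f1 with hN
    have hNC : N ≤ C := hmap7 ▸ map_mono inf_le_left
    have hconj : ∀ r ∈ C, ∀ x ∈ N, r * x * r⁻¹ ∈ N := by
      rintro r hr _ ⟨e, he, rfl⟩
      obtain ⟨e', he', rfl⟩ := hmap7.symm ▸ hr
      exact ⟨e' * e * e'⁻¹, ⟨mul_mem (mul_mem he' he.1) (Subgroup.inv_mem _ he'),
        (f2.normal_ker).conj_mem e he.2 e'⟩, by simp⟩
    have hd1' : d.1 ≠ 1 := fun e => hd1 (inj1 d hd e)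
    obtain ⟨e, he, hez⟩ := z_mem_of_normal hz hNC hconj (x := d.1) ⟨d, ⟨hd, h⟩, rfl⟩ hd1'
    have e5 : b 5 = e := by
      have := inj1 (b 5 * e⁻¹) (mul_mem (seven_mem b (by norm_num)) (Subgroup.inv_mem _ he.1)) (by
        show z * (f1 e)⁻¹ = 1
        rw [hez, mul_inv_cancel])
      exact mul_inv_eq_one.1 this
    exact hjz (show (b 5).2 = 1 by rw [e5]; exact he.2)
  have hknown : ∀ w, known w = true → ev b w = 1 := by
    intro w h
    simp only [known, Bool.or_eq_true, Bool.and_eq_true, beq_iff_eq, List.any_eq_true, List.all_eq_true,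
      Nat.blt_eq] at h
    rcases h with (h | ⟨w', hw', h⟩) | ⟨hlt, h⟩
    · rw [← ev_red hinv, h]; rfl
    · rw [← ev_red hinv, h, ev_red hinv, hpair, hG w' hw', hJ w' hw']; rfl
    · refine inj1 _ (hmem7 w hlt) ?_
      rw [hpair]
      show ev a w = 1
      rw [ha, ev_seven p hlt, (B.same_iff hlt (by simp)).1 h]; rfl
  -- the centralizer of the outer involution
  set a5 := five' b five with ha5
  have hinv5 : ∀ i, a5 i * a5 i = 1 := by
    refine five'_inv fun i hi => hknown _ ?_
    have : ∀ i < five.length, known (five.getD i [] ++ five.getD i []) = true := by decide +kernel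
    exact this i hi
  set H4 := Subgroup.closure {g | ∃ x ∈ [0, 1, 2, 3], g = a5 x} with hH4
  set H5 := Subgroup.closure {g | ∃ x ∈ [0, 1, 2, 3, 4], g = a5 x} with hH5
  have hH4le : H4 ≤ S7 := by
    rw [hH4, closure_le]
    rintro _ ⟨x, hx, rfl⟩
    refine hmem7 _ (five_sub x ?_)
    simp at hx; omega
  haveI : Finite H4 := Finite.of_injective _ (Subgroup.inclusion_injective hH4le)
  have card4 : Nat.card H4 ≤ 16 := by
    have h4 : ∀ d : H4, ∃ i : Fin 16, (d : G × J3 F ω).1 = ev (lett v σ u z 1) (CModel.e i) := by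
      intro d
      have hdC : (d : G × J3 F ω).1 ∈ C := hmap7 ▸ ⟨d, hH4le d.2, rfl⟩
      have hdc : (d : G × J3 F ω).1 ∈ centralizer ({wC v σ} : Set G) := by
        have : H4 ≤ (centralizer ({wC v σ} : Set G)).comap f1 := by
          rw [hH4, closure_le]
          rintro _ ⟨x, hx, rfl⟩
          refine mem_cent.2 ?_
          show (ev b (five.getD x [])).1 * wC v σ = wC v σ * (ev b (five.getD x [])).1
          have hx4 : x < 4 := by simp at hx; omega
          have hk : ∀ x < 4, known (five.getD x [] ++ [1] ++ (five.getD x []).reverse ++ [1]) = true := by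
            decide +kernel
          have h := congrArg Prod.fst ((hpair _).symm.trans (hknown _ (hk x hx4)))
          simp only [Prod.fst_one] at h
          rw [hpair, ev_append, ev_append, ev_append, ev_reverse (B.letters_inv hp2), ev_single] at *
          exact mul_inv_eq_iff_eq_mul.1 ((eq_inv_of_mul_eq_one_left h).trans
            (inv_eq_of_mul_eq_one_right B.c2))
        exact this d.2
      obtain ⟨i, hi, e⟩ := B.cent_word hdC (mem_cent.1 hdc)
      exact ⟨⟨i, hi⟩, e⟩
    choose f hf using h4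
    have : Function.Injective f := fun d d' e => Subtype.ext (mul_inv_eq_one.1
      (inj1 _ (mul_mem (hH4le d.2) (Subgroup.inv_mem _ (hH4le d'.2))) (by
        show (d : G × J3 F ω).1 * ((d' : G × J3 F ω).1)⁻¹ = 1
        rw [hf, hf, e, mul_inv_cancel])))
    simpa using Nat.card_le_card_of_injective f this
  have hbig5 : a5 CfsgLib.ThreeTrans.CosetIndex.eqLetter = 1 := rfl
  obtain ⟨hcc1, hcc2⟩ := check_cent
  simp only [List.all_eq_true] at hcc1
  obtain ⟨hfin5, hle5⟩ := Cert.card_le hinv5 hbig5 J3TCent.ok H4 H5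
    (fun w hw => by
      show ev a5 w = 1
      rw [ha5, show five' b five = fun i => ev b (five.getD i []) from rfl, ← ev_sub]
      exact hknown _ (hcc1 w hw))
    (fun w hw => by
      rw [beq_iff_eq.1 hcc2] at hw
      show ev a5 w ∈ H4
      simp only [List.mem_cons, List.not_mem_nil, or_false] at hw
      rcases hw with rfl | rfl | rfl | rfl <;> rw [ev_single] <;> exact subset_closure ⟨_, by simp, rfl⟩)
    (by rw [check_sizes.2.2.2.1])
  haveI := hfin5
  have hle5' : Nat.card H5 ≤ 1920 := hle5.trans (by rw [check_sizes.1]; omega)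
  have inj5 : ∀ d ∈ H5, d.2 = 1 → d = 1 := by
    -- a conjugate of the image of the centralizer lies in the image
    set g := ev j hW with hg
    have hsub : S7.map f2 ≤ (H5.map f2).map (MulAut.conj g⁻¹).toMonoidHom := by
      rw [hS7def, seven, MonoidHom.map_closure, closure_le]
      rintro _ ⟨_, ⟨k, hk, rfl⟩, rfl⟩
      have h := jl_words hω (hW ++ [k] ++ hW.reverse ++ (sub five (conjW.getD k [])).reverse) (by
        simp only [jWords, List.mem_append]
        exact Or.inr (List.mem_map.2 ⟨k, List.mem_range.2 hk, rfl⟩))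
      rw [← hj, ev_append, ev_append, ev_append, ev_reverse (jl_sq hω), ev_reverse (jl_sq hω), ev_single,
        mul_inv_eq_one, ← hg] at h
      refine ⟨ev j (sub five (conjW.getD k [])), ⟨ev b (sub five (conjW.getD k [])), ?_, ?_⟩, ?_⟩
      · rw [ev_sub]
        refine ev_mem fun i hi => subset_closure ⟨i, ?_, rfl⟩
        interval_cases k <;> simp [conjW] at hi ⊢ <;> omega
      · show (ev b _).2 = _
        rw [hpair]
      · show g⁻¹ * ev j (sub five (conjW.getD k [])) * g⁻¹⁻¹ = j k
        rw [← h]; group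
    have c7 : Nat.card ↥(S7.map f2) = 1920 := by
      rw [← card7]
      refine (Nat.card_congr (MulEquiv.ofBijective (f2.subgroupMap S7) ⟨?_, f2.subgroupMap_surjective S7⟩).toEquiv).symm
      intro d d' e
      exact Subtype.ext (mul_inv_eq_one.1 (inj2 _ (mul_mem d.2 (Subgroup.inv_mem _ d'.2)) (by
        show (d : G × J3 F ω).2 * ((d' : G × J3 F ω).2)⁻¹ = 1
        rw [mul_inv_eq_one]
        exact congrArg Subtype.val e)))
    have h5 : Nat.card H5 = Nat.card ↥(H5.map f2) := by
      refine le_antisymm ?_ (Nat.le_of_dvd Nat.card_pos (Subgroup.card_map_dvd _ _))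
      refine hle5'.trans ?_
      rw [← c7]
      refine (Nat.le_of_dvd Nat.card_pos (Subgroup.card_dvd_of_le hsub)).trans ?_
      exact Nat.le_of_dvd Nat.card_pos (Subgroup.card_map_dvd _ _)
    have hbij : Function.Bijective (f2.subgroupMap H5) :=
      (Nat.bijective_iff_surjective_and_card _).2 ⟨f2.subgroupMap_surjective H5, h5⟩
    intro d hd h
    exact congrArg Subtype.val (hbij.1 (a₁ := ⟨d, hd⟩) (a₂ := 1) (Subtype.ext h))
  have hbigb : b CfsgLib.ThreeTrans.CosetIndex.eqLetter = 1 := hbig _ (by decide)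
  -- the short and the long relations
  obtain ⟨hs1, hs2, hs3, hs4⟩ := check_cheap
  simp only [List.all_eq_true, List.mem_range, beq_iff_eq, Nat.blt_eq] at hs1 hs2 hs3 hs4
  have hcheap : ∀ r ∈ cheap, ev b (sub hsub r) = 1 := by
    intro r hr
    obtain ⟨i, hi, rfl⟩ := List.mem_iff_getElem.1 hr
    obtain ⟨f, hf0, hgood, -⟩ := Cert.exists_orbit hinv hbigb J3TCheap.ok S7 (fun w hw => hknown w (hs1 w hw))
      (fun w hw => hmem7 w (hs2 w hw))
    have hi3 : i < 3 := by simpa [cheap] using hi
    have hm := Cert.mem_of_endsAt hinv hbigb J3TCheap.ok hf0 hgood (hs3 i hi3) (hs4 i hi3)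
    rw [List.getD_eq_getElem _ _ hi] at hm
    rw [← ev_red hinv]
    refine inj2 _ hm ?_
    show (ev b (red (sub hsub cheap[i]))).2 = 1
    rw [hpair]
    refine jl_words hω _ ?_
    simp only [jWords, List.mem_append]
    exact Or.inl (Or.inl (Or.inl (Or.inr (List.mem_map.2 ⟨_, List.getElem_mem hi, rfl⟩))))
  obtain ⟨hl1, hl2, hl3, hl4⟩ := check_long
  simp only [List.all_eq_true, List.any_eq_true, beq_iff_eq] at hl1 hl2 hl4
  have hlong : ev b longW = 1 := by
    have hkk : ev b (rep 10 [7, 1]) = 1 := hknown _ (by decide +kernel)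
    obtain ⟨f, hf0, hgood, -⟩ := Cert.exists_orbit hinv hbigb J3TLong.ok H5 (fun w hw => hknown w (hl1 w hw))
      (fun w hw => by
        obtain ⟨s, hs, e⟩ := hl2 w hw
        show ev b w ∈ H5
        rw [← ev_red hinv, e, ev_red hinv, ev_append, ev_append, ev_reverse hinv, hkk, one_mul, inv_one, mul_one]
        obtain ⟨i, hi, rfl⟩ := List.mem_iff_getElem.1 hs
        refine subset_closure ⟨i, ?_, ?_⟩
        · simp [five] at hi ⊢; omega
        · show _ = ev b (five.getD i [])
          rw [List.getD_eq_getElem _ _ hi])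
    refine inj5 _ (Cert.mem_of_endsAt hinv hbigb J3TLong.ok hf0 hgood hl3 hl4) ?_
    show (ev b longW).2 = 1
    rw [hpair]
    refine jl_words hω _ ?_
    simp only [jWords, List.mem_append, List.mem_singleton]
    exact Or.inl (Or.inl (Or.inr trivial))
  -- the subgroup of order 8160
  set a8 := five' b hsub with ha8
  have hinv8 : ∀ i, a8 i * a8 i = 1 := by
    refine five'_inv fun i hi => hknown _ ?_
    have : ∀ i < hsub.length, known (hsub.getD i [] ++ hsub.getD i []) = true := by decide +kernel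
    exact this i hi
  set K := Subgroup.closure {g | ∃ x ∈ [0, 1, 2, 3], g = a8 x} with hK
  set H := Subgroup.closure {g | ∃ x ∈ [0, 1, 2, 3, 4], g = a8 x} with hH
  have hKle : K ≤ S7 := by
    rw [hK, closure_le]
    rintro _ ⟨x, hx, rfl⟩
    refine hmem7 _ ?_
    have : ∀ x < 4, ∀ y ∈ hsub.getD x [], y < 7 := by decide
    exact this x (by simp at hx; omega)
  haveI : Finite K := Finite.of_injective _ (Subgroup.inclusion_injective hKle)
  have cardK : Nat.card K ≤ 120 := by
    set e := ev b [4, 1, 4] with he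
    have hs3' : (b 1 * b 2) ^ 3 = 1 := by
      have := hknown [1, 2, 1, 2, 1, 2] (by decide +kernel)
      simpa [ev, pow_three, mul_assoc] using this
    have h5 : (b 0 * (b 1 * b 2)) ^ 5 = 1 := by
      have := hknown [0, 1, 2, 0, 1, 2, 0, 1, 2, 0, 1, 2, 0, 1, 2] (by decide +kernel)
      simpa [ev, pow_succ, mul_assoc] using this
    obtain ⟨hfA, hA⟩ := card_tri (hinv 0) hs3' h5
    set A := closure {g | ∃ x ∈ ([0, 1, 2] : List ℕ), g = tri (b 0) (b 1 * b 2) x} with hAdef
    haveI := hfA
    have hvA : b 0 ∈ A := subset_closure ⟨0, by simp, rfl⟩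
    have hsA : b 1 * b 2 ∈ A := by
      rw [s_word (hinv 0) hs3' h5]
      refine mul_mem (mul_mem (mul_mem (mul_mem hvA ?_) ?_) hvA) ?_
      · exact subset_closure ⟨1, by simp, rfl⟩
      · exact subset_closure ⟨2, by simp, rfl⟩
      · exact subset_closure ⟨1, by simp, rfl⟩
    have hcA : wC (b 0) (b 1 * b 2) ∈ A := mul_mem (mul_mem (mul_mem (mul_mem (mul_mem (mul_mem (mul_mem (mul_mem hvA hsA) hvA)
      (inv_mem hsA)) hvA) hsA) hvA) (inv_mem hsA)) hvA
    have hAlow : ∀ k < 3, b k ∈ A := by
      intro k hk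
      rw [hR.low k (by omega)]
      interval_cases k
      · exact hvA
      · exact hcA
      · exact mul_mem hcA hsA
    have hAC : A ≤ centralizer ({b 5} : Set (G × J3 F ω)) := by
      have hb5 : ∀ k < 3, b k * b 5 = b 5 * b k := by
        intro k hk
        have hk' : ∀ k < 3, known [k, 5, k, 5] = true := by decide +kernel
        have := hknown _ (hk' k hk)
        simp only [ev, List.map_cons, List.map_nil, List.prod_cons, List.prod_nil, mul_one] at this
        calc b k * b 5 = b k * b 5 * (b k * b 5 * (b k * b 5))  := by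
              rw [show b k * b 5 * (b k * b 5) = 1 by rw [← this]; group, mul_one]
          _ = (b k * b 5 * (b k * b 5)) * (b k * b 5) := by group
          _ = b k * b 5 := by rw [show b k * b 5 * (b k * b 5) = 1 by rw [← this]; group, one_mul]
          _ = b 5 * b k := by
            rw [eq_comm, ← inv_eq_of_mul_eq_one_right (show b k * b 5 * (b k * b 5) = 1 by rw [← this]; group),
              mul_inv_rev, inv_eq_of_mul_eq_one_right (hinv k), inv_eq_of_mul_eq_one_right (hinv 5)]
      rw [hAdef, closure_le]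
      have hv : b 0 ∈ centralizer ({b 5} : Set (G × J3 F ω)) := mem_cent.2 (hb5 0 (by norm_num))
      have hs : b 1 * b 2 ∈ centralizer ({b 5} : Set (G × J3 F ω)) :=
        mul_mem (mem_cent.2 (hb5 1 (by norm_num))) (mem_cent.2 (hb5 2 (by norm_num)))
      rintro _ ⟨x, hx, rfl⟩
      simp only [List.mem_cons, List.not_mem_nil, or_false] at hx
      rcases hx with rfl | rfl | rfl
      · exact hv
      · exact mul_mem (mul_mem hs hv) (Subgroup.inv_mem _ hs)
      · exact mul_mem (mul_mem (Subgroup.inv_mem _ hs) hv) hs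
    let φ : A × zpowers (b 5) →* G × J3 F ω := MonoidHom.noncommCoprod A.subtype (zpowers (b 5)).subtype
      (fun x y => by
        obtain ⟨i, hi⟩ := mem_zpowers_iff.1 y.2
        show Commute (x : G × J3 F ω) (y : G × J3 F ω)
        rw [← hi]
        exact (show Commute (x : G × J3 F ω) (b 5) from mem_cent.1 (hAC x.2)).zpow_right i)
    have hexe : e * e = 1 := by rw [he, ← ev_append]; exact hknown _ (by decide +kernel)
    have hze : e * b 5 * e = b 5 := by
      have hk : ev b ([4, 1, 4] ++ [5] ++ [4, 1, 4] ++ [5]) = 1 := hknown _ (by decide +kernel)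
      rw [ev_append, ev_append, ev_append, ← he, ev_single] at hk
      rw [eq_inv_of_mul_eq_one_left hk, inv_eq_of_mul_eq_one_right (hinv 5)]
    have hK' : K ≤ φ.range.map (MulAut.conj e).toMonoidHom := by
      rw [hK, closure_le]
      rintro _ ⟨x, hx, rfl⟩
      have hmemA : ∀ k < 3, b k ∈ φ.range := fun k hk => ⟨(⟨b k, hAlow k hk⟩, 1), by simp [φ]⟩
      have hconj : ∀ k < 3, ev b ([4, 1, 4] ++ [k] ++ [4, 1, 4]) ∈ φ.range.map (MulAut.conj e).toMonoidHom := by
        intro k hk
        refine ⟨b k, hmemA k hk, ?_⟩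
        show e * b k * e⁻¹ = _
        rw [ev_append, ev_append, ← he, ev_single, inv_eq_of_mul_eq_one_right hexe]
      simp only [List.mem_cons, List.not_mem_nil, or_false] at hx
      rcases hx with rfl | rfl | rfl | rfl
      · refine ⟨b 5, ⟨(1, ⟨b 5, mem_zpowers _⟩), by simp [φ]⟩, ?_⟩
        show e * b 5 * e⁻¹ = ev b [5]
        rw [inv_eq_of_mul_eq_one_right hexe, hze, ev_single]
      · exact hconj 0 (by norm_num)
      · exact hconj 1 (by norm_num)
      · exact hconj 2 (by norm_num)
    have hz2 : Nat.card (zpowers (b 5)) ≤ 2 := by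
      rw [Nat.card_zpowers]
      exact Nat.le_of_dvd (by norm_num) (orderOf_dvd_of_pow_eq_one (by rw [pow_two]; exact hinv 5))
    haveI : Finite (zpowers (b 5)) := (isOfFinOrder_iff_pow_eq_one.2 ⟨2, by norm_num, by rw [pow_two]; exact hinv 5⟩).finite_zpowers
    calc Nat.card K ≤ Nat.card ↥(φ.range.map (MulAut.conj e).toMonoidHom) :=
          Nat.le_of_dvd Nat.card_pos (Subgroup.card_dvd_of_le hK')
      _ ≤ Nat.card φ.range := Nat.le_of_dvd Nat.card_pos (Subgroup.card_map_dvd _ _)
      _ ≤ Nat.card (A × zpowers (b 5)) := Nat.card_le_card_of_surjective _ φ.rangeRestrict_surjective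
      _ ≤ 120 := by rw [Nat.card_prod]; exact Nat.mul_le_mul hA hz2
  have hbig8 : a8 CfsgLib.ThreeTrans.CosetIndex.eqLetter = 1 := rfl
  obtain ⟨hh1, hh2⟩ := check_sub
  simp only [List.all_eq_true, Bool.or_eq_true, List.contains_iff_mem, beq_iff_eq] at hh1
  obtain ⟨hfinH, hleH⟩ := Cert.card_le hinv8 hbig8 J3TSub.ok K H
    (fun w hw => by
      show ev a8 w = 1
      rw [ha8, show five' b hsub = fun i => ev b (hsub.getD i []) from rfl, ← ev_sub]
      rcases hh1 w hw with (h | h) | h
      · exact hknown _ h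
      · exact hcheap w h
      · subst h
        have hk : known ([5, 4, 1, 4] ++ [5, 4, 1, 4]) = true := by decide +kernel
        have h1 := hknown _ hk
        have e1 : ev b [5, 4, 1, 4] = ev b [4, 1, 4, 5] := by
          rw [ev_append] at h1
          rw [eq_inv_of_mul_eq_one_left h1, ← ev_reverse hinv]
          rfl
        have e2 : ev b (sub hsub [0, 1, 2, 3, 2, 1, 4]) = ev b ([4, 1, 4, 5, 0, 1, 2, 1, 0, 4, 1, 4] ++ kW) := by
          rw [← ev_red hinv (sub hsub _), show red (sub hsub [0, 1, 2, 3, 2, 1, 4]) =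
            red ([5, 4, 1, 4] ++ ([0, 1, 2, 1, 0, 4, 1, 4] ++ kW)) by decide +kernel, ev_red hinv, ev_append, e1,
            ← ev_append]
          rfl
        rw [ev_sub, ev_rep, ← ev_sub, e2, ← ev_rep, ← ev_red hinv]
        exact hlong)
    (fun w hw => by
      rw [beq_iff_eq.1 hh2] at hw
      show ev a8 w ∈ K
      simp only [List.mem_cons, List.not_mem_nil, or_false] at hw
      rcases hw with rfl | rfl | rfl | rfl <;> rw [ev_single] <;> exact subset_closure ⟨_, by simp, rfl⟩)
    (by rw [check_sizes.2.2.2.2.1])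
  haveI := hfinH
  have hleH' : Nat.card H ≤ 8160 := hleH.trans (by rw [check_sizes.2.1]; omega)
  -- the whole
  obtain ⟨ht1, ht2⟩ := check_top
  simp only [List.all_eq_true, List.any_eq_true, beq_iff_eq] at ht1 ht2
  set D := Subgroup.closure {g | ∃ x ∈ [0, 1, 2, 4, 7], g = b x} with hD
  obtain ⟨hfinD, hleD⟩ := Cert.card_le hinv hbigb J3TTop.ok H D (fun w hw => hknown w (ht1 w hw))
    (fun w hw => by
      obtain ⟨s, hs, e⟩ := ht2 w hw
      show ev b w ∈ H
      rw [← ev_red hinv, e, ev_red hinv]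
      obtain ⟨i, hi, rfl⟩ := List.mem_iff_getElem.1 hs
      refine subset_closure ⟨i, ?_, ?_⟩
      · simp [hsub] at hi ⊢; omega
      · show _ = ev b (hsub.getD i [])
        rw [List.getD_eq_getElem _ _ hi])
    (by rw [check_sizes.2.2.2.2.2])
  haveI := hfinD
  have hbD : ∀ k < 8, b k ∈ D := by
    have h5 : ∀ k ∈ [0, 1, 2, 4, 7], b k ∈ D := fun k hk => subset_closure ⟨k, hk, rfl⟩
    have hw : ∀ k w, (∀ x ∈ w, x ∈ [0, 1, 2, 4, 7]) → known (w ++ [k]) = true → b k ∈ D := by
      intro k w hw hk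
      have := hknown _ hk
      rw [ev_append, ev_single] at this
      rw [← inv_eq_of_mul_eq_one_right (hinv k), ← eq_inv_of_mul_eq_one_left this]
      exact ev_mem fun x hx => h5 x (hw x hx)
    intro k hk
    interval_cases k
    exacts [h5 0 (by simp), h5 1 (by simp), h5 2 (by simp),
      hw 3 [0, 2, 1, 0, 1, 2, 0] (by decide) (by decide +kernel), h5 4 (by simp),
      hw 5 [4, 0, 4, 0, 4, 0, 4, 0] (by decide) (by decide +kernel),
      hw 6 [1, 2, 0, 2, 1, 0, 4, 0, 4, 0, 1, 2, 0, 2, 1] (by decide) (by decide +kernel), h5 7 (by simp)]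
  refine ⟨D, hfinD, hleD.trans ?_, ?_, ⟨p, ⟨b 7, hbD 7 (by norm_num), rfl⟩, hne⟩, ?_,
    hbD 5 (by norm_num), hjz⟩
  · rw [check_sizes.2.2.1]; omega
  · rw [← hmap7, hS7def, seven]
    refine map_mono ((closure_le _).2 ?_)
    rintro _ ⟨k, hk, rfl⟩
    exact hbD k (by omega)
  · refine top_le_iff.1 ?_
    rw [← jl_gens hω, closure_le]
    rintro _ ⟨k, hk, rfl⟩
    exact ⟨b k, hbD k hk, rfl⟩

end CfsgLib.Recog.J3T
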