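import Cfsg.Agent.Lib.Recog.JankoThree.Setup
import Mathlib

/-!
Owner: helper29. The point outside the centralizer of `z`.
-/

set_option autoImplicit false
set_option linter.all false
set_option maxRecDepth 8000

namespace CfsgLib.Recog.J3T

open Subgroup Cfsg CfsgLib.Recog CfsgLib.Recog.SporBound
open CfsgLib.Recog.HJType (Local mem_cent ord_two inv_pair invol_conj eq_one_of_pow_odd_two five_invol_conj five_three_cent)
open CfsgLib.Recog.JTwoU hiding Base exists_base
open scoped commutatorElement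

local notation "A5" => alternatingGroup (Fin 5)

variable {G : Type*} [Group G] [Finite G] {z u v σ : G} {Q Q' : Subgroup G} (B : Base z Q u Q' v σ)
include B

theorem Base.hom : ∃ f : A5 →* G, f stdV = v ∧ f stdS = σ := exists_hom B.v2 B.σ3 B.vs5

theorem Base.relA : ∀ w ∈ relsA, ev (aA v σ) w = 1 := by
  obtain ⟨f, fv, fs⟩ := B.hom
  intro w hw
  have := congrArg f (std_relsA w hw)
  rwa [map_ev, map_one, show (fun k => f (aA stdV stdS k)) = aA v σ from
    funext fun k => by rw [map_aA, fv, fs]] at this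

theorem Base.ids : wC v σ * wD v σ = σ ∧
    wW v σ * (σ * wW v σ * σ⁻¹) = σ⁻¹ * wW v σ * σ := by
  obtain ⟨f, fv, fs⟩ := B.hom
  have h1 := congrArg f std_ids.1
  have h2 := congrArg f std_ids.2.1
  constructor
  · simpa only [map_mul, map_inv, map_wC, map_wW, wD, fv, fs] using h1
  · simpa only [map_mul, map_inv, map_wW, fv, fs] using h2

theorem Base.ne_one : v * wD v σ ≠ 1 ∧ wC v σ * wW v σ * wC v σ * wD v σ ≠ 1 := by
  obtain ⟨f, fv, fs⟩ := B.hom
  haveI : IsSimpleGroup A5 := alternatingGroup.isSimpleGroup_five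
  have hinj : Function.Injective f := by
    rcases (MonoidHom.normal_ker f).eq_bot_or_eq_top with e | e
    · exact (MonoidHom.ker_eq_bot_iff f).1 e
    · exact absurd (by rw [← fs]; exact MonoidHom.mem_ker.1 (e ▸ mem_top stdS)) B.σ1
  constructor
  · intro e
    refine std_ids.2.2.1 (hinj ?_)
    rw [map_one, ← e]
    simp only [map_mul, map_wC, wD, fv, fs]
  · intro e
    refine std_ids.2.2.2 (hinj ?_)
    rw [map_one, ← e]
    simp only [map_mul, map_wC, map_wW, wD, fv, fs]

theorem Base.c2 : wC v σ * wC v σ = 1 := by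
  simpa [ev, aA] using B.relA [1, 1] (by simp [relsA])

theorem Base.d2 : wD v σ * wD v σ = 1 := by
  simpa [ev, aA] using B.relA [2, 2] (by simp [relsA])

theorem Base.w2 : wW v σ * wW v σ = 1 := by
  simpa [ev, aA] using B.relA [3, 3] (by simp [relsA])

theorem Base.csc : wC v σ * σ * wC v σ = σ⁻¹ := by
  have h := B.ids.1
  refine eq_inv_of_mul_eq_one_left ?_
  calc wC v σ * σ * wC v σ * σ = wC v σ * (wC v σ * wD v σ) * wC v σ * (wC v σ * wD v σ) := by rw [h]
    _ = (wC v σ * wC v σ) * wD v σ * (wC v σ * wC v σ) * wD v σ := by group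
    _ = 1 := by rw [B.c2, one_mul, mul_one, B.d2]

theorem Base.cC : wC v σ ∈ centralizer ({z} : Set G) := by
  have hv := B.vC
  have hs := B.σK.1
  exact mul_mem (mul_mem (mul_mem (mul_mem (mul_mem (mul_mem (mul_mem (mul_mem hv hs) hv) (inv_mem hs)) hv) hs) hv)
    (inv_mem hs)) hv

theorem Base.wC' : wW v σ ∈ centralizer ({z} : Set G) :=
  mul_mem (mul_mem (mul_mem (mul_mem B.vC (inv_mem B.σK.1)) B.vC) B.σK.1) B.vC

theorem Base.conj_not_comm {a : G} (haC : a ∈ centralizer ({z} : Set G)) (ha2 : a * a = 1)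
    (hmove : ¬ (a * u * a⁻¹ = u ∨ a * u * a⁻¹ = u * z)) : (u * a) ^ 4 = z := by
  have F := B.four
  have hu := F.mem
  have hai : a⁻¹ = a := inv_eq_of_mul_eq_one_right ha2
  have hxQ : a * u * a ∈ Q := by
    have := F.hz.loc.conj_mem a haC u hu
    rwa [hai] at this
  have hx2 := conj_invol ha2 F.uu
  have hne : u * (a * u * a) ≠ a * u * a * u := by
    intro e
    have haz : a * z * a⁻¹ = z := by rw [mem_cent.1 haC, mul_inv_cancel_right]
    rcases F.hz.loc.commuting_cases hu hxQ F.uu hx2 e ⟨F.u_ne, F.ne⟩ with e | e | e | e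
    · refine F.u_ne ((conj_eq_one_iff (a := a)).1 ?_)
      rw [hai]; exact e
    · refine F.ne (?_ : u = z)
      calc u = a⁻¹ * (a * u * a⁻¹) * a := by group
        _ = a⁻¹ * z * a := by rw [hai, e]
        _ = z := by rw [mul_assoc, ← mem_cent.1 haC, inv_mul_cancel_left]
    · exact hmove (Or.inl (by rw [hai]; exact e))
    · exact hmove (Or.inr (by rw [hai]; exact e))
  have e4 : (u * a) ^ 4 = u * (a * u * a) * u⁻¹ * (a * u * a)⁻¹ := by
    rw [inv_eq_of_mul_eq_one_right F.uu, inv_eq_of_mul_eq_one_right hx2]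
    simp only [pow_succ, pow_zero, one_mul, mul_assoc]
  rw [e4]
  rcases comm_cases F.hz.loc hu hxQ with e | e
  · exact absurd (mul_inv_eq_iff_eq_mul.1 e) hne
  · rw [e, mem_cent.1 (F.hz.loc.le hxQ), mul_inv_cancel_right]

theorem Base.sigma_conj : σ * u * σ⁻¹ = u := by rw [mem_cent.1 B.σK.2, mul_inv_cancel_right]

theorem Base.uv4 : (u * v) ^ 4 = z := by
  refine B.conj_not_comm B.vC B.v2 fun e => ?_
  exact inner_ne_move B.four.hz.loc (mul_mem B.vC B.σK.1) B.vs5 B.vsQ B.four.mem B.four.u_ne B.four.ne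
    (move_mul B.four.hz.loc B.σK.1 e (Or.inl B.sigma_conj) B.vC)

theorem Base.uc4 : (u * wC v σ) ^ 4 = z := by
  refine B.conj_not_comm B.cC B.c2 fun e => ?_
  have hwu : wW v σ * u * (wW v σ)⁻¹ = u := by rw [B.wu, mul_inv_cancel_right]
  have h1 := move_mul B.four.hz.loc B.wC' e (Or.inl hwu) B.cC
  have h2 := move_mul B.four.hz.loc B.σK.1 h1 (Or.inl B.sigma_conj) (mul_mem B.cC B.wC')
  have hcw : wC v σ * wW v σ * σ = wC v σ * wW v σ * wC v σ * wD v σ := by
    conv_lhs => arg 2; rw [← B.ids.1]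
    rw [← mul_assoc]
  have h5 : (wC v σ * wW v σ * σ) ^ 5 = 1 := by
    rw [hcw]
    have := B.relA [1, 3, 1, 2, 1, 3, 1, 2, 1, 3, 1, 2, 1, 3, 1, 2, 1, 3, 1, 2] (by simp [relsA])
    simpa [ev, aA, pow_succ, mul_assoc] using this
  refine inner_ne_move B.four.hz.loc (mul_mem (mul_mem B.cC B.wC') B.σK.1) h5 (fun hQ => ?_) B.four.mem
    B.four.u_ne B.four.ne h2
  have h32 := pow_card_eq_one' (x := (⟨_, hQ⟩ : Q))
  rw [B.four.hz.loc.card] at h32
  exact B.ne_one.2 (hcw ▸ eq_one_of_pow_odd_two (k := 5) (congrArg Subtype.val h32) (by decide) h5)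

theorem Base.u_move : wC v σ * u * wC v σ ∈ Q ∧ (wC v σ * u * wC v σ) * σ = σ * (wC v σ * u * wC v σ) ∧
    (wC v σ * u * wC v σ) * u * (wC v σ * u * wC v σ) = u * z := by
  set c := wC v σ
  have hci : c⁻¹ = c := inv_eq_of_mul_eq_one_right B.c2
  have hQ : c * u * c ∈ Q := by
    have := B.four.hz.loc.conj_mem c B.cC u B.four.mem
    rwa [hci] at this
  refine ⟨hQ, ?_, ?_⟩
  · have h1 : c * σ = σ⁻¹ * c := by
      calc c * σ = c * σ * (c * c) := by rw [B.c2, mul_one]
        _ = c * σ * c * c := by group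
        _ = σ⁻¹ * c := by rw [B.csc]
    have h2 : c * σ⁻¹ = σ * c := by
      calc c * σ⁻¹ = c * (c * σ * c) := by rw [B.csc]
        _ = (c * c) * σ * c := by group
        _ = σ * c := by rw [B.c2, one_mul]
    calc c * u * c * σ = c * u * σ⁻¹ * c := by rw [mul_assoc (c * u), h1, ← mul_assoc]
      _ = c * σ⁻¹ * u * c := by
          have : u * σ⁻¹ = σ⁻¹ * u := (Commute.inv_left (mem_cent.1 B.σK.2 : Commute σ u)).symm
          rw [mul_assoc c u, this, ← mul_assoc]
      _ = σ * (c * u * c) := by rw [h2]; group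
  · have h4 : (u * c) ^ 4 = z := B.uc4
    have hx2 := conj_invol B.c2 B.four.uu
    have hu : u * z = z * u := B.four.comm.symm
    calc c * u * c * u * (c * u * c) = u * ((u * c) * (u * c) * (u * c) * (u * c)) := by
          rw [show u * (u * c * (u * c) * (u * c) * (u * c)) = (u * u) * (c * u * c * u * (c * u * c)) by group,
            B.four.uu, one_mul]
      _ = u * z := by rw [← h4]; simp only [pow_succ, pow_zero, one_mul, mul_assoc]

/-- An involution of `Q'` centralizing `σ` and moving `z`. -/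
theorem Base.exists_point : ∃ p : G, p ∈ Q' ∧ p * p = 1 ∧ p * σ = σ * p ∧ p * u = u * p ∧
    p * z * p = z * u ∧ p * z ≠ z * p := by
  have F := B.four
  obtain ⟨-, q, hq, hqz⟩ := F.symm.card_fix ⟨B.σK.2, B.σK.1⟩ B.σ3 B.σ1
  have hqu : q * u = u * q := mem_cent.1 (F.hu.loc.le hq.1)
  have hzσ : z * σ = σ * z := (mem_cent.1 B.σK.1).symm
  have hqσ : q * σ = σ * q := mem_cent.1 hq.2
  have hqzq : q * z * q⁻¹ = z * u := by
    rcases comm_cases F.hu.loc hq.1 F.mem' with e | e
    · exact absurd (mul_inv_eq_iff_eq_mul.1 e) hqz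
    · exact e
  rcases sq_cases F.hu.loc hq.1 with e | e
  · refine ⟨q, hq.1, e, hqσ, hqu, ?_, hqz⟩
    rw [← hqzq, inv_eq_of_mul_eq_one_right e]
  · have hqi : q⁻¹ = q * u := inv_eq_of_mul_eq_one_right (by rw [← mul_assoc, e, F.uu])
    refine ⟨q * z, mul_mem hq.1 F.mem', ?_, ?_, ?_, ?_, ?_⟩
    · calc q * z * (q * z) = (q * z * q⁻¹) * (q * q) * z := by group
        _ = z * (u * u) * z := by rw [hqzq, e]; group
        _ = 1 := by rw [F.uu, mul_one, F.hz.loc.zz]
    · rw [mul_assoc, hzσ, ← mul_assoc, hqσ, mul_assoc]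
    · rw [mul_assoc, F.comm, ← mul_assoc, hqu, mul_assoc]
    · calc q * z * z * (q * z) = q * (z * z) * q * z := by group
        _ = u * z := by rw [F.hz.loc.zz, mul_one, e]
        _ = z * u := F.comm.symm
    · intro h
      refine hqz ?_
      calc q * z = q * z * z * z := by rw [mul_assoc (q * z), F.hz.loc.zz, mul_one]
        _ = z * (q * z) * z := by rw [h]
        _ = z * q * (z * z) := by group
        _ = z * q := by rw [F.hz.loc.zz, mul_one]

/-- The rotation relation. -/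
theorem Base.rot {p : G} (hp2 : p * p = 1) (hpσ : p * σ = σ * p) (hpu : p * u = u * p)
    (hpz : p * z * p = z * u) : (p * (wC v σ * u * wC v σ)) ^ 3 = 1 := by
  have F := B.four
  obtain ⟨hwQ, hwσ, hwu⟩ := B.u_move
  have hx2 := conj_invol B.c2 F.uu
  set x := wC v σ * u * wC v σ with hx
  have hxi : x⁻¹ = x := inv_eq_of_mul_eq_one_right hx2
  have hpi : p⁻¹ = p := inv_eq_of_mul_eq_one_right hp2
  have hxz : x * z * x = z := by rw [mem_cent.1 (F.hz.loc.le hwQ), mul_assoc, hx2, mul_one]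
  set g := p * x with hg
  have gz : g * z * g⁻¹ = z * u := by
    rw [hg, mul_inv_rev, hxi, hpi]
    calc p * x * z * (x * p) = p * (x * z * x) * p := by group
      _ = z * u := by rw [hxz, hpz]
  have pup : p * u * p = u := by rw [hpu, mul_assoc, hp2, mul_one]
  have gu : g * u * g⁻¹ = z := by
    rw [hg, mul_inv_rev, hxi, hpi]
    calc p * x * u * (x * p) = p * (x * u * x) * p := by group
      _ = (p * u * p) * (p * z * p) := by
          rw [hwu, show p * u * p * (p * z * p) = p * u * (p * p) * z * p by group, hp2, mul_one,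
            mul_assoc p u z]
      _ = z := by rw [pup, hpz, F.comm, ← mul_assoc, F.uu, one_mul]
  have gzu : g * (z * u) * g⁻¹ = u := by
    rw [show g * (z * u) * g⁻¹ = (g * z * g⁻¹) * (g * u * g⁻¹) by group, gz, gu, F.comm, mul_assoc,
      F.hz.loc.zz, mul_one]
  set a := g ^ 3 with ha
  have az : a * z * a⁻¹ = z := by
    calc a * z * a⁻¹ = g * (g * (g * z * g⁻¹) * g⁻¹) * g⁻¹ := by rw [ha, pow_three]; group
      _ = z := by rw [gz, gzu, gu]
  have au : a * u * a⁻¹ = u := by
    calc a * u * a⁻¹ = g * (g * (g * u * g⁻¹) * g⁻¹) * g⁻¹ := by rw [ha, pow_three]; group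
      _ = u := by rw [gu, gz, gzu]
  have aσ : Commute a σ := (Commute.mul_left hpσ hwσ).pow_left 3
  have haC : a ∈ centralizer ({z} : Set G) := mem_cent.2 (mul_inv_eq_iff_eq_mul.1 az)
  obtain ⟨d, hd, s, hs, e⟩ := F.mem_fix_mul B.σK B.σ3 B.σ1 haC aσ
  obtain ⟨T, hTK, -, -, hAT, -, -, -, hdec, -⟩ := F.exists_top
  have hsu : s ∈ centralizer ({u} : Set G) := zpowers_le.2 B.σK.2 hs
  have hdu : d ∈ centralizer ({u} : Set G) := by
    have hau : a ∈ centralizer ({u} : Set G) := mem_cent.2 (mul_inv_eq_iff_eq_mul.1 au)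
    rw [show d = a * s⁻¹ by rw [e, mul_inv_cancel_right]]
    exact mul_mem hau (inv_mem hsu)
  have hdV : d ∈ Q ⊓ Q' := F.fpf hTK hdec B.σK B.σ3 B.σ1 (hAT ⟨hd.1, hdu⟩) (v := 1) (one_mem _)
    (by rw [one_mul, ← mem_cent.1 hd.2, mul_inv_cancel_right])
  have hgs : Commute g s := by
    obtain ⟨n, rfl⟩ := hs
    exact (Commute.mul_left hpσ hwσ).zpow_right n
  have hga : g * a * g⁻¹ = a := by rw [ha, ← pow_succ', pow_succ, mul_inv_cancel_right]
  have hgd : g * d * g⁻¹ = d := by
    rw [show d = a * s⁻¹ by rw [e, mul_inv_cancel_right]]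
    calc g * (a * s⁻¹) * g⁻¹ = (g * a * g⁻¹) * (g * s⁻¹ * g⁻¹) := by group
      _ = a * s⁻¹ := by rw [hga, hgs.inv_right.eq, mul_inv_cancel_right]
  have hd1 : d = 1 := by
    rcases F.mem_inf.1 hdV with h | h | h | h
    · exact h
    · rw [h, gz] at hgd; exact absurd (mul_eq_left.1 hgd) F.u_ne
    · rw [h, gu] at hgd; exact absurd hgd.symm F.ne
    · rw [h, ← F.comm, gzu] at hgd; exact absurd (right_eq_mul.1 hgd) F.hz.loc.z_ne
  rw [hd1, one_mul] at e
  have hps : Commute p s := by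
    obtain ⟨n, rfl⟩ := hs
    exact (show Commute p σ from hpσ).zpow_right n
  have hgi : p * g * p = g⁻¹ := by
    rw [hg, mul_inv_rev, hxi, hpi, ← mul_assoc p p x, hp2, one_mul]
  have hpa : p * a * p = a⁻¹ := by
    rw [ha, ← inv_pow, ← hgi, pow_three, pow_three]
    calc p * (g * (g * g)) * p = (p * g) * 1 * g * 1 * (g * p) := by group
      _ = _ := by rw [← hp2]; group
  have hsq : s * s = 1 := by
    rw [e, hps.eq, mul_assoc, hp2, mul_one] at hpa
    conv_lhs => arg 2; rw [hpa]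
    exact mul_inv_cancel s
  rw [e]
  exact F.sq_one_of_three hs B.σ3 hsq

end CfsgLib.Recog.J3T
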