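import Cfsg.Agent.Lib.Recog.JankoTwoType.Classes
import Cfsg.Agent.Lib.ThreeTrans.WidthOneThm
import Mathlib

/-!
Owner: helper29. In a simple group an involution centralizer `2^{1+4}` extended by the alternating
group of degree five has its extraspecial subgroup self-centralizing.
-/

set_option autoImplicit false
set_option linter.all false

namespace CfsgLib.Recog.J3T

open Subgroup Cfsg CfsgLib.Recog CfsgLib.Recog.HJType
open scoped commutatorElement

local notation "A5" => alternatingGroup (Fin 5)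

theorem five_four : ∀ g : A5, g ^ 4 = 1 → g ^ 2 = 1 := by decide +kernel

theorem five_sq_of_two {g : A5} {m : ℕ} (h : g ^ 2 ^ m = 1) : g * g = 1 := by
  have h60 : g ^ 60 = 1 := by
    have := pow_card_eq_one' (x := g)
    rwa [show Nat.card A5 = 60 by rw [Nat.card_eq_fintype_card]; decide +kernel] at this
  have hg := pow_gcd_eq_one.2 ⟨h, h60⟩
  have h4 : g ^ 4 = 1 := by
    obtain ⟨r, hr⟩ : Nat.gcd (2 ^ m) 60 ∣ 4 := by
      refine Nat.Coprime.dvd_of_dvd_mul_right (n := 15) ?_ (show Nat.gcd (2 ^ m) 60 ∣ 4 * 15 from Nat.gcd_dvd_right _ 60)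
      exact Nat.Coprime.coprime_dvd_left (Nat.gcd_dvd_left _ _) (Nat.Coprime.pow_left m (by norm_num))
    rw [hr, pow_mul, hg, one_pow]
  rw [← sq]; exact five_four g h4

variable {G : Type*} [Group G] [Finite G]

/-- A conjugate of a non-central involution of a simple group in its centralizer. -/
theorem exists_conj_commuting [IsSimpleGroup G] {t : G} (ht : orderOf t = 2)
    (hnc : ∃ x : G, x * t ≠ t * x) :
    ∃ g : G, g * t * g⁻¹ ∈ centralizer ({t} : Set G) ∧ g * t * g⁻¹ ≠ t := by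
  classical
  haveI : Fact (Nat.Prime 2) := ⟨Nat.prime_two⟩
  by_contra hcon
  push Not at hcon
  have hz : IsPGroup 2 (zpowers t) := IsPGroup.of_card (n := 1) (by rw [Nat.card_zpowers, ht, pow_one])
  obtain ⟨P, hP⟩ := hz.exists_le_sylow
  have htP : t ∈ (P : Subgroup G) := hP (mem_zpowers t)
  set P₁ : Subgroup (P : Subgroup G) := (centralizer ({t} : Set G)).subgroupOf P with hP₁
  have hnorm : normalizer (P₁ : Set (P : Subgroup G)) = P₁ := by
    refine le_antisymm (fun x hx => ?_) le_normalizer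
    have h1 : x * ⟨t, htP⟩ * x⁻¹ ∈ P₁ :=
      (mem_normalizer_iff.1 hx ⟨t, htP⟩).1 (mem_subgroupOf.2 (mem_cent.2 rfl))
    have h2 := hcon (x : G) (mem_subgroupOf.1 h1)
    exact mem_subgroupOf.2 (mem_cent.2 (mul_inv_eq_iff_eq_mul.1 h2))
  haveI := P.isPGroup'.isNilpotent
  have htop : P₁ = ⊤ :=
    normalizerCondition_iff_only_full_group_self_normalizing.1 normalizerCondition_of_isNilpotent P₁ hnorm
  have hiso : ∀ g : G, g * t * g⁻¹ ∈ (P : Subgroup G) → g * t * g⁻¹ = t := by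
    intro g hg
    have : (⟨_, hg⟩ : (P : Subgroup G)) ∈ P₁ := htop ▸ mem_top _
    exact hcon g (mem_subgroupOf.1 this)
  obtain ⟨N, hN, hodd, hNc⟩ := CfsgLib.ThreeTrans.isolatedInvolution G P t ht htP hiso
  rcases hN.eq_bot_or_eq_top with e | e
  · obtain ⟨x, hx⟩ := hnc
    have := hNc x
    rw [e, mem_bot, mul_inv_eq_one, mul_inv_eq_iff_eq_mul] at this
    exact hx this.symm
  · have h2 : 2 ∣ Nat.card N := by
      rw [e, card_top]
      exact ht ▸ orderOf_dvd_natCard t
    exact (Nat.not_even_iff_odd.2 hodd) (even_iff_two_dvd.2 h2)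

section
variable {t : G} {Q : Subgroup G}

theorem comm_pair (hX : IsExtraspecial 2 ↥Q) {tq : Q} (htq : tq ∈ center Q) (htq1 : tq ≠ 1) {a b : G}
    (ha : a ∈ Q) (hb : b ∈ Q) : a * b * a⁻¹ * b⁻¹ = 1 ∨ a * b * a⁻¹ * b⁻¹ = (tq : G) := by
  have hc := CfsgLib.PGroups.IsExtraspecial.comm_mem hX (⟨a, ha⟩ : Q) ⟨b, hb⟩
  rcases MinusThirtyTwo.center_cases hX htq htq1 hc with c | c <;>
    have c' := congrArg Subtype.val c <;>
    simp [commutatorElement_def] at c'
  · exact Or.inl (by simpa [mul_assoc] using c')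
  · exact Or.inr (by simpa [mul_assoc] using c')

/-- The extraspecial subgroup contains its centralizer. -/
theorem self_of_simple [IsSimpleGroup G] (ht : orderOf t = 2) (hle : Q ≤ centralizer ({t} : Set G))
    (hX : IsExtraspecial 2 ↥Q) (hcard : Nat.card Q = 32)
    (π : ↥(centralizer ({t} : Set G)) →* A5) (hπ : Function.Surjective π)
    (hker : ∀ c, π c = 1 ↔ (c : G) ∈ Q) :
    ∀ x ∈ centralizer ({t} : Set G), (∀ q ∈ Q, x * q = q * x) → x ∈ Q := by
  classical
  intro x hxC hx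
  by_contra hxQ
  haveI : IsSimpleGroup A5 := alternatingGroup.isSimpleGroup_five
  obtain ⟨tt, t1⟩ := inv_pair ht
  have htC : t ∈ (centralizer ({t} : Set G)) := mem_cent.2 rfl
  -- `t` lies in `Q`
  have htQ : t ∈ Q := by
    have hc : π ⟨t, htC⟩ ∈ center A5 := mem_center_iff.2 fun a => by
      obtain ⟨y, rfl⟩ := hπ a
      rw [← map_mul, ← map_mul]
      exact congrArg π (Subtype.ext (mem_cent.1 y.2))
    rcases (inferInstance : (center A5).Normal).eq_bot_or_eq_top with e | e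
    · exact (hker _).1 (mem_bot.1 (e ▸ hc))
    · exfalso
      obtain ⟨a, b, hab⟩ : ∃ a b : A5, a * b ≠ b * a := by decide +kernel
      exact hab (mem_center_iff.1 (e ▸ mem_top b) a)
  have htq : (⟨t, htQ⟩ : Q) ∈ center Q := mem_center_iff.2 fun q => Subtype.ext (mem_cent.1 (hle q.2))
  have htq1 : (⟨t, htQ⟩ : Q) ≠ 1 := fun e => t1 (congrArg Subtype.val e)
  have cp : ∀ {a b : G}, a ∈ Q → b ∈ Q → a * b * a⁻¹ * b⁻¹ = 1 ∨ a * b * a⁻¹ * b⁻¹ = t := fun ha hb =>
    comm_pair hX htq htq1 ha hb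
  have cen : ∀ {a : G}, a ∈ Q → (∀ q ∈ Q, a * q = q * a) → a = 1 ∨ a = t := fun ha hall =>
    (MinusThirtyTwo.center_cases hX htq htq1 (show (⟨_, ha⟩ : Q) ∈ center Q from
      mem_center_iff.2 fun q => Subtype.ext (hall q q.2).symm)).imp (congrArg Subtype.val) (congrArg Subtype.val)
  -- the centralizer of `Q` covers the quotient
  set K : Subgroup (centralizer ({t} : Set G)) := (centralizer (Q : Set G)).subgroupOf (centralizer ({t} : Set G)) with hK
  haveI hKn : K.Normal := by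
    refine ⟨fun k hk c => mem_subgroupOf.2 (mem_centralizer_iff.2 fun q hq => ?_)⟩
    have hk' := mem_centralizer_iff.1 (mem_subgroupOf.1 hk)
    have hq' : (c : G)⁻¹ * q * c ∈ Q := by
      have h1 := (hker (c⁻¹ * ⟨q, hle hq⟩ * c)).1 (by
        rw [map_mul, map_mul, (hker ⟨q, hle hq⟩).2 hq, mul_one, ← map_mul, inv_mul_cancel, map_one])
      simpa using h1
    show q * ((c : G) * k * (c : G)⁻¹) = (c : G) * k * (c : G)⁻¹ * q
    calc q * ((c : G) * k * (c : G)⁻¹) = c * (((c : G)⁻¹ * q * c) * k) * (c : G)⁻¹ := by group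
      _ = c * ((k : G) * ((c : G)⁻¹ * q * c)) * (c : G)⁻¹ := by rw [hk' _ hq']
      _ = (c : G) * k * (c : G)⁻¹ * q := by group
  have hxK : (⟨x, hxC⟩ : (centralizer ({t} : Set G))) ∈ K := mem_subgroupOf.2 (mem_centralizer_iff.2 fun q hq => (hx q hq).symm)
  have htop : K.map π = ⊤ := by
    rcases (hKn.map π hπ).eq_bot_or_eq_top with e | e
    · have hm : π ⟨x, hxC⟩ ∈ K.map π := ⟨_, hxK, rfl⟩
      rw [e] at hm
      exact absurd ((hker _).1 (mem_bot.1 hm)) hxQ
    · exact e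
  have split : ∀ a ∈ (centralizer ({t} : Set G)), ∃ e ∈ Q, ∃ (k : (centralizer ({t} : Set G))), k ∈ K ∧ a = e * k := by
    intro a ha
    obtain ⟨k, hk, hπk⟩ := (htop.symm ▸ mem_top (π ⟨a, ha⟩) : π ⟨a, ha⟩ ∈ K.map π)
    refine ⟨((⟨a, ha⟩ * k⁻¹ : (centralizer ({t} : Set G))) : G), (hker _).1 (by rw [map_mul, map_inv, hπk, mul_inv_cancel]), k, hk, ?_⟩
    simp
  -- commutators inside two-subgroups
  have two_comm : ∀ a ∈ (centralizer ({t} : Set G)), ∀ b ∈ (centralizer ({t} : Set G)), ∀ P : Subgroup G, IsPGroup 2 P → a ∈ P → b ∈ P → P ≤ (centralizer ({t} : Set G)) →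
      a * b * a⁻¹ * b⁻¹ = 1 ∨ a * b * a⁻¹ * b⁻¹ = t := by
    intro a haC b hbC P hP haP hbP hPC
    have sq2 : ∀ y (hy : y ∈ P), π ⟨y, hPC hy⟩ * π ⟨y, hPC hy⟩ = 1 := by
      intro y hy
      obtain ⟨m, hm⟩ := hP ⟨y, hy⟩
      refine five_sq_of_two (m := m) ?_
      rw [← map_pow, show (⟨y, hPC hy⟩ : (centralizer ({t} : Set G))) ^ 2 ^ m = 1 from Subtype.ext (congrArg Subtype.val hm :), map_one]
    have hcom : π ⟨a, haC⟩ * π ⟨b, hbC⟩ = π ⟨b, hbC⟩ * π ⟨a, haC⟩ := by
      have h1 := sq2 a haP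
      have h2 := sq2 b hbP
      have h3 := sq2 (a * b) (mul_mem haP hbP)
      rw [show (⟨a * b, hPC (mul_mem haP hbP)⟩ : (centralizer ({t} : Set G))) = ⟨a, haC⟩ * ⟨b, hbC⟩ from rfl, map_mul] at h3
      rw [eq_inv_of_mul_eq_one_left h3, mul_inv_rev, inv_eq_of_mul_eq_one_right h1, inv_eq_of_mul_eq_one_right h2]
    obtain ⟨e, he, k, hk, rfl⟩ := split a haC
    obtain ⟨e', he', k', hk', rfl⟩ := split b hbC
    have ek : ∀ {q : G} {l : (centralizer ({t} : Set G))}, q ∈ Q → l ∈ K → q * (l : G) = l * q := fun hq hl =>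
      mem_centralizer_iff.1 (mem_subgroupOf.1 hl) _ hq
    have hck : π k * π k' = π k' * π k := by
      have e1 : π ⟨e * k, haC⟩ = π k := by
        rw [show (⟨e * k, haC⟩ : (centralizer ({t} : Set G))) = ⟨e, hle he⟩ * k from rfl, map_mul, (hker ⟨e, hle he⟩).2 he, one_mul]
      have e2 : π ⟨e' * k', hbC⟩ = π k' := by
        rw [show (⟨e' * k', hbC⟩ : (centralizer ({t} : Set G))) = ⟨e', hle he'⟩ * k' from rfl, map_mul, (hker ⟨e', hle he'⟩).2 he', one_mul]
      rwa [e1, e2] at hcom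
    have hkQ : (k : G) * k' * (k : G)⁻¹ * (k' : G)⁻¹ ∈ Q := by
      have := (hker (k * k' * k⁻¹ * k'⁻¹)).1 (by
        rw [map_mul, map_mul, map_mul, map_inv, map_inv, hck, mul_inv_cancel_right, mul_inv_cancel])
      simpa using this
    have hk1 : (k : G) * k' * (k : G)⁻¹ * (k' : G)⁻¹ = 1 ∨ (k : G) * k' * (k : G)⁻¹ * (k' : G)⁻¹ = t :=
      cen hkQ fun q hq => (show Commute q _ from
        (Commute.mul_right (Commute.mul_right (Commute.mul_right (ek hq hk) (ek hq hk'))
          (Commute.inv_right (ek hq hk))) (Commute.inv_right (ek hq hk')))).symm.eq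
    have key : e * k * (e' * k') * (e * k)⁻¹ * (e' * k')⁻¹ =
        (e * e' * e⁻¹ * e'⁻¹) * ((k : G) * k' * (k : G)⁻¹ * (k' : G)⁻¹) := by
      have c1 : Commute e' (k : G) := ek he' hk
      have c2 : Commute e (k' : G) := ek he hk'
      have c3 : Commute e (k : G) := ek he hk
      have c4 : Commute e' (k' : G) := ek he' hk'
      have cE : ∀ q ∈ Q, Commute q ((k : G) * k' * (k : G)⁻¹ * (k' : G)⁻¹) := fun q hq =>
        (Commute.mul_right (Commute.mul_right (Commute.mul_right (ek hq hk) (ek hq hk'))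
          (Commute.inv_right (ek hq hk))) (Commute.inv_right (ek hq hk')))
      calc e * k * (e' * k') * (e * k)⁻¹ * (e' * k')⁻¹
          = e * ((k : G) * e') * k' * ((k : G)⁻¹ * e⁻¹) * ((k' : G)⁻¹ * e'⁻¹) := by group
        _ = e * (e' * k) * k' * (k : G)⁻¹ * (e⁻¹ * (k' : G)⁻¹) * e'⁻¹ := by rw [← c1.eq]; group
        _ = e * e' * ((k : G) * k' * (k : G)⁻¹ * (k' : G)⁻¹) * e⁻¹ * e'⁻¹ := by
            rw [(c2.inv_left.inv_right).eq]; group
        _ = e * e' * (((k : G) * k' * (k : G)⁻¹ * (k' : G)⁻¹) * (e⁻¹ * e'⁻¹)) := by group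
        _ = _ := by rw [← (cE _ (mul_mem (Q.inv_mem he) (Q.inv_mem he'))).eq]; group
    rw [key]
    rcases cp he he' with h1 | h1 <;> rcases hk1 with h2 | h2 <;> rw [h1, h2]
    · exact Or.inl (one_mul 1)
    · exact Or.inr (one_mul t)
    · exact Or.inr (mul_one t)
    · exact Or.inl tt
  -- a second conjugate in the centralizer
  obtain ⟨g, hgC, hgne⟩ := exists_conj_commuting ht (by
    by_contra hall
    push Not at hall
    rcases (inferInstance : (center G).Normal).eq_bot_or_eq_top with e | e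
    · exact t1 (mem_bot.1 (e ▸ mem_center_iff.2 hall))
    · obtain ⟨a, b, hab⟩ : ∃ a b : A5, a * b ≠ b * a := by decide +kernel
      obtain ⟨y, rfl⟩ := hπ a
      obtain ⟨w, rfl⟩ := hπ b
      refine hab ?_
      rw [← map_mul, ← map_mul]
      exact congrArg π (Subtype.ext (mem_center_iff.1 (show (w : G) ∈ center G from e ▸ mem_top _) (y : G))))
  set s := g * t * g⁻¹ with hs
  obtain ⟨e₀, he₀, k₀, hk₀, hse⟩ := split s hgC
  have hcomm : ∀ q ∈ Q, q * e₀ = e₀ * q → q * s = s * q := by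
    intro q hq h
    rw [hse, ← mul_assoc, h, mul_assoc, mem_centralizer_iff.1 (mem_subgroupOf.1 hk₀) q hq, ← mul_assoc]
  -- two fixed elements which do not commute
  obtain ⟨a, ha, b, hb, hae, hbe, hab⟩ : ∃ a ∈ Q, ∃ b ∈ Q, a * e₀ = e₀ * a ∧ b * e₀ = e₀ * b ∧ a * b ≠ b * a := by
    by_contra hno
    push Not at hno
    have mulc : ∀ {a a' q : G}, a ∈ Q → a' ∈ Q → q ∈ Q → a * q ≠ q * a → a' * q ≠ q * a' →
        a * a' * q = q * (a * a') := by
      intro a a' q ha ha' hq h1 h2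
      have e1 : a * q * a⁻¹ * q⁻¹ = t := (cp ha hq).resolve_left fun e =>
        h1 (mul_inv_eq_iff_eq_mul.1 (mul_inv_eq_one.1 e))
      have e2 : a' * q * a'⁻¹ * q⁻¹ = t := (cp ha' hq).resolve_left fun e =>
        h2 (mul_inv_eq_iff_eq_mul.1 (mul_inv_eq_one.1 e))
      have hta : Commute a t := mem_cent.1 (hle ha)
      have f1 : a * q * a⁻¹ = t * q := mul_inv_eq_iff_eq_mul.1 e1
      have f2 : a' * q * a'⁻¹ = t * q := mul_inv_eq_iff_eq_mul.1 e2
      refine mul_inv_eq_iff_eq_mul.1 ?_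
      calc a * a' * q * (a * a')⁻¹ = a * (a' * q * a'⁻¹) * a⁻¹ := by group
        _ = a * t * q * a⁻¹ := by rw [f2]; group
        _ = t * (a * q * a⁻¹) := by rw [hta.eq]; group
        _ = q := by rw [f1, ← mul_assoc, tt, one_mul]
    set S : Set G := {q | q ∈ Q ∧ q * e₀ = e₀ * q} with hS
    obtain ⟨q₁, hq₁, hbig⟩ : ∃ q₁ ∈ Q, (Q : Set G) ⊆ S ∪ (fun w => q₁ * w) '' S := by
      by_cases hall : ∀ q ∈ Q, q * e₀ = e₀ * q
      · exact ⟨1, one_mem _, fun q hq => Or.inl ⟨hq, hall q hq⟩⟩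
      · push Not at hall
        obtain ⟨q₁, hq₁, h1⟩ := hall
        refine ⟨q₁, hq₁, fun q hq => ?_⟩
        by_cases h : q * e₀ = e₀ * q
        · exact Or.inl ⟨hq, h⟩
        · have h1' : q₁⁻¹ * e₀ ≠ e₀ * q₁⁻¹ := fun e =>
            h1 (show Commute q₁ e₀ by simpa using (show Commute q₁⁻¹ e₀ from e).inv_left).eq
          exact Or.inr ⟨q₁⁻¹ * q, ⟨mul_mem (Q.inv_mem hq₁) hq, mulc (Q.inv_mem hq₁) hq he₀ h1' h⟩, by simp⟩
    have hsmall : ∃ a₀ : G, S ⊆ ({1, t, a₀, a₀ * t} : Set G) := by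
      by_cases hc : ∀ q ∈ S, q = 1 ∨ q = t
      · exact ⟨1, fun q hq => by rcases hc q hq with e | e <;> simp [e]⟩
      · push Not at hc
        obtain ⟨a₀, ⟨ha₀, ha₀e⟩, hn1, hnt⟩ := hc
        refine ⟨a₀, fun q ⟨hq, hqe⟩ => ?_⟩
        by_cases hqc : q = 1 ∨ q = t
        · rcases hqc with e | e <;> simp [e]
        · push Not at hqc
          have hcent : ∀ r ∈ Q, a₀⁻¹ * q * r = r * (a₀⁻¹ * q) := by
            intro r hr
            by_cases hre : r * e₀ = e₀ * r
            · have c1 : Commute a₀ r := hno a₀ ha₀ r hr ha₀e hre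
              have c2 : Commute q r := hno q hq r hr hqe hre
              exact (c1.inv_left.mul_left c2).eq
            · have n1 : ∀ w ∈ Q, w * e₀ = e₀ * w → w ≠ 1 → w ≠ t → w * r ≠ r * w := by
                intro w hw hwe hw1 hwt hwr
                refine (cen hw fun y hy => ?_).elim hw1 hwt
                by_cases hye : y * e₀ = e₀ * y
                · exact hno w hw y hy hwe hye
                · have := mulc (Q.inv_mem hr) hy he₀ (fun e => hre
                    (show Commute r e₀ by simpa using (show Commute r⁻¹ e₀ from e).inv_left).eq) hye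
                  have c1 : Commute w (r⁻¹ * y) := hno w hw _ (mul_mem (Q.inv_mem hr) hy) hwe this
                  have c2 : Commute w (r * (r⁻¹ * y)) := (show Commute w r from hwr).mul_right c1
                  simpa using c2.eq
              refine mulc (Q.inv_mem ha₀) hq hr ?_ (n1 q hq hqe hqc.1 hqc.2)
              intro e
              exact n1 a₀ ha₀ ha₀e hn1 hnt
                (show Commute a₀ r by simpa using (show Commute a₀⁻¹ r from e).inv_left).eq
          rcases cen (mul_mem (Q.inv_mem ha₀) hq) hcent with e | e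
          · rw [inv_mul_eq_one] at e; simp [e]
          · rw [inv_mul_eq_iff_eq_mul] at e; simp [e]
    obtain ⟨a₀, ha₀⟩ := hsmall
    have h4 : S.ncard ≤ 4 := by
      refine (Set.ncard_le_ncard ha₀ (Set.toFinite _)).trans ?_
      refine (Set.ncard_insert_le _ _).trans (Nat.add_le_add_right ?_ 1)
      refine (Set.ncard_insert_le _ _).trans (Nat.add_le_add_right ?_ 1)
      refine (Set.ncard_insert_le _ _).trans ?_
      rw [Set.ncard_singleton]
    have := ((Set.ncard_le_ncard hbig (Set.toFinite _)).trans (Set.ncard_union_le _ _)).trans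
      (Nat.add_le_add h4 ((Set.ncard_image_le (Set.toFinite _)).trans h4))
    rw [← Nat.card_coe_set_eq] at this
    change Nat.card Q ≤ 4 + 4 at this
    omega
  -- the commutator of the fixed elements
  have habt : a * b * a⁻¹ * b⁻¹ = t := (cp ha hb).resolve_left fun e =>
    hab (mul_inv_eq_iff_eq_mul.1 (mul_inv_eq_one.1 e))
  set S : Subgroup G := Q ⊓ centralizer ({s} : Set G) with hS
  have hgsC : ∀ y ∈ S, g⁻¹ * y * g ∈ (centralizer ({t} : Set G)) := by
    intro y hy
    refine mem_cent.2 ?_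
    have := mem_cent.1 hy.2
    calc g⁻¹ * y * g * t = g⁻¹ * (y * s) * g := by rw [hs]; group
      _ = g⁻¹ * (s * y) * g := by rw [this]
      _ = t * (g⁻¹ * y * g) := by rw [hs]; group
  have haS : a ∈ S := ⟨ha, mem_cent.2 (hcomm a ha hae)⟩
  have hbS : b ∈ S := ⟨hb, mem_cent.2 (hcomm b hb hbe)⟩
  let P : Subgroup G := S.map (MulAut.conj g⁻¹).toMonoidHom
  have hP : IsPGroup 2 P :=
    ((IsPGroup.of_card (n := 5) (show Nat.card Q = 2 ^ 5 by rw [hcard]; norm_num)).to_le inf_le_left).map _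
  have hPC : P ≤ (centralizer ({t} : Set G)) := by
    rintro _ ⟨y, hy, rfl⟩
    simpa using hgsC y hy
  have key := two_comm (g⁻¹ * a * g) (hgsC a haS) (g⁻¹ * b * g) (hgsC b hbS) P hP
    ⟨a, haS, by simp⟩ ⟨b, hbS, by simp⟩ hPC
  have e : g⁻¹ * a * g * (g⁻¹ * b * g) * (g⁻¹ * a * g)⁻¹ * (g⁻¹ * b * g)⁻¹ = g⁻¹ * t * g := by
    rw [← habt]; group
  rw [e] at key
  rcases key with k1 | k1
  · exact t1 (by
      calc t = g * (g⁻¹ * t * g) * g⁻¹ := by group
        _ = 1 := by rw [k1]; group)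
  · exact hgne (by
      rw [hs]
      calc g * t * g⁻¹ = g * (g⁻¹ * t * g) * g⁻¹ := by rw [k1]
        _ = t := by group)

end

end CfsgLib.Recog.J3T
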