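import Cfsg.Agent.Lib.Recog.JankoTwoUnique.Transfer
import Cfsg.Agent.Lib.Recog.JankoThree.SigmaWords
import Mathlib

/-!
Owner: helper29. The complement and the five inner involutions in the centralizer of `z`.
-/

set_option autoImplicit false
set_option linter.all false
set_option maxRecDepth 8000

namespace CfsgLib.Recog.J3T

open Subgroup Cfsg CfsgLib.Recog CfsgLib.Recog.SporBound
open CfsgLib.Recog.HJType (Local mem_cent ord_two inv_pair invol_conj eq_one_of_pow_odd_two five_invol_conj five_three_cent)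
open CfsgLib.Recog.JTwoU hiding Base exists_base
open scoped commutatorElement

local notation "A5" => alternatingGroup (Fin 5)

variable {G : Type*} [Group G] [Finite G] {z : G} {Q : Subgroup G}

/-- The data of the complement: `v` and `σ` generate it, `σ` and `wW v σ` fix `u`. -/
structure Base (z : G) (Q : Subgroup G) (u : G) (Q' : Subgroup G) (v σ : G) : Prop where
  four : Four z Q u Q'
  σK : σ ∈ centralizer ({z} : Set G) ⊓ centralizer ({u} : Set G)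
  σ3 : σ ^ 3 = 1
  σ1 : σ ≠ 1
  vC : v ∈ centralizer ({z} : Set G)
  v2 : v * v = 1
  vs5 : (v * σ) ^ 5 = 1
  vsQ : v * σ ∉ Q
  wu : wW v σ * u = u * wW v σ
  prod : (u * (v * σ)) ^ 5 = 1

theorem exists_base (h : Hyp z Q) : ∃ (u : G) (Q' : Subgroup G) (v σ : G), Base z Q u Q' v σ := by
  obtain ⟨u, hg, hu2, hu1, hg1⟩ := h.exists_inner
  obtain ⟨Q', F⟩ := h.exists_four hg hu2 hu1 hg1
  obtain ⟨σ, hσ, hσ3, hσ1⟩ := F.exists_three
  obtain ⟨t, ht2, htC, htQ, htu⟩ := F.exists_outer_over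
  set C := centralizer ({z} : Set G) with hC
  obtain ⟨π, hπ, hker⟩ := h.loc.quot
  set σ' : C := ⟨σ, hσ.1⟩
  set t' : C := ⟨t, htC⟩
  have ps1 : π σ' ≠ 1 := fun e => F.sigma_not_mem hσ3 hσ1 ((hker σ').1 e)
  have pt1 : π t' ≠ 1 := fun e => htQ ((hker t').1 e)
  have ps3 : π σ' ^ 3 = 1 := by
    rw [← map_pow, show σ' ^ 3 = 1 from Subtype.ext (by simpa [σ'] using hσ3), map_one]
  have pt2 : π t' * π t' = 1 := by
    rw [← map_mul, show t' * t' = 1 from Subtype.ext ht2, map_one]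
  obtain ⟨-, hWsq, -, hWσ, -, -, -⟩ := F.outer_data ht2 htC htQ htu hσ hσ3 hσ1
  have htW : t ∈ C ⊓ centralizer ({t} : Set G) := ⟨htC, mem_cent.2 rfl⟩
  have hcomm : t * (σ * t * σ⁻¹) = σ * t * σ⁻¹ * t := mem_cent.1 (hWσ t htW).2 |>.symm
  have pcomm : π t' * (π σ' * π t' * (π σ')⁻¹) = π σ' * π t' * (π σ')⁻¹ * π t' := by
    rw [← map_inv, ← map_mul, ← map_mul, ← map_mul, ← map_mul]
    exact congrArg π (Subtype.ext hcomm)
  obtain ⟨x, hx2, hx1, hx5, hxs, hxw⟩ := five_choice (π σ') (π t') ps3 ps1 pt2 pt1 pcomm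
  -- an involution over `x`
  obtain ⟨v', hv'2, hv'C, hv'Q, -⟩ := F.exists_outer_over
  obtain ⟨k, hk⟩ := five_invol_conj (π ⟨v', hv'C⟩) x
    (by rw [← map_mul, show (⟨v', hv'C⟩ : C) * ⟨v', hv'C⟩ = 1 from Subtype.ext hv'2, map_one])
    (fun e => hv'Q ((hker _).1 e)) hx2 hx1
  obtain ⟨k', hk'⟩ := hπ k
  set v₀ : C := k' * ⟨v', hv'C⟩ * k'⁻¹ with hv₀
  have hv₀2 : (v₀ : G) * v₀ = 1 := invol_conj (k' : G) hv'2
  have pv₀ : π v₀ = x := by rw [hv₀, map_mul, map_mul, map_inv, hk', hk]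
  -- the element of order five
  set g₀ : C := v₀ * σ' with hg₀
  have pg₀ : π g₀ = x * π σ' := by rw [hg₀, map_mul, pv₀]
  have hg5Q : ((g₀ ^ 5 : C) : G) ∈ Q := (hker _).1 (by rw [map_pow, pg₀, hx5])
  have h32 : (g₀ ^ 5) ^ 32 = 1 := Subtype.ext (by
    have := pow_card_eq_one' (x := (⟨_, hg5Q⟩ : Q))
    rw [h.loc.card] at this
    rw [SubgroupClass.coe_pow]
    exact congrArg Subtype.val this)
  have p96 : π (g₀ ^ 96) = x * π σ' := by
    rw [map_pow, pg₀, show (96 : ℕ) = 5 * 19 + 1 from rfl, pow_succ, pow_mul, hx5, one_pow, one_mul]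
  have hcase : (g₀ : G) ^ 5 = 1 ∨ (g₀ : G) ^ 5 = z := by
    rw [← SubgroupClass.coe_pow]
    refine five_fix h.loc (g₀ ^ 96).2 ?_ (fun e => hxs (by rw [← p96]; exact (hker _).2 e)) hg5Q (Or.inl ?_)
    · rw [← SubgroupClass.coe_pow, ← pow_mul, show 96 * 5 = 5 * 32 * 3 from rfl, pow_mul, pow_mul, h32,
        one_pow, OneMemClass.coe_one]
    · rw [SubgroupClass.coe_pow, SubgroupClass.coe_pow, ← pow_add, add_comm, pow_add, mul_inv_cancel_right]
  have hzC : z ∈ C := mem_cent.2 rfl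
  obtain ⟨v, hvC, hv2, hv5, pv⟩ : ∃ (v : G) (hvC : v ∈ C), v * v = 1 ∧ (v * σ) ^ 5 = 1 ∧ π ⟨v, hvC⟩ = x := by
    rcases hcase with e | e
    · exact ⟨v₀, v₀.2, hv₀2, e, pv₀⟩
    · have hc1 : (v₀ : G) * z = z * v₀ := mem_cent.1 v₀.2
      have hc2 : σ * z = z * σ := mem_cent.1 hσ.1
      refine ⟨(v₀ : G) * z, mul_mem v₀.2 hzC, ?_, ?_, ?_⟩
      · calc (v₀ : G) * z * ((v₀ : G) * z) = (v₀ : G) * (z * v₀) * z := by group
          _ = ((v₀ : G) * v₀) * (z * z) := by rw [← hc1]; group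
          _ = 1 := by rw [hv₀2, h.loc.zz, one_mul]
      · have e1 : (v₀ : G) * z * σ = (v₀ : G) * σ * z := by rw [mul_assoc, ← hc2, mul_assoc]
        have e2 : Commute ((v₀ : G) * σ) z := Commute.mul_left hc1 hc2
        rw [e1, e2.mul_pow, show ((v₀ : G) * σ) ^ 5 = z from e,
          show z ^ 5 = z * z * (z * z) * z by simp only [pow_succ, pow_zero, one_mul, mul_assoc], h.loc.zz, one_mul, one_mul]
        exact h.loc.zz
      · rw [show (⟨(v₀ : G) * z, mul_mem v₀.2 hzC⟩ : C) = v₀ * ⟨z, hzC⟩ from rfl, map_mul, pv₀,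
          (hker _).2 h.loc.z_mem, mul_one]
  have hgQ : v * σ ∉ Q := fun e => hxs (by
    rw [← pv, ← map_mul]; exact (hker _).2 e)
  obtain ⟨f, fv, fs⟩ := exists_hom hv2 hσ3 hv5
  -- `wW v σ` fixes `u`
  set w := wW v σ with hw
  have hwC : w ∈ C := by
    rw [hw, wW]; exact mul_mem (mul_mem (mul_mem (mul_mem hvC (inv_mem hσ.1)) hvC) hσ.1) hvC
  have pw : π ⟨w, hwC⟩ = wW x (π σ') := by
    rw [← pv, ← map_wW]; exact congrArg π (Subtype.ext (by simp [hw, wW, σ']))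
  have hσu : σ * u * σ⁻¹ = u := by rw [mem_cent.1 hσ.2, mul_inv_cancel_right]
  have hσu' : σ⁻¹ * u * σ = u := by rw [mul_assoc, ← mem_cent.1 hσ.2, inv_mul_cancel_left]
  have htu' : t * u * t⁻¹ = u := by rw [htu, mul_inv_cancel_right]
  have hmod : w * u * w⁻¹ = u ∨ w * u * w⁻¹ = u * z := by
    obtain ⟨k₁, hk₁, hk₁u⟩ : ∃ k₁ : C, π k₁ = π ⟨w, hwC⟩ ∧ (k₁ : G) * u * (k₁ : G)⁻¹ = u := by
      rw [pw]
      rcases hxw with e | e | e <;> rw [e]
      · exact ⟨t', rfl, htu'⟩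
      · refine ⟨σ' * t' * σ'⁻¹, by rw [map_mul, map_mul, map_inv], ?_⟩
        show σ * t * σ⁻¹ * u * (σ * t * σ⁻¹)⁻¹ = u
        calc σ * t * σ⁻¹ * u * (σ * t * σ⁻¹)⁻¹ = σ * (t * (σ⁻¹ * u * σ) * t⁻¹) * σ⁻¹ := by group
          _ = u := by rw [hσu', htu', hσu]
      · refine ⟨σ'⁻¹ * t' * σ', by rw [map_mul, map_mul, map_inv], ?_⟩
        show σ⁻¹ * t * σ * u * (σ⁻¹ * t * σ)⁻¹ = u
        calc σ⁻¹ * t * σ * u * (σ⁻¹ * t * σ)⁻¹ = σ⁻¹ * (t * (σ * u * σ⁻¹) * t⁻¹) * σ := by group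
          _ = u := by rw [hσu, htu', hσu']
    have hq : ((⟨w, hwC⟩ * k₁⁻¹ : C) : G) ∈ Q := (hker _).1 (by rw [map_mul, map_inv, hk₁, mul_inv_cancel])
    have := comm_cases h.loc hq hg
    have e : w * u * w⁻¹ = (w * (k₁ : G)⁻¹) * ((k₁ : G) * u * (k₁ : G)⁻¹) * (w * (k₁ : G)⁻¹)⁻¹ := by group
    rw [e, hk₁u]
    exact this
  have hid : w * (σ * w * σ⁻¹) = σ⁻¹ * w * σ := by
    have := congrArg f std_ids.2.1
    simpa only [map_mul, map_inv, map_wW, fv, fs] using this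
  have hwu : w * u = u * w := by
    rcases hmod with e | e
    · exact mul_inv_eq_iff_eq_mul.1 e
    · exfalso
      have hzσ : σ * z * σ⁻¹ = z := by rw [mem_cent.1 hσ.1, mul_inv_cancel_right]
      have hzσ' : σ⁻¹ * z * σ = z := by rw [mul_assoc, ← mem_cent.1 hσ.1, inv_mul_cancel_left]
      have hzw : w * z * w⁻¹ = z := by rw [mem_cent.1 hwC, mul_inv_cancel_right]
      have e1 : (σ * w * σ⁻¹) * u * (σ * w * σ⁻¹)⁻¹ = u * z := by
        calc (σ * w * σ⁻¹) * u * (σ * w * σ⁻¹)⁻¹ = σ * (w * (σ⁻¹ * u * σ) * w⁻¹) * σ⁻¹ := by group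
          _ = σ * (u * z) * σ⁻¹ := by rw [hσu', e]
          _ = (σ * u * σ⁻¹) * (σ * z * σ⁻¹) := by group
          _ = u * z := by rw [hσu, hzσ]
      have e2 : (σ⁻¹ * w * σ) * u * (σ⁻¹ * w * σ)⁻¹ = u * z := by
        calc (σ⁻¹ * w * σ) * u * (σ⁻¹ * w * σ)⁻¹ = σ⁻¹ * (w * (σ * u * σ⁻¹) * w⁻¹) * σ := by group
          _ = σ⁻¹ * (u * z) * σ := by rw [hσu, e]
          _ = (σ⁻¹ * u * σ) * (σ⁻¹ * z * σ) := by group
          _ = u * z := by rw [hσu', hzσ']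
      have e3 : (σ⁻¹ * w * σ) * u * (σ⁻¹ * w * σ)⁻¹ = u := by
        rw [← hid]
        calc w * (σ * w * σ⁻¹) * u * (w * (σ * w * σ⁻¹))⁻¹
            = w * ((σ * w * σ⁻¹) * u * (σ * w * σ⁻¹)⁻¹) * w⁻¹ := by group
          _ = w * (u * z) * w⁻¹ := by rw [e1]
          _ = (w * u * w⁻¹) * (w * z * w⁻¹) := by group
          _ = u := by rw [e, hzw, mul_assoc, h.loc.zz, mul_one]
      exact h.loc.z_ne (left_eq_mul.1 (e3.symm.trans e2))
  -- normalize the product of the five conjugates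
  set g := v * σ with hgdef
  have hgC : g ∈ C := mul_mem hvC hσ.1
  have huC : u ∈ C := h.loc.le hg
  set P := (u * g) ^ 5 with hP
  have hPQ : P ∈ Q := by
    have : π ((⟨u, huC⟩ * ⟨g, hgC⟩ : C) ^ 5) = 1 := by
      rw [map_pow, map_mul, (hker _).2 hg, one_mul, ← map_pow,
        show (⟨g, hgC⟩ : C) ^ 5 = 1 from Subtype.ext (by simpa using hv5), map_one]
    simpa [hP] using (hker _).1 this
  have hPfix : g * P * g⁻¹ = P ∨ g * P * g⁻¹ = P * z := by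
    have hc : (u * g) * P * (u * g)⁻¹ = P := by
      rw [hP, ← pow_succ', pow_succ, mul_inv_cancel_right]
    have : g * P * g⁻¹ = u⁻¹ * P * u⁻¹⁻¹ := by
      calc g * P * g⁻¹ = u⁻¹ * ((u * g) * P * (u * g)⁻¹) * u⁻¹⁻¹ := by group
        _ = _ := by rw [hc]
    rw [this]
    exact comm_cases h.loc (inv_mem hg) hPQ
  rcases five_fix h.loc hgC hv5 hgQ hPQ hPfix with e | e
  · exact ⟨u, Q', v, σ, F, hσ, hσ3, hσ1, hvC, hv2, hv5, hgQ, hwu, e⟩
  · obtain ⟨Q'', F''⟩ := h.exists_four (mul_mem hg h.loc.z_mem) F.prod_sq F.prod_ne.1 F.prod_ne.2.1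
    refine ⟨u * z, Q'', v, σ, F'', ⟨hσ.1, mem_cent.2 ?_⟩, hσ3, hσ1, hvC, hv2, hv5, hgQ, ?_, ?_⟩
    · exact Commute.mul_right (mem_cent.1 hσ.2) (mem_cent.1 hσ.1)
    · exact Commute.mul_right hwu (mem_cent.1 hwC)
    · have hzc : Commute z (u * g) := (Commute.mul_left (mem_cent.1 huC) (mem_cent.1 hgC)).symm
      rw [show u * z * g = z * (u * g) by rw [mem_cent.1 huC, mul_assoc], hzc.mul_pow, ← hP, e,
        show z ^ 5 = z * z * (z * z) * z by simp only [pow_succ, pow_zero, one_mul, mul_assoc], h.loc.zz, one_mul, one_mul]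
      exact h.loc.zz

end CfsgLib.Recog.J3T
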