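import Cfsg.Agent.Lib.Recog.JankoThree.Central
import Mathlib

/-!
Owner: helper29. Relations of the point, read off in the model.
-/

set_option autoImplicit false
set_option linter.all false
set_option maxRecDepth 8000

namespace CfsgLib.Recog.J3T

open Subgroup Cfsg CfsgLib.Recog CfsgLib.Recog.SporBound
open CfsgLib.Recog.HJType (Local mem_cent ord_two inv_pair invol_conj eq_one_of_pow_odd_two five_invol_conj five_three_cent)
open CfsgLib.Recog.JTwoU hiding Base exists_base
open scoped commutatorElement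

local notation "A5" => alternatingGroup (Fin 5)

variable {G : Type*} [Group G] [Finite G] {z u v σ : G} {Q Q' : Subgroup G} (B : Base z Q u Q' v σ)
include B

theorem Base.word_iff {w w' : List ℕ} (hw : ∀ k ∈ w, k < 7) (hw' : ∀ k ∈ w', k < 7) :
    ev (lett v σ u z 1) w = ev (lett v σ u z 1) w' ↔ ev Model.m w = ev Model.m w' := by
  classical
  set a := lett v σ u z 1 with ha
  set b : ℕ → G × Equiv.Perm (Fin 32) := fun k => (a k, Model.m k) with hb
  have hR : CRels b := by
    refine ⟨fun k => Prod.ext (B.crels.inv k) (m_ext k).1, fun k hk => Prod.ext (B.crels.big k hk) ((m_ext k).2 hk),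
      fun k hk => ?_, fun w hw => ?_⟩
    · refine Prod.ext ?_ ?_
      · refine (B.crels.low k hk).trans ?_
        exact (map_aA (MonoidHom.fst G (Equiv.Perm (Fin 32))) (b 0) (b 1 * b 2) k).symm
      · refine (m_low k hk).trans ?_
        exact (map_aA (MonoidHom.snd G (Equiv.Perm (Fin 32))) (b 0) (b 1 * b 2) k).symm
    · rw [hb, ev_pair, B.crels.rels w hw, Model.m_rels w hw]; rfl
  obtain ⟨hfin, hle⟩ := hR.card_le
  set D := seven b with hD
  haveI := hfin
  set C := centralizer ({z} : Set G) with hC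
  have hmapD : D.map (MonoidHom.fst G (Equiv.Perm (Fin 32))) = C := by
    rw [hC, ← B.seven_eq, hD, seven, seven, MonoidHom.map_closure]
    congr 1
    ext g
    constructor
    · rintro ⟨_, ⟨k, hk, rfl⟩, rfl⟩; exact ⟨k, hk, rfl⟩
    · rintro ⟨k, hk, rfl⟩; exact ⟨b k, ⟨k, hk, rfl⟩, rfl⟩
  let p1 : D →* C := ((MonoidHom.fst G (Equiv.Perm (Fin 32))).comp D.subtype).codRestrict C
    fun d => hmapD ▸ ⟨_, d.2, rfl⟩
  have hsurj : Function.Surjective p1 := by
    rintro ⟨c, hc⟩
    obtain ⟨d, hd, rfl⟩ := hmapD.symm ▸ hc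
    exact ⟨⟨d, hd⟩, rfl⟩
  have hinj : Function.Injective p1 := by
    haveI : Fintype D := Fintype.ofFinite _
    haveI : Fintype C := Fintype.ofFinite _
    refine ((Fintype.bijective_iff_surjective_and_card p1).2 ⟨hsurj, ?_⟩).1
    refine le_antisymm ?_ (Fintype.card_le_of_surjective _ hsurj)
    rw [← Nat.card_eq_fintype_card, ← Nat.card_eq_fintype_card, B.four.hz.loc.card_centralizer]
    exact hle
  have hbD : ∀ w : List ℕ, (∀ k ∈ w, k < 7) → ev b w ∈ D := fun w hw => ev_mem fun k hk => seven_mem b (hw k hk)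
  have key1 : ∀ d ∈ D, ∀ d' ∈ D, d.1 = d'.1 → d = d' := fun d hd d' hd' e =>
    congrArg Subtype.val (hinj (a₁ := ⟨d, hd⟩) (a₂ := ⟨d', hd'⟩) (Subtype.ext e))
  have key2 : ∀ c : G, ((c, (1 : Equiv.Perm (Fin 32))) : G × Equiv.Perm (Fin 32)) ∈ D → c = 1 := by
    intro c hcD
    have hcC : c ∈ C := hmapD ▸ ⟨_, hcD, rfl⟩
    have hconj : ∀ r ∈ C, ∀ x : G, ((x, 1) : G × Equiv.Perm (Fin 32)) ∈ D → (r * x * r⁻¹, 1) ∈ D := by
      intro r hr x hx
      obtain ⟨d, hd, rfl⟩ := hmapD.symm ▸ hr
      have := mul_mem (mul_mem hd hx) (Subgroup.inv_mem _ hd)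
      convert this using 1
      ext1 <;> simp
    have hmul : ∀ x y : G, ((x, 1) : G × Equiv.Perm (Fin 32)) ∈ D → (y, 1) ∈ D → (x * y, 1) ∈ D := by
      intro x y hx hy
      have := mul_mem hx hy
      simpa using this
    have hinv : ∀ x : G, ((x, 1) : G × Equiv.Perm (Fin 32)) ∈ D → (x⁻¹, 1) ∈ D := by
      intro x hx
      have := Subgroup.inv_mem _ hx
      simpa using this
    have hz : ((z, 1) : G × Equiv.Perm (Fin 32)) ∉ D := fun h => Model.z_ne (by
      have := key1 _ (hbD [5] (by simp)) _ h (by simp [hb, ev, ha, lett])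
      have e := congrArg Prod.snd this
      simpa [hb, ev] using e)
    have hloc := B.four.hz.loc
    have hQ : ∀ q ∈ Q, ((q, 1) : G × Equiv.Perm (Fin 32)) ∈ D → q = 1 := by
      intro q hq hqD
      by_contra hq1
      by_cases hqz : q = z
      · exact hz (hqz ▸ hqD)
      · obtain ⟨r, hr, hrq⟩ : ∃ r ∈ Q, r * q * r⁻¹ ≠ q := by
          by_contra hcon
          push Not at hcon
          exact (hloc.center_cases hq fun r hr => (mul_inv_eq_iff_eq_mul.1 (hcon r hr)).symm).elim hq1 hqz
        refine hz ?_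
        have e := ((comm_cases hloc hr hq).resolve_left hrq)
        have := hmul _ _ (hinv q hqD) (hconj r (hloc.le hr) q hqD)
        rwa [e, ← mul_assoc, inv_mul_cancel, one_mul] at this
    refine (fun h => hQ c h hcD) (hloc.self c hcC fun q hq => ?_)
    have h1 : c * q * c⁻¹ * q⁻¹ = 1 := by
      refine hQ _ (mul_mem (hloc.conj_mem c hcC q hq) (Subgroup.inv_mem _ hq)) ?_
      have := hmul _ _ hcD (hconj q (hloc.le hq) _ (hinv c hcD))
      rwa [show c * (q * c⁻¹ * q⁻¹) = c * q * c⁻¹ * q⁻¹ by group] at this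
    exact mul_inv_eq_iff_eq_mul.1 (mul_inv_eq_one.1 h1)
  have hpair := ev_pair a Model.m
  constructor
  · intro e
    have := key1 _ (hbD w hw) _ (hbD w' hw') (by rw [hb, hpair, hpair]; exact e)
    rw [hb, hpair, hpair] at this
    exact congrArg Prod.snd this
  · intro e
    have hd := mul_mem (hbD w hw) (Subgroup.inv_mem _ (hbD w' hw'))
    rw [hb, hpair, hpair] at hd
    have h1 : ((ev a w * (ev a w')⁻¹, 1) : G × Equiv.Perm (Fin 32)) ∈ D := by
      simpa [e] using hd
    exact mul_inv_eq_one.1 (key2 _ h1)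

theorem Base.key_eq {w w' : List ℕ} (hw : ∀ k ∈ w, k < 7) (hw' : ∀ k ∈ w', k < 7)
    (h : Model.key w = Model.key w') : ev (lett v σ u z 1) w = ev (lett v σ u z 1) w' :=
  (B.word_iff hw hw').2 (Model.ev_eq_of_key h)

theorem Base.eq_key {w w' : List ℕ} (hw : ∀ k ∈ w, k < 7) (hw' : ∀ k ∈ w', k < 7)
    (h : ev (lett v σ u z 1) w = ev (lett v σ u z 1) w') : Model.key w = Model.key w' := by
  rw [Model.key, Model.key, (B.word_iff hw hw').1 h]

/-- Every element of `C(z) ∩ C(u)` is one of the listed words. -/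
theorem Base.cv_word {g : G} (hg : g ∈ centralizer ({z} : Set G) ⊓ centralizer ({u} : Set G)) :
    ∃ w ∈ Model.cvWords, g = ev (lett v σ u z 1) w := by
  classical
  haveI := Fintype.ofFinite G
  set a := lett v σ u z 1
  set K := centralizer ({z} : Set G) ⊓ centralizer ({u} : Set G) with hK
  have hmem : ∀ w ∈ Model.cvWords, ev a w ∈ K := by
    intro w hw
    obtain ⟨hc, hlt⟩ := Model.cv_comm w hw
    refine ⟨ev_mem fun k hk => B.zc k (hlt k hk), mem_cent.2 ?_⟩
    have h4 : ∀ k ∈ w ++ [4], k < 7 := by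
      intro k hk
      rcases List.mem_append.1 hk with h | h
      · exact hlt k h
      · simp at h; omega
    have := B.key_eq (w := 4 :: w) (w' := w ++ [4])
      (fun k hk => h4 k (by simp at hk ⊢; tauto)) h4 hc
    rw [ev_cons, ev_append] at this
    exact (show ev a w * u = u * ev a w by simpa [ev, a, lett] using this.symm)
  have hnd : (Model.cvWords.map (ev a)).Nodup := by
    have hw : Model.cvWords.Nodup := List.Nodup.of_map _ Model.cv_nodup
    refine List.Nodup.map_on (fun w hw1 w' hw2 e => ?_) hw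
    exact List.inj_on_of_nodup_map Model.cv_nodup hw1 hw2
      (B.eq_key (Model.cv_comm w hw1).2 (Model.cv_comm w' hw2).2 e)
  set S : Finset G := (Model.cvWords.map (ev a)).toFinset with hS
  have hsub : (S : Set G) ⊆ K := by
    intro x hx
    simp only [hS, List.coe_toFinset, Set.mem_ofPred_eq, List.mem_map] at hx
    obtain ⟨w, hw, rfl⟩ := hx
    exact hmem w hw
  have hcard : Nat.card K ≤ (S : Set G).ncard := by
    rw [B.four.card_cv, Set.ncard_coe_finset, hS, List.toFinset_card_of_nodup hnd, List.length_map,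
      Model.cv_length]
  have heq := Set.eq_of_subset_of_ncard_le hsub (by rw [← Nat.card_coe_set_eq]; exact hcard) (Set.toFinite _)
  have : g ∈ (S : Set G) := heq ▸ hg
  simp only [hS, List.coe_toFinset, Set.mem_ofPred_eq, List.mem_map] at this
  obtain ⟨w, hw, e⟩ := this
  exact ⟨w, hw, e.symm⟩

theorem Base.point_rels {p : G} (hpQ : p ∈ Q') (hp2 : p * p = 1) (hpσ : p * σ = σ * p)
    (hpu : p * u = u * p) (hpz : p * z * p = z * u) :
    p * ev (lett v σ u z 1) Model.xWord * p = ev (lett v σ u z 1) Model.xWord ∧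
      p * wW v σ * p = wY v σ u := by
  classical
  haveI := Fintype.ofFinite G
  have F := B.four
  set a := lett v σ u z 1 with ha
  set L := Q' ⊓ centralizer ({z} : Set G) with hL
  set x := ev a Model.xWord with hx
  have hσi : wD v σ * wC v σ = σ⁻¹ := eq_inv_of_mul_eq_one_left (by
    conv_lhs => arg 2; rw [← B.ids.1]
    rw [show wD v σ * wC v σ * (wC v σ * wD v σ) = wD v σ * (wC v σ * wC v σ) * wD v σ by group, B.c2, mul_one,
      B.d2])
  have e12 : ev a [1, 2] = σ := by rw [← B.ids.1]; simp [ev, ha, lett]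
  have e21 : ev a [2, 1] = σ⁻¹ := by rw [← hσi]; simp [ev, ha, lett]
  have hzL : z ∈ L := ⟨F.mem', mem_cent.2 rfl⟩
  have huL : u ∈ L := ⟨F.hu.loc.z_mem, F.hz.loc.le F.mem⟩
  have hnorm : ∀ c ∈ centralizer ({z} : Set G) ⊓ centralizer ({u} : Set G), ∀ l ∈ L, c * l * c⁻¹ ∈ L :=
    fun c hc l hl => F.symm.left_normal (show c ∈ centralizer ({u} : Set G) ⊓ centralizer ({z} : Set G) from
      ⟨hc.2, hc.1⟩) hl
  -- `x` lies in the subgroup of order sixteen
  obtain ⟨x0, hx0, hx0sq⟩ := F.symm.left_not_elementary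
  have hx0u : x0 * x0 = u := (sq_cases F.hu.loc hx0.1).resolve_left hx0sq
  obtain ⟨w0, hw0, rfl⟩ := B.cv_word ⟨hx0.2, F.hu.loc.le hx0.1⟩
  have hlt0 := (Model.cv_comm w0 hw0).2
  have hk : Model.key (w0 ++ w0) = Model.key [4] :=
    B.eq_key (fun k hk => hlt0 k (by simpa using hk)) (by simp) (by rw [ev_append, hx0u]; simp [ev, ha, lett])
  obtain ⟨s, hs, hks⟩ := List.mem_map.1 (Model.cv_sq w0 hw0 hk)
  obtain ⟨i, hi, r, hr, rfl⟩ := sq_split s hs
  have hgl : ∀ k ∈ Model.gWords.getD i [], k < 7 := by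
    rw [gWords_form]
    have := xWord_lt
    simp only [List.mem_cons, List.not_mem_nil, or_false] at hi
    rcases hi with rfl | rfl | rfl <;> intro k hk <;>
      simp only [List.getD_cons_zero, List.getD_cons_succ, List.mem_append, List.mem_cons, List.not_mem_nil,
        or_false] at hk
    · exact this k hk
    · rcases hk with ((rfl | rfl) | hk) | (rfl | rfl) <;> first | exact this k hk | norm_num
    · rcases hk with ((rfl | rfl) | hk) | (rfl | rfl) <;> first | exact this k hk | norm_num
  have hrl : ∀ k ∈ r, k < 7 := by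
    simp only [List.mem_cons, List.not_mem_nil, or_false] at hr
    rcases hr with rfl | rfl | rfl | rfl <;> simp
  have he := B.key_eq (w := Model.gWords.getD i [] ++ r) (w' := w0)
    (fun k hk => (List.mem_append.1 hk).elim (hgl k) (hrl k)) hlt0 hks
  have hrL : ev a r ∈ L := by
    simp only [List.mem_cons, List.not_mem_nil, or_false] at hr
    rcases hr with rfl | rfl | rfl | rfl
    · exact one_mem _
    · simpa [ev, ha, lett] using hzL
    · simpa [ev, ha, lett] using huL
    · simpa [ev, ha, lett] using mul_mem hzL huL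
  have hgL : ev a (Model.gWords.getD i []) ∈ L := by
    have : ev a (Model.gWords.getD i []) = ev a w0 * (ev a r)⁻¹ := by
      rw [← he, ev_append, mul_inv_cancel_right]
    rw [this]
    exact mul_mem hx0 (Subgroup.inv_mem _ hrL)
  have hσ' : σ⁻¹ ∈ centralizer ({z} : Set G) ⊓ centralizer ({u} : Set G) := Subgroup.inv_mem _ B.σK
  have hxL : x ∈ L := by
    rw [gWords_form] at hgL
    simp only [List.mem_cons, List.not_mem_nil, or_false] at hi
    rcases hi with rfl | rfl | rfl
    · exact hgL
    · simp only [List.getD_cons_zero, List.getD_cons_succ, ev_append, e12, e21] at hgL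
      have := hnorm _ hσ' _ hgL
      rwa [show σ⁻¹ * (σ * ev a Model.xWord * σ⁻¹) * σ⁻¹⁻¹ = x by rw [hx]; group] at this
    · simp only [List.getD_cons_zero, List.getD_cons_succ, ev_append, e12, e21] at hgL
      have := hnorm _ B.σK _ hgL
      rwa [show σ * (σ⁻¹ * ev a Model.xWord * σ) * σ⁻¹ = x by rw [hx]; group] at this
  -- `p` centralizes `x`
  have hpi : p⁻¹ = p := inv_eq_of_mul_eq_one_right hp2
  have hxu : x * u = u * x := mem_cent.1 (F.hu.loc.le hxL.1)
  have hxfix : p * x * p = x := by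
    rcases comm_cases F.hu.loc hpQ hxL.1 with e | e <;> rw [hpi] at e
    · exact e
    · exfalso
      have pσ : p * σ * p = σ := by rw [hpσ, mul_assoc, hp2, mul_one]
      have pσ' : p * σ⁻¹ * p = σ⁻¹ := by
        rw [((show Commute p σ from hpσ).inv_right).eq, mul_assoc, hp2, mul_one]
      have hσu : σ * u = u * σ := mem_cent.1 B.σK.2
      have h1 : p * (σ * x * σ⁻¹) * p = σ * x * σ⁻¹ * u := by
        calc p * (σ * x * σ⁻¹) * p = (p * σ * p) * (p * x * p) * (p * σ⁻¹ * p) := by
              rw [show p * σ * p * (p * x * p) * (p * σ⁻¹ * p) =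
                p * σ * (p * p) * x * (p * p) * σ⁻¹ * p by group, hp2]
              group
          _ = σ * (x * u) * σ⁻¹ := by rw [pσ, pσ', e]
          _ = σ * x * (u * σ⁻¹) := by group
          _ = _ := by rw [← (Commute.inv_left hσu).eq]; group
      have h2 : p * (σ⁻¹ * x * σ) * p = σ⁻¹ * x * σ * u := by
        calc p * (σ⁻¹ * x * σ) * p = (p * σ⁻¹ * p) * (p * x * p) * (p * σ * p) := by
              rw [show p * σ⁻¹ * p * (p * x * p) * (p * σ * p) =
                p * σ⁻¹ * (p * p) * x * (p * p) * σ * p by group, hp2]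
              group
          _ = σ⁻¹ * (x * u) * σ := by rw [pσ, pσ', e]
          _ = σ⁻¹ * x * (u * σ) := by group
          _ = _ := by rw [← hσu]; group
      have hX : x * (σ * x * σ⁻¹) * (σ⁻¹ * x * σ) = u := by
        have hk := B.key_eq (by simp) (by simp) Model.x_prod
        rw [← e21, ← e12]
        simp only [hx, Model.xWord, ev, List.map_cons, List.map_nil, List.prod_cons, List.prod_nil, mul_one,
          mul_assoc] at hk ⊢
        simpa [ha, lett, mul_assoc] using hk
      have hub : ∀ y ∈ L, y * u = u * y := fun y hy => mem_cent.1 (F.hu.loc.le hy.1)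
      have hy1 := hub _ (hnorm _ B.σK _ hxL)
      have hy2 : σ⁻¹ * x * σ * u = u * (σ⁻¹ * x * σ) := by
        have := hub _ (hnorm _ hσ' _ hxL)
        rwa [inv_inv] at this
      refine F.u_ne ?_
      have h3 : p * u * p = u * u := by
        calc p * u * p = p * (x * (σ * x * σ⁻¹) * (σ⁻¹ * x * σ)) * p := by rw [hX]
          _ = (p * x * p) * (p * (σ * x * σ⁻¹) * p) * (p * (σ⁻¹ * x * σ) * p) := by
              rw [show p * x * p * (p * (σ * x * σ⁻¹) * p) * (p * (σ⁻¹ * x * σ) * p) =
                p * x * (p * p) * (σ * x * σ⁻¹) * (p * p) * (σ⁻¹ * x * σ) * p by group, hp2]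
              group
          _ = x * u * (σ * x * σ⁻¹ * u) * (σ⁻¹ * x * σ * u) := by rw [e, h1, h2]
          _ = x * (u * (σ * x * σ⁻¹)) * (u * (σ⁻¹ * x * σ)) * u := by group
          _ = x * (σ * x * σ⁻¹) * (u * u) * (σ⁻¹ * x * σ) * u := by rw [← hy1]; group
          _ = u * u := by rw [F.uu, mul_one, hX, F.uu]
      rw [hpu, mul_assoc, hp2, mul_one, F.uu] at h3
      exact h3
  refine ⟨hxfix, ?_⟩
  -- the image of `w`
  set w := wW v σ with hw
  have hwK : w ∈ centralizer ({z} : Set G) ⊓ centralizer ({u} : Set G) := ⟨B.wC', mem_cent.2 B.wu⟩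
  have hwi : w⁻¹ = w := inv_eq_of_mul_eq_one_right B.w2
  set y0 := p * w * p with hy0
  have hy02 : y0 * y0 = 1 := conj_invol hp2 B.w2
  have hy0z : y0 ∈ centralizer ({z} : Set G) := mem_cent.2 (by
    have hwzu : w * (z * u) = z * u * w := by rw [← mul_assoc, mem_cent.1 B.wC', mul_assoc, B.wu, ← mul_assoc]
    have hpzu : p * (z * u) * p = z := by
      calc p * (z * u) * p = (p * z * p) * (p * u * p) := by
            rw [show p * z * p * (p * u * p) = p * z * (p * p) * u * p by group, hp2]; group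
        _ = z := by rw [hpz, show p * u * p = u by rw [hpu, mul_assoc, hp2, mul_one], mul_assoc, F.uu, mul_one]
    calc p * w * p * z = p * w * (p * z * p) * p⁻¹ := by group
      _ = p * (z * u * w) * p := by rw [hpz, hpi, mul_assoc p w, hwzu]
      _ = (p * (z * u) * p) * (p * w * p) := by
          rw [show p * (z * u) * p * (p * w * p) = p * (z * u) * (p * p) * w * p by group, hp2]; group
      _ = z * (p * w * p) := by rw [hpzu])
  set l := w * y0 with hl
  have hlL : l ∈ L := by
    refine ⟨?_, mul_mem B.wC' hy0z⟩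
    have := mul_mem (F.hu.loc.conj_mem w hwK.2 p hpQ) hpQ
    rw [hwi] at this
    rw [hl, hy0]
    simpa [mul_assoc] using this
  -- the sixteen words
  have hLw : ∀ i : List ℕ, ev a (Model.lWord i) ∈ L := by
    intro i
    unfold Model.lWord
    induction i with
    | nil => exact one_mem _
    | cons j t ih =>
      rw [List.flatMap_cons, ev_append]
      refine mul_mem ?_ ih
      rw [gWords_form]
      rcases j with _ | _ | _ | _ | _ | j
      · exact hxL
      · simp only [List.getD_cons_zero, List.getD_cons_succ, ev_append, e12, e21]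
        exact hnorm _ B.σK _ hxL
      · simp only [List.getD_cons_zero, List.getD_cons_succ, ev_append, e12, e21]
        have := hnorm _ hσ' _ hxL
        rwa [inv_inv] at this
      · simpa [ev, ha, lett] using hzL
      · simpa [ev, ha, lett] using huL
      · simp [ev]
  have hndl : (Model.lIdx.map fun i => ev a (Model.lWord i)).Nodup := by
    have hw : Model.lIdx.Nodup := List.Nodup.of_map _ Model.l_nodup
    refine List.Nodup.map_on (fun i hi i' hi' e => ?_) hw
    exact List.inj_on_of_nodup_map Model.l_nodup hi hi'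
      (B.eq_key (Model.l_range.2 i hi) (Model.l_range.2 i' hi') e)
  set S : Finset G := (Model.lIdx.map fun i => ev a (Model.lWord i)).toFinset with hS
  have hsub : (S : Set G) ⊆ L := by
    intro g hg
    simp only [hS, List.coe_toFinset, Set.mem_ofPred_eq, List.mem_map] at hg
    obtain ⟨i, hi, rfl⟩ := hg
    exact hLw i
  have hcardL : Nat.card L ≤ (S : Set G).ncard := by
    rw [show Nat.card L = 16 from F.symm.left_card, Set.ncard_coe_finset, hS,
      List.toFinset_card_of_nodup hndl, List.length_map, Model.l_range.1]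
  have heq := Set.eq_of_subset_of_ncard_le hsub (by rw [← Nat.card_coe_set_eq]; exact hcardL) (Set.toFinite _)
  have hlS : l ∈ (S : Set G) := heq ▸ hlL
  simp only [hS, List.coe_toFinset, Set.mem_ofPred_eq, List.mem_map] at hlS
  obtain ⟨i, hi, hil⟩ := hlS
  have hlt := Model.l_range.2 i hi
  have e3 : ev a [3] = w := by simp [ev, ha, lett, hw]
  have hy : ev a ([3] ++ Model.lWord i) = y0 := by
    rw [ev_append, e3, hil, hl, ← mul_assoc, B.w2, one_mul]
  have lt1 : ∀ (pre : List ℕ), (∀ k ∈ pre, k < 7) → ∀ k ∈ pre ++ Model.lWord i, k < 7 := fun pre hpre k hk =>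
    (List.mem_append.1 hk).elim (hpre k) (hlt k)
  have lt2 : ∀ (pre post : List ℕ), (∀ k ∈ pre, k < 7) → (∀ k ∈ post, k < 7) → ∀ k ∈ pre ++ post, k < 7 :=
    fun pre post hpre hpost k hk => (List.mem_append.1 hk).elim (hpre k) (hpost k)
  have hsq : Model.key ([3] ++ Model.lWord i ++ [3] ++ Model.lWord i) = Model.key [] := by
    refine B.eq_key (lt1 _ (lt2 _ _ (lt1 _ (by simp)) (by simp))) (by simp) ?_
    rw [List.append_assoc ([3] ++ Model.lWord i), ev_append, hy, hy02, ev_nil]
  have heqv : Model.key ([3] ++ Model.lWord i ++ [1, 2, 3] ++ Model.lWord i ++ [2, 1]) =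
      Model.key ([2, 1, 3] ++ Model.lWord i ++ [1, 2]) := by
    refine B.eq_key (lt2 _ _ (lt1 _ (lt2 _ _ (lt1 _ (by simp)) (by simp))) (by simp))
      (lt2 _ _ (lt1 _ (by simp)) (by simp)) ?_
    have l1 : ev a ([3] ++ Model.lWord i ++ [1, 2, 3] ++ Model.lWord i ++ [2, 1]) = y0 * (σ * y0 * σ⁻¹) := by
      have hW : ∀ W : List ℕ, ev a (W ++ ([1, 2] ++ W ++ [2, 1])) = ev a W * (σ * ev a W * σ⁻¹) := fun W => by
        rw [ev_append, ev_append, ev_append, e12, e21]
      rw [show [3] ++ Model.lWord i ++ [1, 2, 3] ++ Model.lWord i ++ [2, 1] =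
        ([3] ++ Model.lWord i) ++ ([1, 2] ++ ([3] ++ Model.lWord i) ++ [2, 1]) by simp, hW, hy]
    have l2 : ev a ([2, 1, 3] ++ Model.lWord i ++ [1, 2]) = σ⁻¹ * y0 * σ := by
      have hW : ∀ W : List ℕ, ev a ([2, 1] ++ W ++ [1, 2]) = σ⁻¹ * ev a W * σ := fun W => by
        rw [ev_append, ev_append, e12, e21]
      rw [show [2, 1, 3] ++ Model.lWord i ++ [1, 2] = [2, 1] ++ ([3] ++ Model.lWord i) ++ [1, 2] by simp, hW, hy]
    rw [l1, l2, hy0]
    have hps : Commute p σ := hpσ
    have hid := congrArg (fun g => p * g * p) B.ids.2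
    calc p * w * p * (σ * (p * w * p) * σ⁻¹) = p * w * (p * σ) * p * w * (p * σ⁻¹) := by group
      _ = p * w * (σ * (p * p)) * w * (σ⁻¹ * p) := by rw [hps.eq, hps.inv_right.eq]; group
      _ = p * (w * (σ * w * σ⁻¹)) * p := by rw [hp2]; group
      _ = p * (σ⁻¹ * w * σ) * p := hid
      _ = (p * σ⁻¹) * w * (σ * p) := by group
      _ = (σ⁻¹ * p) * w * (p * σ) := by rw [hps.inv_right.eq, hps.eq]
      _ = σ⁻¹ * (p * w * p) * σ := by group
  rcases Model.y_cases i hi hsq heqv with e | e
  · exfalso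
    have e' := B.key_eq (lt1 _ (by simp)) (by simp) e
    rw [hy, e3] at e'
    have hsq2 := B.key_eq (lt2 _ _ (lt2 _ _ (lt2 _ _ xWord_lt (by simp)) xWord_lt) (by simp)) (by simp)
      Model.xw_sq
    rw [ev_append, ev_append, ev_append, e3, show ev a [5, 4] = z * u by simp [ev, ha, lett], ← hx] at hsq2
    have h5 : p * (z * u) * p = z * u := by
      conv_rhs => rw [← hsq2]
      conv_lhs => rw [← hsq2]
      calc p * (x * w * x * w) * p = (p * x * p) * (p * w * p) * (p * x * p) * (p * w * p) := by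
            rw [show p * x * p * (p * w * p) * (p * x * p) * (p * w * p) =
              p * x * (p * p) * w * (p * p) * x * (p * p) * w * p by group, hp2]; group
        _ = x * w * x * w := by rw [hxfix, ← hy0, e']
    have h6 : p * (z * u) * p = z := by
      calc p * (z * u) * p = (p * z * p) * (p * u * p) := by
            rw [show p * z * p * (p * u * p) = p * z * (p * p) * u * p by group, hp2]; group
        _ = z := by rw [hpz, show p * u * p = u by rw [hpu, mul_assoc, hp2, mul_one], mul_assoc, F.uu, mul_one]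
    exact F.u_ne (left_eq_mul.1 (h6.symm.trans h5))
  · have e' := B.key_eq (lt1 _ (by simp)) (by simp) e
    rw [hy] at e'
    rw [e']
    simp [ev, ha, lett]

end CfsgLib.Recog.J3T
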