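import Cfsg.Agent.Lib.Recog.JankoThree.Gens
import Mathlib

/-!
Owner: helper29. Words in the eight letters: reduction, reversal, membership.
-/

set_option autoImplicit false
set_option linter.all false
set_option maxRecDepth 8000

namespace CfsgLib.Recog.J3T

open Subgroup Cfsg CfsgLib.Recog CfsgLib.Recog.SporBound
open CfsgLib.Recog.HJType (Local mem_cent ord_two inv_pair)
open CfsgLib.Recog.JTwoU hiding Base exists_base

/-- Cancels repeated adjacent letters. -/
def red : List ℕ → List ℕ
  | [] => []
  | k :: w => match red w with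
    | [] => [k]
    | h :: t => if k = h then t else k :: h :: t

/-- The word of the special element `(pc)^5`. -/
def kW : List ℕ := [7, 1, 7, 1, 7, 1, 7, 1, 7, 1]

/-- A word in five letters read in the eight letters. -/
def sub (L : List (List ℕ)) (w : List ℕ) : List ℕ := w.flatMap fun i => L.getD i []

/-- A word repeated. -/
def rep (n : ℕ) (w : List ℕ) : List ℕ := (List.replicate n w).flatten

section
variable {M : Type*} [Group M] {a : ℕ → M}

theorem ev_red (h : ∀ k, a k * a k = 1) : ∀ w : List ℕ, ev a (red w) = ev a w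
  | [] => rfl
  | k :: w => by
    have ih := ev_red h w
    rw [ev_cons, ← ih]
    simp only [red]
    cases hw : red w with
    | nil => rw [ev_cons]
    | cons x t =>
      simp only
      by_cases hk : k = x
      · rw [if_pos hk, ev_cons, hk, ← mul_assoc, h, one_mul]
      · rw [if_neg hk, ev_cons]

theorem ev_reverse (h : ∀ k, a k * a k = 1) (w : List ℕ) : ev a w.reverse = (ev a w)⁻¹ :=
  CfsgLib.ThreeTrans.CosetIndex.prod_reverse_eq_inv a h w

theorem ev_rep (w : List ℕ) : ∀ n, ev a (rep n w) = ev a w ^ n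
  | 0 => by rw [pow_zero]; rfl
  | n + 1 => by
    rw [rep, List.replicate_succ, List.flatten_cons, ev_append, pow_succ', ← rep, ev_rep w n]

theorem ev_sub (L : List (List ℕ)) : ∀ w : List ℕ, ev a (sub L w) = ev (fun i => ev a (L.getD i [])) w
  | [] => rfl
  | i :: w => by
    rw [sub, List.flatMap_cons, ev_append, ev_cons, ← sub, ev_sub L w]

theorem ev_map {N : Type*} [Group N] (f : M →* N) (w : List ℕ) : f (ev a w) = ev (fun k => f (a k)) w := by
  rw [ev, ev, map_list_prod, List.map_map]; rfl

theorem ev_single (k : ℕ) : ev a [k] = a k := by simp [ev]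

theorem mem_closure_words (h : ∀ k, a k * a k = 1) {P : ℕ → Prop} {x : M}
    (hx : x ∈ closure {g | ∃ k, P k ∧ g = a k}) : ∃ w : List ℕ, (∀ k ∈ w, P k) ∧ x = ev a w := by
  induction hx using Subgroup.closure_induction with
  | mem g hg => obtain ⟨k, hk, rfl⟩ := hg; exact ⟨[k], by simpa using hk, (ev_single k).symm⟩
  | one => exact ⟨[], by simp, rfl⟩
  | mul g g' _ _ hg hg' =>
    obtain ⟨w, hw, rfl⟩ := hg
    obtain ⟨w', hw', rfl⟩ := hg'
    exact ⟨w ++ w', fun k hk => (List.mem_append.1 hk).elim (hw k) (hw' k), (ev_append a w w').symm⟩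
  | inv g _ hg =>
    obtain ⟨w, hw, rfl⟩ := hg
    exact ⟨w.reverse, fun k hk => hw k (List.mem_reverse.1 hk), (ev_reverse h w).symm⟩

end

variable {G : Type*} [Group G] [Finite G] {z u v σ : G} {Q Q' : Subgroup G}

/-- Everything in the centralizer is a word in the first seven letters. -/
theorem Base.exists_word (B : Base z Q u Q' v σ) {x : G} (hx : x ∈ centralizer ({z} : Set G)) :
    ∃ w : List ℕ, (∀ k ∈ w, k < 7) ∧ x = ev (lett v σ u z 1) w := by
  rw [← B.seven_eq] at hx
  exact mem_closure_words (B.letters_inv (one_mul 1)) (P := fun k => k < 7) hx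

/-- Words in the first seven letters do not see the point. -/
theorem ev_seven (p : G) {w : List ℕ} (hw : ∀ k ∈ w, k < 7) :
    ev (lett v σ u z p) w = ev (lett v σ u z 1) w :=
  ev_congr fun k hk => lett_p v σ u z p (hw k hk)

/-- An equation of words checked in the model. -/
theorem Base.of_key (B : Base z Q u Q' v σ) (p : G) {w w' : List ℕ} (hw : ∀ k ∈ w, k < 7)
    (hw' : ∀ k ∈ w', k < 7) (h : Model.key w = Model.key w') :
    ev (lett v σ u z p) w = ev (lett v σ u z p) w' := by
  rw [ev_seven p hw, ev_seven p hw', B.key_eq hw hw' h]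

theorem Base.mem_C (B : Base z Q u Q' v σ) (p : G) {w : List ℕ} (hw : ∀ k ∈ w, k < 7) :
    ev (lett v σ u z p) w ∈ centralizer ({z} : Set G) := by
  rw [ev_seven p hw]
  exact ev_mem fun k hk => B.zc k (hw k hk)

end CfsgLib.Recog.J3T
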